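import Cfsg.Agent.Lib.JankoFourTen.Linear

/-!
# The self-centralizing elementary abelian subgroups of order 2^10 (owner: helper14)

* `exists_self_two_ten`, `self_two_ten_conj`, `self_two_ten_normalizer`, `self_two_ten_orbits`
-/

set_option autoImplicit false
set_option linter.unusedSectionVars false

namespace CfsgLib.JankoFour

open Cfsg CfsgLib.Sporadic CfsgLib.JankoFourHexad CfsgLib.JankoFour.Ten
open HexBase (Self)

variable {G : Type*} [Group G] [Finite G]

/-- A standard subgroup together with what is known about it. -/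
theorem exists_standard_two_ten [IsSimpleGroup G] (hG : ¬ IsMulCommutative G) (hJ : IsOfJankoFourType G) :
    ∃ A0 : Subgroup G, Self A0 ∧ (∀ A : Subgroup G, Self A → ∃ g : G, A0.map (MulAut.conj g).toMonoidHom = A) ∧
      (∃ C : Subgroup G, C ≤ Subgroup.normalizer (A0 : Set G) ∧ C ⊓ A0 = ⊥ ∧
        C ⊔ A0 = Subgroup.normalizer (A0 : Set G) ∧
        Nonempty (↥C ≃* Matrix.SpecialLinearGroup (Fin 5) (ZMod 2))) ∧
      (∀ W : Subgroup G, W ≤ A0 → Subgroup.normalizer (A0 : Set G) ≤ Subgroup.normalizer (W : Set G) →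
        W = ⊥ ∨ W = A0) ∧
      ∃ a b : G, a ∈ A0 ∧ b ∈ A0 ∧ (conjOrbit (Subgroup.normalizer (A0 : Set G)) a).ncard = 155 ∧
        (conjOrbit (Subgroup.normalizer (A0 : Set G)) b).ncard = 868 := by
  obtain ⟨z, P, hP⟩ := id hJ
  obtain ⟨S, rfl, rfl⟩ := exists_setting hP
  obtain ⟨B⟩ := S.exists_hexBase
  obtain ⟨T⟩ := B.exists_tenBase hG hJ
  obtain ⟨t, ht, ht1, htz⟩ := HexBase.TenBase.exists_duad (B := B) hG hJ
  exact ⟨T.A0, T.A0_self hG hJ, fun A hA => T.conj_A0 hG hJ hA, T.exists_complement_L5 hG hJ,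
    fun W hW hinv => T.irreducible hG hJ hW hinv, T.kk 1, t, T.kk_mem_A0 1, T.octW_le_A0 ht,
    T.ncard_orbit_z hG hJ, T.ncard_orbit_duad hG hJ (T.octW_le_A0 ht) ht1 htz⟩

theorem self_two_ten_conj [IsSimpleGroup G] (hG : ¬ IsMulCommutative G) (hJ : IsOfJankoFourType G)
    {A A' : Subgroup G} (hA : Self A) (hA' : Self A') : ∃ g : G, A' = A.map (MulAut.conj g).toMonoidHom := by
  obtain ⟨A0, -, huniq, -⟩ := exists_standard_two_ten hG hJ
  obtain ⟨g, rfl⟩ := huniq A hA
  obtain ⟨h, rfl⟩ := huniq A' hA'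
  refine ⟨h * g⁻¹, ?_⟩
  ext y
  simp only [mem_map_conj]
  simp [mul_assoc]

theorem self_two_ten_normalizer [IsSimpleGroup G] (hG : ¬ IsMulCommutative G) (hJ : IsOfJankoFourType G)
    {A : Subgroup G} (hA : Self A) :
    (∃ C : Subgroup G, C ≤ Subgroup.normalizer (A : Set G) ∧ C ⊓ A = ⊥ ∧ C ⊔ A = Subgroup.normalizer (A : Set G) ∧
        Nonempty (↥C ≃* Matrix.SpecialLinearGroup (Fin 5) (ZMod 2))) ∧
      ∀ W : Subgroup G, W ≤ A → Subgroup.normalizer (A : Set G) ≤ Subgroup.normalizer (W : Set G) →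
        W = ⊥ ∨ W = A := by
  obtain ⟨A0, -, huniq, ⟨C, hC1, hC2, hC3, ⟨e⟩⟩, hirr, -⟩ := exists_standard_two_ten hG hJ
  obtain ⟨g, rfl⟩ := huniq A hA
  set f := (MulAut.conj g).toMonoidHom
  have hf : Function.Injective f := (MulAut.conj g).injective
  have hN : Subgroup.normalizer ((A0.map f : Subgroup G) : Set G) = (Subgroup.normalizer (A0 : Set G)).map f :=
    (Subgroup.map_equiv_normalizer_eq A0 (MulAut.conj g)).symm
  refine ⟨⟨C.map f, hN ▸ Subgroup.map_mono hC1, by rw [← Subgroup.map_inf _ _ f hf, hC2, Subgroup.map_bot],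
    by rw [← Subgroup.map_sup, hC3, hN], ⟨(C.equivMapOfInjective f hf).symm.trans e⟩⟩, fun W hW hinv => ?_⟩
  have hWle : W.comap f ≤ A0 := fun x hx => by
    obtain ⟨y, hy, e'⟩ := hW (Subgroup.mem_comap.1 hx)
    rwa [← hf e']
  have hWf : (W.comap f).map f = W := Subgroup.map_comap_eq_self_of_surjective (MulAut.conj g).surjective W
  rcases hirr (W.comap f) hWle (fun n hn => by
    have h : f n ∈ Subgroup.normalizer (W : Set G) := hinv (hN ▸ ⟨n, hn, rfl⟩)
    refine Subgroup.mem_normalizer_iff.2 fun x => ?_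
    simp only [Subgroup.mem_comap, map_mul, map_inv]
    exact Subgroup.mem_normalizer_iff.1 h (f x)) with e' | e'
  · left; rw [← hWf, e', Subgroup.map_bot]
  · right; rw [← hWf, e']

theorem self_two_ten_orbits [IsSimpleGroup G] (hG : ¬ IsMulCommutative G) (hJ : IsOfJankoFourType G)
    {A : Subgroup G} (hA : Self A) :
    ∃ a b : G, a ∈ A ∧ b ∈ A ∧ (conjOrbit (Subgroup.normalizer (A : Set G)) a).ncard = 155 ∧
      (conjOrbit (Subgroup.normalizer (A : Set G)) b).ncard = 868 := by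
  obtain ⟨A0, -, huniq, -, -, a, b, ha, hb, h1, h2⟩ := exists_standard_two_ten hG hJ
  obtain ⟨g, rfl⟩ := huniq A hA
  have key : ∀ x : G, (conjOrbit (Subgroup.normalizer ((A0.map (MulAut.conj g).toMonoidHom : Subgroup G) : Set G))
      (g * x * g⁻¹)).ncard = (conjOrbit (Subgroup.normalizer (A0 : Set G)) x).ncard := by
    intro x
    rw [← Set.ncard_image_of_injective (conjOrbit (Subgroup.normalizer (A0 : Set G)) x) (MulAut.conj g).injective]
    congr 1
    ext v
    constructor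
    · rintro ⟨n, hn, rfl⟩
      exact ⟨_, ⟨g⁻¹ * n * g, mem_normalizer_map_conj.1 hn, rfl⟩, by rw [MulAut.conj_apply]; group⟩
    · rintro ⟨_, ⟨m, hm, rfl⟩, rfl⟩
      exact ⟨g * m * g⁻¹, mem_normalizer_map_conj.2 (by simpa [mul_assoc] using hm),
        by rw [MulAut.conj_apply]; group⟩
  exact ⟨g * a * g⁻¹, g * b * g⁻¹, ⟨a, ha, rfl⟩, ⟨b, hb, rfl⟩, (key a).trans h1, (key b).trans h2⟩

end CfsgLib.JankoFour
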