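import Cfsg.Agent.Lib.JankoFourTen.Data
import Cfsg.Agent.Lib.JankoFour.DuadChecks

/-!
# Checks for the self-centralizing subgroup of order 2^10 (owner: helper14)
-/

set_option autoImplicit false
set_option maxRecDepth 100000

namespace CfsgLib.JankoFour.Ten

open Cfsg CfsgLib.Sporadic CfsgLib.JankoFourHexad
open CfsgLib.ThreeTrans.LargeFischer (vI)
open CfsgLib.ThreeTrans.M24Inv (peq)

/-- Entry `k` of a packed list of numbers below 2048. -/
noncomputable def pick (P k : ℕ) : ℕ := Nat.land (Nat.shiftRight P (Nat.mul 11 k)) 2047

/-- The linear map with given packed images of the basis. -/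
noncomputable def limg (P n : ℕ) : ℕ := xorComb (pick P) n 11

/-- The map of a permutation fixing the octad. -/
noncomputable def fImg (s n : ℕ) : ℕ := limg (fixImgs.getD s 0) n

/-- A commutator with a permutation fixing the octad. -/
noncomputable def fComm (s n : ℕ) : ℕ := Nat.xor n (fImg s n)

/-- The element of the span of the duads with a given index. -/
noncomputable def wVal (i : ℕ) : ℕ := xorComb (fun j => wBasis.getD j 0) i 6

/-- The code of two points given by numbers. -/
noncomputable def pcI (i j : ℕ) : ℕ := lamI (Nat.xor (vI i) (vI j))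

/-- The four generators. -/
noncomputable def genIdx (k : ℕ) : ℕ := 2 ^ k

theorem fix_auts : forallLt 16 (fun s => isAut (fixPerms.getD s 0) &&
    forallLt 24 (fun i => !Nat.testBit octMask i || Nat.beq (pget (fixPerms.getD s 0) i) i) &&
    forallLt 16 (fun t => peq (pmul (fixPerms.getD s 0) (fixPerms.getD t 0)) (fixPerms.getD (Nat.xor s t) 0))) = true := by
  decide +kernel

theorem fix_zero : peq (fixPerms.getD 0 0) pone = true ∧ peq (fixPerms.getD 1 0) ptEight = true := by
  decide +kernel

theorem fix_cover : forallLt 24 (fun q => Nat.testBit octMask q ||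
    Nat.beq (countLt 16 fun s => Nat.beq (pget (fixPerms.getD s 0) outPt) q) 1) = true := by decide +kernel

theorem fix_moves : forallLt 16 (fun s => forallLt 24 fun i => forallLt 24 fun j =>
    Nat.beq (fImg s (pcI i j)) (pcI (pget (fixPerms.getD s 0) i) (pget (fixPerms.getD s 0) j))) = true := by
  decide +kernel

theorem oct_facts : inCode octMask = true ∧ popc octMask = 8 ∧ Nat.testBit octMask outPt = false ∧ outPt < 24 ∧
    octMask < 2 ^ 24 ∧ forallLt 8 (fun k => Nat.testBit octMask (octPts.getD k 0)) = true ∧
    forallLt 24 (fun i => Nat.testBit octMask i == !Nat.beq (countLt 8 fun k => Nat.beq (octPts.getD k 0) i) 0) = true := by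
  decide +kernel

theorem w_vals : forallLt 64 (fun i => Nat.testBit wMask (wVal i) && Nat.blt (wVal i) 2048 &&
    (Nat.beq i 0 || !Nat.beq (wVal i) 0)) = true := by decide +kernel

theorem w_cover : forallLt 2048 (fun n => !Nat.testBit wMask n ||
    !Nat.beq (countLt 64 fun i => Nat.beq (wVal i) n) 0) = true := by decide +kernel

theorem w_pairs : forallLt 24 (fun i => forallLt 24 fun j => Nat.beq i j ||
    (Nat.testBit wMask (pcI i j) == (Nat.testBit octMask i && Nat.testBit octMask j))) = true := by decide +kernel

theorem w_basis : forallLt 6 (fun k => Nat.beq (wBasis.getD k 0)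
    (pcI (octPts.getD 0 0) (octPts.getD (k + 1) 0))) = true := by decide +kernel

theorem w_fixed : forallLt 2048 (fun n => (Nat.testBit wMask n) ==
    forallLt 4 (fun k => Nat.beq (fImg (genIdx k) n) n)) = true := by decide +kernel

theorem e_reps : forallLt 4 (fun k => Nat.blt (eReps.getD k 0) 2048 && !Nat.testBit wMask (eReps.getD k 0) &&
    forallLt 2048 (fun n => !Nat.beq (fImg (genIdx k) n) n || Nat.testBit wMask n ||
      Nat.testBit wMask (Nat.xor n (eReps.getD k 0)))) = true := by decide +kernel

theorem cocycle_masks : forallLt 16 (fun b =>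
    !forallLt 4 (fun i => forallLt 4 fun j => Nat.beq
      (Nat.xor (Nat.mul (bitAt b i) (eReps.getD i 0)) (fImg (genIdx i) (Nat.mul (bitAt b j) (eReps.getD j 0))))
      (Nat.xor (Nat.mul (bitAt b j) (eReps.getD j 0)) (fImg (genIdx j) (Nat.mul (bitAt b i) (eReps.getD i 0))))) ||
    !forallLt 2048 (fun u => !forallLt 4 fun i =>
      Nat.testBit wMask (Nat.xor (fComm (genIdx i) u) (Nat.mul (bitAt b i) (eReps.getD i 0))))) = true := by
  decide +kernel

theorem nva_count : Nat.beq (countLt 2048 fun u => forallLt 4 fun i => Nat.testBit wMask (fComm (genIdx i) u)) 1024 = true := by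
  decide +kernel

theorem nva_pairs : forallLt 24 (fun q => Nat.testBit octMask q || Nat.beq q outPt || forallLt 4 fun i =>
    Nat.testBit wMask (fComm (genIdx i) (pcI outPt q))) = true := by decide +kernel

theorem comm_image : forallLt 16 (fun s => forallLt 2048 fun u =>
    Nat.testBit (commMasks.getD s 0) (fComm s u)) = true := by decide +kernel

theorem z_zero : forallLt 64 (fun i => Nat.testBit zMask i ==
    (!Nat.beq i 0 && !Nat.testBit dMask (wVal i))) = true := by decide +kernel

theorem z_coset : forallLt 16 (fun s => Nat.beq s 0 || forallLt 64 fun i =>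
    if Nat.testBit zMask (i + 64 * s) then Nat.beq (fComm s (pick (commPre.getD s 0) i)) (wVal i)
    else !Nat.testBit (commMasks.getD s 0) (wVal i)) = true := by decide +kernel

theorem z_first : forallLt 64 (fun i => !Nat.testBit zMask (i + 64) || forallLt 4 fun k =>
    Nat.testBit wMask (fComm (genIdx k) (pick (commPre.getD 1 0) i))) = true := by decide +kernel

theorem z_count : Nat.beq (countLt 1024 fun c => Nat.testBit zMask c) 155 = true := by decide +kernel

theorem z_sums : forallLt 1024 (fun c => Nat.beq c 0 ||
    (!forallLt 1024 (fun m => !(Nat.testBit zMask m && Nat.testBit zMask (Nat.xor c m))) &&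
     !forallLt 1024 (fun m => !(!Nat.beq m 0 && !Nat.beq m c && !Nat.testBit zMask m &&
       !Nat.testBit zMask (Nat.xor c m))))) = true := by decide +kernel

theorem z_sextet : forallLt 64 (fun i => !Nat.testBit zMask i ||
    !forallLt 8 (fun a => forallLt 8 fun b => forallLt 8 fun c => forallLt 8 fun d =>
      !(Nat.blt a b && Nat.blt b c && Nat.blt c d &&
        Nat.beq (wVal i) (Nat.xor (pcI (octPts.getD a 0) (octPts.getD b 0))
          (pcI (octPts.getD c 0) (octPts.getD d 0)))))) = true := by decide +kernel

/-- A code in the span that is a conjugate of the central involution. -/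
noncomputable def wz (n : ℕ) : Bool := Nat.testBit wMask n && !Nat.beq n 0 && !Nat.testBit dMask n

theorem sextet_rank : forallLt 2048 (fun a => !wz a || forallLt 2048 fun b =>
    !(wz b && wz (Nat.xor a b)) || forallLt 64 fun i =>
      !(wz (wVal i) && wz (Nat.xor a (wVal i)) && wz (Nat.xor b (wVal i)) && wz (Nat.xor (Nat.xor a b) (wVal i))) ||
      forallLt 64 fun j =>
        (let c := wVal i; let d := wVal j; let ab := Nat.xor a b
         !(wz d && wz (Nat.xor a d) && wz (Nat.xor b d) && wz (Nat.xor ab d) &&
          wz (Nat.xor c d) && wz (Nat.xor (Nat.xor a c) d) && wz (Nat.xor (Nat.xor b c) d) &&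
          wz (Nat.xor (Nat.xor ab c) d)))) = true := by decide +kernel

/-- The points of a mask, in increasing order. -/
noncomputable def maskPts (m : ℕ) : List ℕ := (List.range 24).filter fun i => Nat.testBit m i

/-- The span of the duads inside a mask. -/
noncomputable def octVal (m i : ℕ) : ℕ :=
  xorComb (fun k => pcI ((maskPts m).getD 0 0) ((maskPts m).getD (k + 1) 0)) i 6

/-- The intersection of two spans of octad duads. -/
theorem oct_meet : forallLt 4096 (fun k =>
    !Nat.beq (popc (enc k)) 8 || Nat.beq (enc k) octMask || Nat.beq (Nat.land (enc k) octMask) 0 ||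
    (Nat.ble (countLt 64 fun i => Nat.testBit wMask (octVal (enc k) i)) 8 &&
     Nat.ble (countLt 64 fun i => wz (octVal (enc k) i)) 1 &&
     (Nat.blt (countLt 64 fun i => Nat.testBit wMask (octVal (enc k) i)) 8 ||
      Nat.ble 3 (popc (Nat.land (enc k) octMask))))) = true := by decide +kernel

theorem cent_auts : forallLt 7 (fun k => isAut (centPerms.getD k 0) &&
    peq (pmul (centPerms.getD k 0) ptEight) (pmul ptEight (centPerms.getD k 0)) &&
    forallLt 24 (fun i => forallLt 24 fun j =>
      Nat.beq (limg (centImgs.getD k 0) (pcI i j))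
        (pcI (pget (centPerms.getD k 0) i) (pget (centPerms.getD k 0) j))) &&
    Nat.testBit (commMasks.getD 1 0) (Nat.xor
      (limg (centImgs.getD k 0) (pcI (centPairs.getD k (0, 0)).1 (centPairs.getD k (0, 0)).2))
      (pcI (centPairs.getD 0 (0, 0)).1 (centPairs.getD 0 (0, 0)).2))) = true := by decide +kernel

theorem cent_classes : forallLt 2048 (fun n => !Nat.beq (fImg 1 n) n || Nat.testBit (commMasks.getD 1 0) n ||
    !forallLt 7 (fun k => !Nat.testBit (commMasks.getD 1 0)
      (Nat.xor n (pcI (centPairs.getD k (0, 0)).1 (centPairs.getD k (0, 0)).2)))) = true := by decide +kernel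

/-- The three certified elements of the first coset. -/
noncomputable def certOK (n j u : ℕ) (d : Bool) : Bool :=
  Nat.blt n 128 && Nat.beq (fImg 1 n) n && Nat.blt j 77 && Nat.blt u 64 &&
    Nat.beq (qWord (wordData.getD j []) u) (eU n + 64) && !Nat.beq u 0 &&
    (Nat.testBit dMask (2 * u) == d) && (Nat.testBit dMask (2 * u + 1) == d)

theorem cert_ok : certOK 0 46 44 false = true ∧ certOK 8 14 4 true = true ∧ certOK 16 34 8 true = true ∧
    Nat.testBit (commMasks.getD 1 0) 8 = false ∧ Nat.testBit (commMasks.getD 1 0) 16 = false ∧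
    Nat.testBit (commMasks.getD 1 0) (Nat.xor 8 16) = false := by decide +kernel

end CfsgLib.JankoFour.Ten
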