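import Cfsg.Agent.Lib.JankoFourTen.Standard

/-!
# Which elements of the standard subgroup are conjugates of the central involution (owner: helper14)
-/

set_option autoImplicit false
set_option linter.unusedSectionVars false
set_option maxRecDepth 100000

namespace CfsgLib.JankoFour

open Cfsg CfsgLib.Sporadic CfsgLib.JankoFourHexad CfsgLib.JankoFour.Ten MulAction
open scoped Pointwise

namespace Ten

theorem comm_one_pre : forallLt 2048 (fun n => !Nat.testBit (commMasks.getD 1 0) n ||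
    !forallLt 2048 (fun u => !Nat.beq (fComm 1 u) n)) = true := by decide +kernel

theorem pairs_lt : forallLt 7 (fun k =>
    Nat.blt (pcI (centPairs.getD k (0, 0)).1 (centPairs.getD k (0, 0)).2) 2048) = true := by decide +kernel

theorem fixP_one_rep : Rep (fixP 1) ptEight := fun x => by
  obtain ⟨h8', -⟩ := pt_aut
  obtain ⟨r, -, hr8⟩ := exists_mem_M24 h8'
  rw [(CfsgLib.ThreeTrans.M24Inv.peq_iff (fixP_rep 1) hr8).1 fix_zero.2]
  exact hr8 x

theorem bxor_eq_zero {a b : ℕ} (h : Nat.xor a b = 0) : a = b := Nat.xor_eq_zero_iff.1 h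

end Ten

variable {G : Type*} [Group G] [Finite G]

namespace HexBase

variable {S : Setting G} (B : HexBase S)

/-- The type of an element read off at the centralizer of `z`. -/
theorem cert_type [IsSimpleGroup G] (hG : ¬ IsMulCommutative G) (hJ : IsOfJankoFourType G) {n j u : ℕ} {d : Bool}
    (h : Ten.certOK n j u d = true) : IsConj S.z (B.vel n * B.W 1) ↔ d = false := by
  simp only [Ten.certOK, Bool.and_eq_true, Nat.blt_eq, beq_iff_eq, Bool.not_eq_true'] at h
  obtain ⟨⟨⟨⟨⟨⟨⟨hn, -⟩, hj⟩, hu⟩, hq⟩, hu0⟩, hd0⟩, hd1⟩ := h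
  obtain ⟨t, htC, ht⟩ := B.exists_word _ (word_ok ⟨j, hj⟩).1
  obtain ⟨-, hc⟩ := ht u (by omega)
  rw [Nat.eq_of_beq_eq_true hq] at hc
  have heU : eU n < 64 := by
    show (n >>> 1) &&& (2 ^ 6 - 1) < 64
    rw [Nat.and_two_pow_sub_one_eq_mod]
    exact Nat.mod_lt _ (by norm_num)
  have hq1 : B.q (eU n + 64) = B.U (eU n) * B.W 1 := by
    rw [q, show (eU n + 64) % 64 = eU n by omega, show (eU n + 64) / 64 = 1 by omega]
  have hqu : B.q u = B.U u := by rw [q, Nat.mod_eq_of_lt hu, Nat.div_eq_of_lt hu, W_zero, mul_one]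
  rw [hq1, hqu] at hc
  set c := t * B.U u * t⁻¹ * (B.U (eU n) * B.W 1)⁻¹ with hcdef
  have hW : eW n = 0 := by
    show n >>> 7 = 0
    rw [Nat.shiftRight_eq_div_pow]; omega
  have hx : B.vel n * B.W 1 = t * (zpar S.z n * c⁻¹ * B.U u) * t⁻¹ := by
    have hcz : zpar S.z n * c⁻¹ ∈ Subgroup.zpowers S.z := by
      refine mul_mem ?_ (inv_mem hc)
      rcases zpar_mem (c := S.z) n with e | e <;> rw [e]
      exacts [one_mem _, Subgroup.mem_zpowers _]
    rw [show t * (zpar S.z n * c⁻¹ * B.U u) * t⁻¹ = t * (zpar S.z n * c⁻¹) * t⁻¹ * (t * B.U u * t⁻¹) by group,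
      z_pow_comm (Frame.commute_z htC) hcz, show t * B.U u * t⁻¹ = c * (B.U (eU n) * B.W 1) by rw [hcdef]; group,
      ← B.el_vel hn, el, hW, W_zero]
    group
  have hmem : ∃ m, (m = 2 * u ∨ m = 2 * u + 1) ∧ zpar S.z n * c⁻¹ * B.U u = B.vel m := by
    have key : ∀ b < 2, B.vel (2 * u + b) = zpar S.z b * B.U u := fun b hb => by
      have h1 : eU (2 * u + b) = u := by
        show ((2 * u + b) >>> 1) &&& (2 ^ 6 - 1) = u
        rw [Nat.and_two_pow_sub_one_eq_mod, Nat.shiftRight_eq_div_pow]; omega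
      have h2 : eW (2 * u + b) = 0 := by
        show (2 * u + b) >>> 7 = 0
        rw [Nat.shiftRight_eq_div_pow]; omega
      have h3 : zpar S.z (2 * u + b) = zpar S.z b := by
        unfold zpar
        rw [Nat.testBit_zero, Nat.testBit_zero, show (2 * u + b) % 2 = b % 2 by omega]
      rw [← B.el_vel (by omega), el, h1, h2, h3, W_zero, mul_one]
    rcases S.hE.eq_or (show zpar S.z n * c⁻¹ ∈ Subgroup.zpowers S.z from mul_mem (by
      rcases zpar_mem (c := S.z) n with e | e <;> rw [e]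
      exacts [one_mem _, Subgroup.mem_zpowers _]) (inv_mem hc)) with e | e <;> rw [e]
    · exact ⟨2 * u, Or.inl rfl, by rw [show 2 * u = 2 * u + 0 from rfl, key 0 (by norm_num), zpar_zero]⟩
    · exact ⟨2 * u + 1, Or.inr rfl, by rw [key 1 (by norm_num), zpar_one]⟩
  obtain ⟨m, hm, e⟩ := hmem
  rw [hx, e]
  obtain ⟨-, hD, -⟩ := B.duads_spec hG hJ
  have hmd : dMask.testBit m = d := by rcases hm with rfl | rfl <;> assumption
  have hm0 : m ≠ 0 := by
    have : u ≠ 0 := fun e => by rw [e] at hu0; simp at hu0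
    omega
  have hconj : IsConj (B.vel m) (t * B.vel m * t⁻¹) := isConj_iff.2 ⟨t, rfl⟩
  have hm2 : m < 2048 := by omega
  constructor
  · intro hz
    rw [← hmd]
    exact Bool.eq_false_iff.2 fun hb => ((hD m hm2).1 hb).2 (hz.trans hconj.symm)
  · rintro rfl
    refine (show IsConj S.z (B.vel m) from ?_).trans hconj
    by_contra hz
    rw [(hD m hm2).2 ⟨hm0, hz⟩] at hmd
    exact Bool.noConfusion hmd

namespace TenBase

variable {B} (T : B.TenBase)

theorem isConj_shift (s : Fin 16) {n u : ℕ} (hn : n < 2048) (hu : u < 2048) :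
    IsConj S.z (B.vel (Nat.xor n (fComm s.1 u)) * T.kk s) ↔ IsConj S.z (B.vel n * T.kk s) := by
  have h : IsConj (B.vel n * T.kk s) (B.vel (Nat.xor n (fComm s.1 u)) * T.kk s) := by
    refine isConj_iff.2 ⟨B.vel u, ?_⟩
    have hinv : (B.vel u)⁻¹ = B.vel u := inv_eq_of_mul_eq_one_right (by
      rw [B.vel_xor, show Nat.xor u u = 0 from Nat.xor_self u, B.vel_zero])
    rw [hinv, mul_assoc, mul_assoc, T.kk_conj s hu, ← mul_assoc, ← mul_assoc, B.vel_xor, B.vel_xor]
    congr 2
    show (u ^^^ n) ^^^ fImg s.1 u = n ^^^ (u ^^^ fImg s.1 u)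
    ac_rfl
  exact ⟨fun h' => h'.trans h.symm, fun h' => h'.trans h⟩

set_option maxHeartbeats 800000 in
/-- The types in the first coset. -/
theorem type_one [IsSimpleGroup G] (hG : ¬ IsMulCommutative G) (hJ : IsOfJankoFourType G) {n : ℕ} (hn : n < 2048)
    (hfix : fImg 1 n = n) :
    IsConj S.z (B.vel n * T.kk 1) ↔ (commMasks.getD 1 0).testBit n = true := by
  let P : ℕ → Prop := fun m => IsConj S.z (B.vel m * T.kk 1)
  set M := commMasks.getD 1 0 with hM
  have hcomm : ∀ m < 2048, M.testBit m = true → ∃ u < 2048, fComm 1 u = m := fun m hm hb => by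
    have h := forallLt_elim comm_one_pre hm
    rw [hb, Bool.not_true, Bool.false_or] at h
    obtain ⟨u, hu, e⟩ := exists_of_forallLt_not h
    exact ⟨u, hu, Nat.eq_of_beq_eq_true e⟩
  have hshift : ∀ {a b}, a < 2048 → b < 2048 → M.testBit (Nat.xor a b) = true → (P a ↔ P b) := fun {a b} ha hb h => by
    obtain ⟨u, hu, e⟩ := hcomm _ (Nat.xor_lt_two_pow (n := 11) ha hb) h
    have e' : a = Nat.xor b (fComm (1 : Fin 16).1 u) := by
      rw [show fComm (1 : Fin 16).1 u = Nat.xor a b from e]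
      show a = b ^^^ (a ^^^ b)
      calc a = a ^^^ (b ^^^ b) := by rw [Nat.xor_self, Nat.xor_zero]
        _ = _ := by ac_rfl
    show IsConj S.z (B.vel a * T.kk 1) ↔ _
    rw [e']
    exact T.isConj_shift 1 hb hu
  set pr : ℕ → ℕ := fun k => pcI (centPairs.getD k (0, 0)).1 (centPairs.getD k (0, 0)).2 with hpr
  have hpl : ∀ {k}, k < 7 → pr k < 2048 := fun {k} hk => Nat.blt_eq.mp (forallLt_elim pairs_lt hk)
  -- the nonzero classes are alike
  have hpairs : ∀ {k}, k < 7 → (P (pr k) ↔ P (pr 0)) := fun {k} hk => by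
    obtain ⟨σ, hσ, hc, hlim, hbit⟩ := cent_facts ⟨k, hk⟩
    set h := T.lift ⟨σ, hσ⟩
    have hhk : h * T.kk 1 = T.kk 1 * h := by
      rw [kk, ← map_mul, ← map_mul]
      exact congrArg _ (Subtype.ext hc)
    have hmvh : B.Moves24 h σ := T.moves_lift ⟨σ, hσ⟩
    have hlim' : ∀ x y, limg (centImgs.getD k 0) (pairCode x y) = pairCode (σ x) (σ y) := hlim
    have hact : B.act h (pr k) = limg (centImgs.getD k 0) (pr k) :=
      HexBase.act_limg (B := B) (g := h) (σ := σ) (T.lift_mem _) hmvh (P := centImgs.getD k 0) hlim'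
        (n := pr k) (hpl hk)
    have h1 : P (pr k) ↔ P (B.act h (pr k)) := by
      have hconj : IsConj (B.vel (pr k) * T.kk 1) (B.vel (B.act h (pr k)) * T.kk 1) := by
        refine isConj_iff.2 ⟨h, ?_⟩
        rw [B.vel_act (T.lift_mem _) (hpl hk)]
        calc h * (B.vel (pr k) * T.kk 1) * h⁻¹ = h * B.vel (pr k) * h⁻¹ * (h * T.kk 1 * h⁻¹) := by group
          _ = _ := by rw [hhk, mul_inv_cancel_right]
      exact ⟨fun h' => h'.trans hconj, fun h' => h'.trans hconj.symm⟩
    rw [h1]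
    refine hshift (B.act_lt _ _) (hpl (by norm_num)) ?_
    rw [hact]
    exact hbit
  have hclass : ∀ {m}, m < 2048 → fImg 1 m = m → M.testBit m = false → (P m ↔ P (pr 0)) := fun {m} hm hf hb => by
    have h := forallLt_elim cent_classes hm
    rw [show Nat.beq (fImg 1 m) m = true from (congrArg (Nat.beq · m) hf).trans (Nat.beq_refl m), Bool.not_true,
      Bool.false_or, ← hM, hb, Bool.false_or] at h
    obtain ⟨k, hk, e⟩ := exists_of_forallLt_not h
    exact (hshift hm (hpl hk) e).trans (hpairs hk)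
  -- the certified elements
  have hmv : B.Moves24 (B.W 1) (fixP 1) := B.moves24_of_table (by norm_num) fixP_one_rep fun i hi j hj => by
    have := forallLt_elim (forallLt_elim pt_moves hi) hj
    rw [Bool.and_eq_true] at this
    exact Nat.eq_of_beq_eq_true this.1
  have hWN : B.W 1 ∈ B.NV := B.actsV_norm (B.t_actsV (by norm_num))
  obtain ⟨x, ⟨v, hv, rfl⟩, ev⟩ := T.exists_split_lift hWN
  have hΦW : T.Φ ⟨B.W 1, hWN⟩ = ⟨fixP 1, fixP_mem 1⟩ :=
    Subtype.ext (B.moves24_unique (T.hmov ⟨B.W 1, hWN⟩) hmv)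
  rw [hΦW] at ev
  change B.W 1 = B.vel v * T.kk 1 at ev
  have hvfix : fImg 1 v = v := by
    have h := B.W_sq 1
    rw [ev, show B.vel v * T.kk 1 * (B.vel v * T.kk 1) = B.vel v * (T.kk 1 * B.vel v) * T.kk 1 by group,
      T.kk_conj 1 hv, show B.vel v * (B.vel (fImg (1 : Fin 16).1 v) * T.kk 1) * T.kk 1 =
        B.vel v * B.vel (fImg (1 : Fin 16).1 v) * (T.kk 1 * T.kk 1) by group, B.vel_xor, T.kk_mul, xfin_self,
      T.kk_zero, mul_one] at h
    have hlt : fImg 1 v < 2048 := by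
      rw [show fImg 1 v = fImg (1 : Fin 16).1 v from rfl, ← T.kk_act 1 hv]; exact B.act_lt _ _
    exact (bxor_eq_zero (B.vel_inj (Nat.xor_lt_two_pow (n := 11) hv hlt) (by norm_num) (h.trans B.vel_zero.symm))).symm
  obtain ⟨c0, c8, c16, m8, m16, m816⟩ := cert_ok
  have hcert : ∀ {a j u d}, Ten.certOK a j u d = true →
      fImg 1 (Nat.xor a v) = Nat.xor a v ∧ Nat.xor a v < 2048 ∧ (P (Nat.xor a v) ↔ d = false) := fun {a j u d} h => by
    have h' := h
    simp only [Ten.certOK, Bool.and_eq_true, Nat.blt_eq] at h'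
    obtain ⟨⟨⟨⟨⟨⟨⟨ha, haf⟩, -⟩, -⟩, -⟩, -⟩, -⟩, -⟩ := h'
    refine ⟨?_, Nat.xor_lt_two_pow (n := 11) (lt_trans ha (by norm_num)) hv, ?_⟩
    · show fImg 1 (a ^^^ v) = a ^^^ v
      rw [show fImg 1 (a ^^^ v) = fImg 1 a ^^^ fImg 1 v from limg_xor _ a v, hvfix, Nat.eq_of_beq_eq_true haf]
    · rw [← B.cert_type hG hJ h, ev, ← mul_assoc, B.vel_xor]
  obtain ⟨f0, -, p0⟩ := hcert c0
  obtain ⟨f8, l8, p8⟩ := hcert c8
  obtain ⟨f16, l16, p16⟩ := hcert c16
  rw [show Nat.xor 0 v = v from Nat.zero_xor v] at f0 p0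
  have hcl : ∀ {a b}, M.testBit a = true → M.testBit b = true → a < 2048 → b < 2048 →
      M.testBit (Nat.xor a b) = true := fun {a b} ha hb hal hbl => by
    obtain ⟨u, hu, rfl⟩ := hcomm a hal ha
    obtain ⟨w, hw, rfl⟩ := hcomm b hbl hb
    have h := forallLt_elim (forallLt_elim comm_image (show 1 < 16 by norm_num)) (Nat.xor_lt_two_pow (n := 11) hu hw)
    rw [show Nat.xor (fComm 1 u) (fComm 1 w) = fComm 1 (u ^^^ w) by
      show (u ^^^ fImg 1 u) ^^^ (w ^^^ fImg 1 w) = (u ^^^ w) ^^^ fImg 1 (u ^^^ w)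
      rw [show fImg 1 (u ^^^ w) = fImg 1 u ^^^ fImg 1 w from limg_xor _ u w]
      ac_rfl]
    exact h
  have hxv : ∀ a b, Nat.xor (Nat.xor a v) (Nat.xor b v) = Nat.xor a b := fun a b => by
    show (a ^^^ v) ^^^ (b ^^^ v) = a ^^^ b
    calc (a ^^^ v) ^^^ (b ^^^ v) = (a ^^^ b) ^^^ (v ^^^ v) := by ac_rfl
      _ = _ := by rw [Nat.xor_self, Nat.xor_zero]
  -- the nonzero classes are not conjugates
  have hP0 : ¬ P (pr 0) := fun hp => by
    have h8' : M.testBit (Nat.xor 8 v) = true := by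
      by_contra hb
      exact absurd (p8.1 ((hclass l8 f8 (Bool.eq_false_iff.2 hb)).2 hp)) (by simp)
    have h16' : M.testBit (Nat.xor 16 v) = true := by
      by_contra hb
      exact absurd (p16.1 ((hclass l16 f16 (Bool.eq_false_iff.2 hb)).2 hp)) (by simp)
    have := hcl h8' h16' l8 l16
    rw [hxv, m816] at this
    exact Bool.noConfusion this
  have hv1 : M.testBit v = true := by
    by_contra hb
    exact hP0 ((hclass hv f0 (Bool.eq_false_iff.2 hb)).1 (p0.2 rfl))
  cases hb : M.testBit n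
  · exact iff_of_false (fun h => hP0 ((hclass hn hfix hb).1 h)) (by simp)
  · exact iff_of_true ((hshift hn hv (hcl hb hv1 hn hv)).2 (p0.2 rfl)) rfl

/-- The elements of the standard subgroup that are conjugates of the central involution. -/
theorem el_isConj [IsSimpleGroup G] (hG : ¬ IsMulCommutative G) (hJ : IsOfJankoFourType G) {c : ℕ} (hc : c < 1024) :
    IsConj S.z (T.el c) ↔ zMask.testBit c = true := by
  obtain ⟨i, hi, s, rfl⟩ := el_exists c hc
  rw [T.el_eq hi s]
  obtain ⟨hw, hlt⟩ := wVal_facts hi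
  by_cases hs : s = 0
  · subst hs
    rw [T.kk_zero, mul_one, show i + 64 * (0 : Fin 16).1 = i by simp]
    obtain ⟨-, hD, -⟩ := B.duads_spec hG hJ
    have h := forallLt_elim z_zero hi
    rw [beq_iff_eq] at h
    rw [h]
    by_cases h0 : i = 0
    · subst h0
      rw [show wVal 0 = 0 by decide +kernel]
      exact iff_of_false B.isZc_zero (by simp)
    · rw [show Nat.beq i 0 = false from Bool.eq_false_iff.2 fun e => h0 (Nat.eq_of_beq_eq_true e), Bool.not_false,
        Bool.true_and, Bool.not_eq_true']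
      refine ⟨fun hz => Bool.eq_false_iff.2 fun hb => ((hD _ hlt).1 hb).2 hz, fun hb => ?_⟩
      by_contra hz
      rw [(hD _ hlt).2 ⟨fun e => h0 (wVal_inj hi (by norm_num) (e.trans (by decide +kernel))), hz⟩] at hb
      exact Bool.noConfusion hb
  obtain ⟨g, hgo, hge⟩ := fix_conj hs (show (1 : Fin 16) ≠ 0 by decide)
  set h := T.lift g
  have hN : h ∈ B.NV := T.lift_mem g
  have hk : h * T.kk s * h⁻¹ = T.kk 1 := by
    rw [kk, kk, ← map_mul, ← map_inv, ← map_mul]
    exact congrArg _ (Subtype.ext hge)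
  have hWo : ∀ {m}, m < 2048 → wMask.testBit m = true → wMask.testBit (B.act h m) = true := fun {m} hm hb => by
    refine (B.mem_octW_oct (B.act_lt _ _)).1 ?_
    rw [B.vel_act hN hm, ← hgo, ← B.octW_map hN (T.moves_lift g)]
    exact ⟨_, (B.mem_octW_oct hm).2 hb, rfl⟩
  have hact : IsConj (B.vel (wVal i) * T.kk s) (B.vel (B.act h (wVal i)) * T.kk 1) := by
    refine isConj_iff.2 ⟨h, ?_⟩
    rw [B.vel_act hN hlt, ← hk]
    group
  have hiff : IsConj S.z (B.vel (wVal i) * T.kk s) ↔ (commMasks.getD 1 0).testBit (B.act h (wVal i)) = true := by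
    have hf : fImg 1 (B.act h (wVal i)) = B.act h (wVal i) := by
      rw [show fImg 1 (B.act h (wVal i)) = fImg (1 : Fin 16).1 (B.act h (wVal i)) from rfl,
        ← T.kk_act 1 (B.act_lt _ _)]
      exact (B.commute_iff_act (T.kk_mem 1) (B.act_lt _ _)).1
        (T.kk_commute 1 ((B.mem_octW_oct (B.act_lt _ _)).2 (hWo hlt hw)))
    exact Iff.trans ⟨fun h' => h'.trans hact, fun h' => h'.trans hact.symm⟩ (T.type_one hG hJ (B.act_lt _ _) hf)
  have hz := forallLt_elim z_coset s.2
  rw [show Nat.beq s.1 0 = false from Bool.eq_false_iff.2 fun e => hs (Fin.ext (Nat.eq_of_beq_eq_true e)),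
    Bool.false_or] at hz
  have hz' := forallLt_elim hz hi
  cases hb : zMask.testBit (i + 64 * s.1)
  · refine iff_of_false (fun hcj => ?_) (by simp)
    rw [hb] at hz'
    simp only [Bool.false_eq_true, if_false, Bool.not_eq_true'] at hz'
    obtain ⟨u, hu, hu'⟩ := exists_of_forallLt_not (by
      have h1 := forallLt_elim comm_one_pre (B.act_lt h (wVal i))
      rw [hiff.1 hcj, Bool.not_true, Bool.false_or] at h1
      exact h1)
    have hu'' : fComm 1 u = B.act h (wVal i) := Nat.eq_of_beq_eq_true hu'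
    -- pull the preimage back
    set u' := B.act h⁻¹ u with hu'def
    have hu'l : u' < 2048 := B.act_lt _ _
    have hhu : B.act h u' = u := by
      rw [hu'def, ← B.act_mul hN (inv_mem hN) hu, mul_inv_cancel]
      exact B.act_eq (one_mem _) hu hu (by group)
    have hcm : B.act h (fImg s.1 u') = fImg (1 : Fin 16).1 u := by
      rw [← T.kk_act s hu'l, ← B.act_mul hN (T.kk_mem s) hu'l, ← T.kk_act 1 hu, ← hhu,
        ← B.act_mul (T.kk_mem 1) hN hu'l]
      congr 1
      rw [← hk]; group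
    have hl : fImg s.1 u' < 2048 := by rw [← T.kk_act s hu'l]; exact B.act_lt _ _
    have : fComm s.1 u' = wVal i := by
      refine B.act_inj hN (Nat.xor_lt_two_pow (n := 11) hu'l hl) hlt ?_
      rw [show fComm s.1 u' = u' ^^^ fImg s.1 u' from rfl, B.act_xor hN, hhu, hcm]
      exact hu''
    have h1 := forallLt_elim (forallLt_elim comm_image s.2) hu'l
    rw [this, hz'] at h1
    exact Bool.noConfusion h1
  · refine iff_of_true ?_ rfl
    rw [hb] at hz'
    simp only [if_true] at hz'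
    have hu : pick (commPre.getD s.1 0) i < 2048 := Nat.lt_of_le_of_lt Nat.and_le_right (by norm_num)
    refine hiff.2 ?_
    rw [← Nat.eq_of_beq_eq_true hz']
    set u := pick (commPre.getD s.1 0) i
    have hl : fImg s.1 u < 2048 := by rw [← T.kk_act s hu]; exact B.act_lt _ _
    rw [show fComm s.1 u = u ^^^ fImg s.1 u from rfl, B.act_xor hN, ← T.kk_act s hu,
      ← B.act_mul hN (T.kk_mem s) hu,
      show h * T.kk s = T.kk 1 * h by rw [← hk]; group, B.act_mul (T.kk_mem 1) hN hu,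
      T.kk_act 1 (B.act_lt _ _)]
    exact forallLt_elim (forallLt_elim comm_image (show 1 < 16 by norm_num)) (B.act_lt h u)

end TenBase

end HexBase

end CfsgLib.JankoFour
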