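import Cfsg.Agent.Lib.JankoFourTen.Octads
import Cfsg.Agent.Lib.JankoFour.DuadClass

/-!
# The spans of the duads in the octads and the fixed spaces of involutions on `V` (owner: helper14)
-/

set_option autoImplicit false
set_option linter.unusedSectionVars false
set_option maxRecDepth 100000

namespace CfsgLib.JankoFour.Ten

open Cfsg CfsgLib.Sporadic CfsgLib.JankoFourHexad
open CfsgLib.ThreeTrans.LargeFischer (vI pMask pMask_xor pMask_point maskOf_insert exists_set dv vPt vPt_none)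

theorem pcI_eq (x y : GolayPt) : pcI (ix x) (ix y) = pairCode x y := rfl

theorem limg_xor (P a b : ℕ) : limg P (a ^^^ b) = limg P a ^^^ limg P b := xorComb_xor _ a b 11

theorem pairCode_self (x : GolayPt) : pairCode x x = 0 := by
  rw [pairCode, CfsgLib.ThreeTrans.LargeFischer.dv_self]
  decide +kernel

theorem pairCode_comm (x y : GolayPt) : pairCode x y = pairCode y x := by
  rw [pairCode, pairCode, CfsgLib.ThreeTrans.LargeFischer.dv_comm]

theorem pairCode_xor (x y w : GolayPt) : pairCode x y ^^^ pairCode x w = pairCode y w := by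
  rw [pairCode, pairCode, pairCode, ← lamI_xor, CfsgLib.ThreeTrans.LargeFischer.dv_xor]

/-- Additive maps agreeing on the duads agree. -/
theorem pairCode_ext {f g : ℕ → ℕ} (hf : ∀ a b, f (a ^^^ b) = f a ^^^ f b)
    (hg : ∀ a b, g (a ^^^ b) = g a ^^^ g b) (h : ∀ x y, f (pairCode x y) = g (pairCode x y))
    {n : ℕ} (hn : n < 2048) : f n = g n := by
  have h0 : ∀ k : ℕ → ℕ, (∀ a b, k (a ^^^ b) = k a ^^^ k b) → k 0 = 0 := fun k hk => by
    have := hk 0 0
    rwa [Nat.xor_self, Nat.xor_self] at this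
  have hset : ∀ s : Finset GolayPt, f (lamI (pMask (maskOf s))) = g (lamI (pMask (maskOf s))) := by
    intro s
    induction s using Finset.induction_on with
    | empty =>
      rw [maskOf_empty, show pMask 0 = 0 by decide +kernel, show lamI 0 = 0 by decide +kernel, h0 f hf, h0 g hg]
    | insert x s hx ih =>
      rw [maskOf_insert hx, pMask_xor, pMask_point, lamI_xor, hf, hg, ih]
      congr 1
      have e : lamI (vI (ix x)) = pairCode x none := by
        rw [pairCode, dv, vPt_none, Nat.xor_zero]; rfl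
      rw [e, h]
  obtain ⟨s, hs⟩ := exists_set (lam_spec hn).1
  have := hset s
  rwa [hs, (lam_spec hn).2.2.1] at this

/-- Both moving an octad pointwise fixed subgroup: the maps of a fixed permutation. -/
theorem fImg_pair (s : Fin 16) (x y : GolayPt) :
    fImg s.1 (pairCode x y) = pairCode (fixP s x) (fixP s y) := by
  have h := forallLt_elim (forallLt_elim (forallLt_elim fix_moves s.2) (ix_lt x)) (ix_lt y)
  rw [fixP_rep s x, fixP_rep s y] at h
  exact Nat.eq_of_beq_eq_true h

theorem cent_facts (k : Fin 7) : ∃ σ : Equiv.Perm GolayPt, σ ∈ M24 ∧ σ * fixP 1 = fixP 1 * σ ∧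
    (∀ x y, limg (centImgs.getD k.1 0) (pairCode x y) = pairCode (σ x) (σ y)) ∧
    Nat.testBit (commMasks.getD 1 0) (Nat.xor
      (limg (centImgs.getD k.1 0) (pcI (centPairs.getD k.1 (0, 0)).1 (centPairs.getD k.1 (0, 0)).2))
      (pcI (centPairs.getD 0 (0, 0)).1 (centPairs.getD 0 (0, 0)).2)) = true := by
  have h := forallLt_elim cent_auts k.2
  simp only [Bool.and_eq_true] at h
  obtain ⟨⟨⟨h1, h2⟩, h3⟩, h4⟩ := h
  obtain ⟨σ, hσ, hr⟩ := exists_mem_M24 h1
  have h8 : Rep (fixP 1) ptEight := fun x => by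
    obtain ⟨h8', -⟩ := pt_aut
    obtain ⟨r, -, hr8⟩ := exists_mem_M24 h8'
    rw [(CfsgLib.ThreeTrans.M24Inv.peq_iff (fixP_rep 1) hr8).1 fix_zero.2]
    exact hr8 x
  refine ⟨σ, hσ, (CfsgLib.ThreeTrans.M24Inv.peq_iff (hr.mul h8) (h8.mul hr)).1 h2, fun x y => ?_, h4⟩
  have h := forallLt_elim (forallLt_elim h3 (ix_lt x)) (ix_lt y)
  rw [hr x, hr y] at h
  exact Nat.eq_of_beq_eq_true h

theorem fixed_eight : Nat.beq (countLt 2048 fun n => Nat.beq (tMap 1 n) n) 128 = true ∧
    Nat.beq (countLt 2048 fun n => Nat.beq (tMap 22 n) n) 64 = true := by decide +kernel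

theorem oct_seven : forallLt 4096 (fun k => !Nat.beq (popc (enc k)) 8 ||
    Nat.beq (octVal (enc k) 63) (pcI ((maskPts (enc k)).getD 0 0) ((maskPts (enc k)).getD 7 0))) = true := by
  decide +kernel

theorem mem_maskPts {m i : ℕ} : i ∈ maskPts m ↔ i < 24 ∧ m.testBit i = true := by
  simp [maskPts]

theorem length_maskPts (m : ℕ) : (maskPts m).length = popc m := by
  rw [popc, popc_loop, maskPts, ← List.toFinset_card_of_nodup (List.nodup_range.filter _)]
  congr 1
  ext i
  simp

theorem xorComb_two_pow' (f : ℕ → ℕ) (k : ℕ) :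
    ∀ n, xorComb f (2 ^ k) n = if k < n then f k else 0
  | 0 => rfl
  | n + 1 => by
    show Nat.xor (xorComb f (2 ^ k) n) (Nat.mul (bitAt (2 ^ k) n) (f n)) = _
    have hb : bitAt (2 ^ k) n = if n = k then 1 else 0 := by
      show ((2 ^ k : ℕ) >>> n) &&& 1 = _
      rw [Nat.and_one_is_mod, Nat.shiftRight_eq_div_pow, ← Nat.toNat_testBit, Nat.testBit_two_pow]
      rcases eq_or_ne n k with rfl | h
      · simp
      · simp [h, h.symm]
    rw [xorComb_two_pow' f k n, hb]
    rcases lt_trichotomy k n with h | rfl | h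
    · rw [if_pos h, if_neg (by omega), if_pos (by omega)]
      simp
    · rw [if_neg (lt_irrefl _), if_pos rfl, if_pos (Nat.lt_succ_self _)]
      simp
    · rw [if_neg (by omega), if_neg (by omega), if_neg (by omega)]
      simp

theorem octVal_zero (m : ℕ) : octVal m 0 = 0 := by
  have h := xorComb_xor (fun k => pcI ((maskPts m).getD 0 0) ((maskPts m).getD (k + 1) 0)) 0 0 6
  rw [Nat.xor_self, Nat.xor_self] at h
  exact h

theorem octVal_pow (m : ℕ) {k : ℕ} (hk : k < 6) :
    octVal m (2 ^ k) = pcI ((maskPts m).getD 0 0) ((maskPts m).getD (k + 1) 0) := by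
  rw [octVal, xorComb_two_pow', if_pos hk]

end CfsgLib.JankoFour.Ten

namespace CfsgLib.JankoFour

open Cfsg CfsgLib.Sporadic CfsgLib.JankoFourHexad CfsgLib.JankoFour.Ten
open scoped Pointwise

variable {G : Type*} [Group G] [Finite G]

namespace HexBase

variable {S : Setting G} (B : HexBase S)

theorem act_mod (g : G) (n : ℕ) : B.act g n = B.act g (n % 2048) := by rw [act, act, Nat.mod_mod]

/-- The action is determined by the permutation of the points. -/
theorem act_congr {g h : G} (hg : g ∈ B.NV) (hh : h ∈ B.NV) {σ : Equiv.Perm GolayPt} (h1 : B.Moves24 g σ)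
    (h2 : B.Moves24 h σ) {n : ℕ} (hn : n < 2048) : B.act g n = B.act h n :=
  pairCode_ext (B.act_xor hg) (B.act_xor hh) (fun x y => (h1 x y).trans (h2 x y).symm) hn

theorem act_limg {g : G} (hg : g ∈ B.NV) {σ : Equiv.Perm GolayPt} (h1 : B.Moves24 g σ) {P : ℕ}
    (hP : ∀ x y, limg P (pairCode x y) = pairCode (σ x) (σ y)) {n : ℕ} (hn : n < 2048) : B.act g n = limg P n :=
  pairCode_ext (B.act_xor hg) (limg_xor P) (fun x y => (h1 x y).trans (hP x y).symm) hn

theorem act_fImg {g : G} (hg : g ∈ B.NV) {s : Fin 16} (h1 : B.Moves24 g (fixP s)) {n : ℕ} (hn : n < 2048) :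
    B.act g n = fImg s.1 n :=
  B.act_limg hg h1 (fImg_pair s) hn

theorem commute_iff_act {g : G} (hg : g ∈ B.NV) {n : ℕ} (hn : n < 2048) :
    Commute g (B.vel n) ↔ B.act g n = n := by
  constructor
  · intro h
    exact B.act_eq hg hn hn (by rw [h.eq, mul_inv_cancel_right])
  · intro h
    have h2 := B.vel_act hg hn
    rw [h] at h2
    exact mul_inv_eq_iff_eq_mul.1 h2.symm

theorem moves24_inv {g : G} (hg : g ∈ B.NV) {σ : Equiv.Perm GolayPt} (h : B.Moves24 g σ) :
    B.Moves24 g⁻¹ σ⁻¹ := fun x y => by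
  have e := h (σ⁻¹ x) (σ⁻¹ y)
  rw [show σ (σ⁻¹ x) = x by simp, show σ (σ⁻¹ y) = y by simp] at e
  rw [← e, ← B.act_mul (inv_mem hg) hg (pairCode_lt _ _), inv_mul_cancel]
  exact B.act_eq (one_mem _) (pairCode_lt _ _) (pairCode_lt _ _) (by group)

/-- The span of the duads of a set of points. -/
def octW (o : Finset GolayPt) : Subgroup G :=
  Subgroup.closure {x | ∃ a ∈ o, ∃ b ∈ o, x = B.vel (pairCode a b)}

theorem pair_mem_octW {o : Finset GolayPt} {a b : GolayPt} (ha : a ∈ o) (hb : b ∈ o) :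
    B.vel (pairCode a b) ∈ B.octW o :=
  Subgroup.subset_closure ⟨a, ha, b, hb, rfl⟩

theorem octW_le_V (o : Finset GolayPt) : B.octW o ≤ B.V := by
  rw [octW, Subgroup.closure_le]
  rintro _ ⟨a, -, b, -, rfl⟩
  exact B.vel_mem (pairCode_lt a b)

theorem conj_pair {m : G} (hm : m ∈ B.NV) {σ : Equiv.Perm GolayPt} (h : B.Moves24 m σ) (a b : GolayPt) :
    m * B.vel (pairCode a b) * m⁻¹ = B.vel (pairCode (σ a) (σ b)) := by
  rw [← h a b]; exact (B.vel_act hm (pairCode_lt a b)).symm

theorem octW_map {m : G} (hm : m ∈ B.NV) {σ : ↥M24} (h : B.Moves24 m σ.1) (o : Finset GolayPt) :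
    (B.octW o).map (MulAut.conj m).toMonoidHom = B.octW (σ • o) := by
  rw [octW, octW, MonoidHom.map_closure]
  congr 1
  ext x
  constructor
  · rintro ⟨_, ⟨a, ha, b, hb, rfl⟩, rfl⟩
    exact ⟨σ.1 a, Finset.smul_mem_smul_finset ha, σ.1 b, Finset.smul_mem_smul_finset hb, B.conj_pair hm h a b⟩
  · rintro ⟨a, ha, b, hb, rfl⟩
    obtain ⟨a', ha', rfl⟩ := Finset.mem_smul_finset.1 ha
    obtain ⟨b', hb', rfl⟩ := Finset.mem_smul_finset.1 hb
    exact ⟨_, ⟨a', ha', b', hb', rfl⟩, B.conj_pair hm h a' b'⟩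

theorem octW_fixed {g : G} (hg : g ∈ B.NV) {σ : Equiv.Perm GolayPt} (h : B.Moves24 g σ)
    {o : Finset GolayPt} (hfix : ∀ a ∈ o, σ a = a) {x : G} (hx : x ∈ B.octW o) : Commute g x := by
  have hle : B.octW o ≤ Subgroup.centralizer ({g} : Set G) := by
    rw [octW, Subgroup.closure_le]
    rintro _ ⟨a, ha, b, hb, rfl⟩
    refine Subgroup.mem_centralizer_singleton_iff.2 ?_
    have := B.conj_pair hg h a b
    rw [hfix a ha, hfix b hb] at this
    exact (mul_inv_eq_iff_eq_mul.1 this).symm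
  exact (Subgroup.mem_centralizer_singleton_iff.1 (hle hx)).symm

theorem vel_zero_mem (H : Subgroup G) : B.vel 0 ∈ H := B.vel_zero.symm ▸ one_mem H

/-- The standard span in codes. -/
theorem mem_octW_oct {n : ℕ} (hn : n < 2048) : B.vel n ∈ B.octW oct ↔ wMask.testBit n = true := by
  have hv : ∀ i < 64, wMask.testBit (wVal i) = true ∧ wVal i < 2048 := fun i hi => by
    have h := forallLt_elim w_vals hi
    simp only [Bool.and_eq_true, Nat.blt_eq] at h
    exact ⟨h.1.1, h.1.2⟩
  have hcover : ∀ {m}, m < 2048 → wMask.testBit m = true → ∃ i < 64, wVal i = m := fun {m} hm hb => by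
    have h := forallLt_elim w_cover hm
    rw [hb, Bool.not_true, Bool.false_or, Bool.not_eq_true'] at h
    by_contra hne
    push Not at hne
    rw [countLt_eq, Finset.card_eq_zero.2 (Finset.filter_eq_empty_iff.2 fun i hi he =>
      hne i (Finset.mem_range.1 hi) (Nat.eq_of_beq_eq_true he))] at h
    simp at h
  have hgen : ∀ i < 64, B.vel (wVal i) ∈ B.octW oct := by
    intro i hi
    have key : ∀ k ≤ 6, B.vel (xorComb (fun j => wBasis.getD j 0) i k) ∈ B.octW oct := by
      intro k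
      induction k with
      | zero => exact fun _ => B.vel_zero_mem _
      | succ k ih =>
        intro hk
        show B.vel (Nat.xor (xorComb (fun j => wBasis.getD j 0) i k) (Nat.mul (bitAt i k) (wBasis.getD k 0))) ∈ _
        rw [← B.vel_xor]
        refine mul_mem (ih (by omega)) ?_
        rcases (show bitAt i k = 0 ∨ bitAt i k = 1 by
          unfold bitAt
          have : (Nat.land (Nat.shiftRight i k) 1) ≤ 1 := Nat.and_le_right
          omega) with e | e <;> rw [e]
        · rw [show Nat.mul 0 (wBasis.getD k 0) = 0 from Nat.zero_mul _]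
          exact B.vel_zero_mem _
        · rw [show Nat.mul 1 (wBasis.getD k 0) = wBasis.getD k 0 from Nat.one_mul _,
            Nat.eq_of_beq_eq_true (forallLt_elim w_basis (show k < 6 by omega))]
          obtain ⟨-, -, -, -, -, h8, -⟩ := oct_facts
          have ha := forallLt_elim h8 (show 0 < 8 by norm_num)
          have hb := forallLt_elim h8 (show k + 1 < 8 by omega)
          have hlt : ∀ {j}, octMask.testBit j = true → j < 24 := fun {j} hj => by
            by_contra hge
            rw [Nat.testBit_lt_two_pow (lt_of_lt_of_le oct_facts.2.2.2.2.1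
              (Nat.pow_le_pow_right (by norm_num) (not_lt.1 hge)))] at hj
            exact Bool.noConfusion hj
          rw [← ix_pt (hlt ha), ← ix_pt (hlt hb), pcI_eq]
          exact B.pair_mem_octW (mem_oct.2 (by rw [ix_pt (hlt ha)]; exact ha))
            (mem_oct.2 (by rw [ix_pt (hlt hb)]; exact hb))
    exact key 6 le_rfl
  constructor
  · intro h
    let W : Subgroup G :=
      { carrier := {x | ∃ i < 64, B.vel (wVal i) = x}
        one_mem' := ⟨0, by norm_num, by rw [show wVal 0 = 0 by decide +kernel, B.vel_zero]⟩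
        mul_mem' := by
          rintro _ _ ⟨a, ha, rfl⟩ ⟨b, hb, rfl⟩
          refine ⟨a ^^^ b, Nat.xor_lt_two_pow (n := 6) ha hb, ?_⟩
          rw [show wVal (a ^^^ b) = Nat.xor (wVal a) (wVal b) from xorComb_xor _ a b 6, B.vel_xor]
        inv_mem' := by
          rintro _ ⟨a, ha, rfl⟩
          exact ⟨a, ha, (inv_eq_of_mul_eq_one_right (by
            rw [← pow_two]; exact B.V_elementary.2 _ (B.vel_mem (hv a ha).2))).symm⟩ }
    have hle : B.octW oct ≤ W := by
      rw [octW, Subgroup.closure_le]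
      rintro _ ⟨a, ha, b, hb, rfl⟩
      by_cases hab : a = b
      · subst hab; rw [pairCode_self]; exact B.vel_zero_mem _
      · have h := forallLt_elim (forallLt_elim w_pairs (ix_lt a)) (ix_lt b)
        rw [show Nat.beq (ix a) (ix b) = false from Bool.eq_false_iff.2 fun e =>
          hab (ix_injective (Nat.eq_of_beq_eq_true e)), Bool.false_or, beq_iff_eq, mem_oct.1 ha,
          mem_oct.1 hb, pcI_eq] at h
        obtain ⟨i, hi, e⟩ := hcover (pairCode_lt a b) h
        exact ⟨i, hi, by rw [e]⟩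
    obtain ⟨i, hi, e⟩ := hle h
    rw [← B.vel_inj (hv i hi).2 hn e]
    exact (hv i hi).1
  · intro h
    obtain ⟨i, hi, rfl⟩ := hcover hn h
    exact hgen i hi

theorem card_octW_oct : Nat.card (B.octW oct) = 64 := by
  have hv : ∀ i < 64, wMask.testBit (wVal i) = true ∧ wVal i < 2048 ∧ (i ≠ 0 → wVal i ≠ 0) := fun i hi => by
    have h := forallLt_elim w_vals hi
    simp only [Bool.and_eq_true, Nat.blt_eq, Bool.or_eq_true, Bool.not_eq_true'] at h
    refine ⟨h.1.1, h.1.2, fun h0 e => ?_⟩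
    rcases h.2 with h' | h'
    · exact h0 (Nat.eq_of_beq_eq_true h')
    · rw [e] at h'; simp at h'
  let f : Fin 64 → ↥(B.octW oct) := fun i => ⟨B.vel (wVal i.1), (B.mem_octW_oct (hv i.1 i.2).2.1).2 (hv i.1 i.2).1⟩
  have hf : Function.Bijective f := by
    refine ⟨fun a b e => ?_, fun x => ?_⟩
    · have e' : wVal a.1 = wVal b.1 := B.vel_inj (hv a.1 a.2).2.1 (hv b.1 b.2).2.1 (congrArg Subtype.val e)
      by_contra hne
      refine (hv (a.1 ^^^ b.1) (Nat.xor_lt_two_pow (n := 6) a.2 b.2)).2.2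
        (fun e0 => hne (Fin.ext (Nat.xor_eq_zero_iff.1 e0))) ?_
      rw [show wVal (a.1 ^^^ b.1) = wVal a.1 ^^^ wVal b.1 from xorComb_xor _ a.1 b.1 6, e', Nat.xor_self]
    · obtain ⟨n, hn, e⟩ := B.octW_le_V oct x.2
      have hb := (B.mem_octW_oct hn).1 (e ▸ x.2)
      have h := forallLt_elim w_cover hn
      rw [hb, Bool.not_true, Bool.false_or, Bool.not_eq_true'] at h
      by_contra hne
      push Not at hne
      rw [countLt_eq, Finset.card_eq_zero.2 (Finset.filter_eq_empty_iff.2 fun i hi he =>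
        hne ⟨i, Finset.mem_range.1 hi⟩ (Subtype.ext (by
          show B.vel (wVal i) = x
          rw [Nat.eq_of_beq_eq_true he, e])))] at h
      simp at h
  rw [← Nat.card_congr (Equiv.ofBijective f hf), Nat.card_fin]

theorem card_octW [IsSimpleGroup G] (hG : ¬ IsMulCommutative G) (hJ : IsOfJankoFourType G) {o : Finset GolayPt}
    (ho : o ∈ octads) : Nat.card (B.octW o) = 64 := by
  obtain ⟨g, hg⟩ := exists_to_oct ho
  obtain ⟨Φ, hΦ, -, hmov⟩ := B.exists_phi hG hJ
  obtain ⟨m, rfl⟩ := hΦ g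
  rw [← B.card_octW_oct, ← hg, ← B.octW_map m.2 (hmov m) o,
    Subgroup.card_map_of_injective (MulAut.conj (m : G)).injective]

/-- The fixed space on `V`. -/
def cV (g : G) : Subgroup G := B.V ⊓ Subgroup.centralizer ({g} : Set G)

theorem mem_cV {g : G} (hg : g ∈ B.NV) {n : ℕ} (hn : n < 2048) : B.vel n ∈ B.cV g ↔ B.act g n = n := by
  rw [← B.commute_iff_act hg hn, cV, Subgroup.mem_inf, Subgroup.mem_centralizer_singleton_iff]
  exact ⟨fun h => h.2.symm, fun h => ⟨B.vel_mem hn, h.eq.symm⟩⟩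

theorem cV_congr {g h : G} (hg : g ∈ B.NV) (hh : h ∈ B.NV) {σ : Equiv.Perm GolayPt} (h1 : B.Moves24 g σ)
    (h2 : B.Moves24 h σ) : B.cV g = B.cV h := by
  ext x
  constructor <;> intro hx <;> obtain ⟨n, hn, rfl⟩ := hx.1
  · exact (B.mem_cV hh hn).2 (B.act_congr hg hh h1 h2 hn ▸ (B.mem_cV hg hn).1 hx)
  · exact (B.mem_cV hg hn).2 (B.act_congr hg hh h1 h2 hn ▸ (B.mem_cV hh hn).1 hx)

/-- The orders of the fixed spaces of involutions. -/
theorem card_cV [IsSimpleGroup G] (hG : ¬ IsMulCommutative G) (hJ : IsOfJankoFourType G) {g : G}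
    (hg : g ∈ B.NV) {σ : Equiv.Perm GolayPt} (hmv : B.Moves24 g σ) (h2 : σ * σ = 1) (h1 : σ ≠ 1) :
    (Nat.card (B.cV g) = 128 ∧ ∃ p, σ p = p) ∨ (Nat.card (B.cV g) = 64 ∧ ∀ p, σ p ≠ p) := by
  classical
  obtain ⟨Φ, hΦ, -, hmov⟩ := B.exists_phi hG hJ
  obtain ⟨h8, h0, hfix, hfree, n8, n0⟩ := pt_aut
  obtain ⟨r8, hr8m, hr8⟩ := exists_mem_M24 h8
  obtain ⟨r0, hr0m, hr0⟩ := exists_mem_M24 h0
  have htN : ∀ {w : ℕ}, w < 64 → B.W w ∈ B.NV := fun hw => B.actsV_norm (B.t_actsV hw)
  have hσM : σ ∈ M24 := by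
    rw [B.moves24_unique hmv (hmov ⟨g, hg⟩)]; exact (Φ ⟨g, hg⟩).2
  have key : ∀ {w p : ℕ} (hw : w < 64) {r : Equiv.Perm GolayPt}, Rep r p → r ∈ M24 →
      CfsgLib.ThreeTrans.M24Inv.peq p pone = false → B.Moves24 (B.W w) r →
      ((∀ q, r q ≠ q) ↔ ∀ q, σ q ≠ q) →
      Nat.card (B.cV g) = countLt 2048 fun n => Nat.beq (tMap w n) n := by
    intro w p hw r hr hrm hne hmw hiff
    have hr2 : r * r = 1 := by
      refine B.moves24_unique (B.moves24_mul (htN hw) (htN hw) hmw hmw) ?_
      intro x y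
      rw [B.W_sq]
      exact B.act_eq (one_mem _) (pairCode_lt _ _) (pairCode_lt _ _) (by group; rfl)
    have hr1 : r ≠ 1 := fun e => by
      rw [(CfsgLib.ThreeTrans.M24Inv.peq_iff hr Rep.one).2 e] at hne
      exact Bool.noConfusion hne
    obtain ⟨-, -, -, hconj⟩ := CfsgLib.ThreeTrans.M24Inv.main
    obtain ⟨k, hk, e⟩ := hconj r hrm σ hσM (orderOf_eq_prime (by rw [pow_two, hr2]) hr1)
      (orderOf_eq_prime (by rw [pow_two, h2]) h1) hiff
    obtain ⟨m, hm⟩ := hΦ ⟨k, hk⟩
    have hmk : B.Moves24 (m : G) k := by have := hmov m; rwa [hm] at this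
    set y : G := (m : G) * B.W w * (m : G)⁻¹ with hy
    have hyN : y ∈ B.NV := mul_mem (mul_mem m.2 (htN hw)) (inv_mem m.2)
    have hys : B.Moves24 y σ := e ▸ B.moves24_mul (mul_mem m.2 (htN hw)) (inv_mem m.2)
      (B.moves24_mul m.2 (htN hw) hmk hmw) (B.moves24_inv m.2 hmk)
    have hmap : B.cV g = (B.cV (B.W w)).map (MulAut.conj (m : G)).toMonoidHom := by
      rw [B.cV_congr hg hyN hmv hys]
      ext x
      rw [mem_map_conj, cV, cV, Subgroup.mem_inf, Subgroup.mem_inf, Subgroup.mem_centralizer_singleton_iff,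
        Subgroup.mem_centralizer_singleton_iff]
      refine and_congr ⟨fun h => ?_, fun h => ?_⟩ ⟨fun h => ?_, fun h => ?_⟩
      · have := B.conj_mem (inv_mem m.2) h; rwa [inv_inv] at this
      · have := B.conj_mem m.2 h
        rwa [show (m : G) * ((m : G)⁻¹ * x * m) * (m : G)⁻¹ = x by group] at this
      · calc (m : G)⁻¹ * x * m * B.W w = (m : G)⁻¹ * (x * y) * m := by rw [hy]; group
          _ = _ := by rw [h, hy]; group
      · calc x * y = (m : G) * ((m : G)⁻¹ * x * m * B.W w) * (m : G)⁻¹ := by rw [hy]; group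
          _ = _ := by rw [h, hy]; group
    rw [hmap, Subgroup.card_map_of_injective (MulAut.conj (m : G)).injective, countLt_eq,
      ← Nat.card_eq_finsetCard]
    have hT : ∀ {n}, n < 2048 → B.act (B.W w) n = tMap w n := fun {n} hn => B.act_of_actsV (B.t_actsV hw) hn
    let F : ↥((Finset.range 2048).filter fun n => Nat.beq (tMap w n) n = true) → ↥(B.cV (B.W w)) := fun n =>
      ⟨B.vel n.1, (B.mem_cV (htN hw) (Finset.mem_range.1 (Finset.mem_filter.1 n.2).1)).2 (by
        rw [hT (Finset.mem_range.1 (Finset.mem_filter.1 n.2).1)]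
        exact Nat.eq_of_beq_eq_true (Finset.mem_filter.1 n.2).2)⟩
    refine (Nat.card_congr (Equiv.ofBijective F ⟨fun a b e => Subtype.ext (B.vel_inj
      (Finset.mem_range.1 (Finset.mem_filter.1 a.2).1) (Finset.mem_range.1 (Finset.mem_filter.1 b.2).1)
      (congrArg Subtype.val e)), fun x => ?_⟩)).symm
    obtain ⟨n, hn, e⟩ := x.2.1
    have hf := (B.mem_cV (htN hw) hn).1 (e ▸ x.2)
    rw [hT hn] at hf
    exact ⟨⟨n, Finset.mem_filter.2 ⟨Finset.mem_range.2 hn, by rw [hf]; exact Nat.beq_refl n⟩⟩, Subtype.ext e⟩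
  have e8 := B.moves24_of_table (w := 1) (by norm_num) hr8 fun i hi j hj => by
    have := forallLt_elim (forallLt_elim pt_moves hi) hj
    rw [Bool.and_eq_true] at this
    exact Nat.eq_of_beq_eq_true this.1
  have e0 := B.moves24_of_table (w := 22) (by norm_num) hr0 fun i hi j hj => by
    have := forallLt_elim (forallLt_elim pt_moves hi) hj
    rw [Bool.and_eq_true] at this
    exact Nat.eq_of_beq_eq_true this.2
  obtain ⟨f1, f2⟩ := fixed_eight
  by_cases hf : ∀ p, σ p ≠ p
  · refine Or.inr ⟨?_, hf⟩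
    rw [key (w := 22) (by norm_num) hr0 hr0m n0 e0 (iff_of_true (fun q hq => ?_) hf)]
    · exact Nat.eq_of_beq_eq_true f2
    · have := forallLt_elim hfree (ix_lt q)
      rw [hr0 q, hq] at this
      simp at this
  · refine Or.inl ⟨?_, not_forall_not.1 hf⟩
    rw [key (w := 1) (by norm_num) hr8 hr8m n8 e8 (iff_of_false (fun h => h (pt 22) ?_) hf)]
    · exact Nat.eq_of_beq_eq_true f1
    · have := hr8 (pt 22)
      rw [ix_pt (by norm_num), hfix] at this
      rw [← pt_ix (r8 (pt 22)), ← this]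

/-- The codes of the standard span meeting the span of another octad. -/
theorem octW_meet [IsSimpleGroup G] (hG : ¬ IsMulCommutative G) (hJ : IsOfJankoFourType G)
    {o o' : Finset GolayPt} (ho : o ∈ octads) (ho' : o' ∈ octads) (hne : o ≠ o') {p : GolayPt}
    (hp : p ∈ o) (hp' : p ∈ o') :
    Nat.card ↥(B.octW o ⊓ B.octW o') ≤ 8 ∧
    (∀ A : Subgroup G, A ≤ B.octW o ⊓ B.octW o' → (∀ x ∈ A, x ≠ 1 → IsConj S.z x) → Nat.card A ≤ 2) ∧
    (8 ≤ Nat.card ↥(B.octW o ⊓ B.octW o') → 3 ≤ (o ∩ o').card) := by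
  classical
  obtain ⟨g, hg⟩ := exists_to_oct ho
  obtain ⟨Φ, hΦ, -, hmov⟩ := B.exists_phi hG hJ
  obtain ⟨m, rfl⟩ := hΦ g
  set o2 := Φ m • o' with ho2
  have ho2m : o2 ∈ octads := (smul_mem_octads' _).2 ho'
  obtain ⟨k, hk, hek⟩ : ∃ k < 4096, enc k = maskOf o2 := inCode_iff.1 (mem_octads_iff.1 ho2m).1
  have hpop : Nat.beq (popc (enc k)) 8 = true := by
    rw [hek, (mem_octads_iff.1 ho2m).2]; rfl
  have hneq : Nat.beq (enc k) octMask = false := Bool.eq_false_iff.2 fun e => hne <| by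
    have e' := congrArg setOfMask (Nat.eq_of_beq_eq_true e)
    rw [hek, setOfMask_maskOf] at e'
    exact smul_left_cancel (Φ m) (hg.trans e'.symm)
  have hland : Nat.beq (Nat.land (enc k) octMask) 0 = false := Bool.eq_false_iff.2 fun e => by
    have h1 : (enc k).testBit (ix ((Φ m).1 p)) = true := by
      rw [hek, testBit_maskOf, decide_eq_true_eq, ho2]
      exact Finset.smul_mem_smul_finset hp'
    have h2 : octMask.testBit (ix ((Φ m).1 p)) = true := mem_oct.1 (by
      rw [← hg]; exact Finset.smul_mem_smul_finset hp)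
    have h3 := congrArg (fun n => Nat.testBit n (ix ((Φ m).1 p))) (Nat.eq_of_beq_eq_true e)
    simp only [Nat.zero_testBit] at h3
    rw [show Nat.land (enc k) octMask = enc k &&& octMask from rfl, Nat.testBit_and, h1, h2] at h3
    exact Bool.noConfusion h3
  have hchk := forallLt_elim oct_meet hk
  rw [hpop, hneq, hland] at hchk
  simp only [Bool.not_true, Bool.false_or, Bool.and_eq_true, Bool.or_eq_true, Nat.ble_eq, Nat.blt_eq] at hchk
  obtain ⟨⟨hc8, hc1⟩, hc3⟩ := hchk
  -- the values cover the span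
  set M := enc k with hM
  have hmem : ∀ x, x ∈ maskPts M ↔ x < 24 ∧ pt x ∈ o2 := fun x => by
    rw [mem_maskPts]
    refine and_congr_right fun hx => ?_
    conv_lhs => rw [← ix_pt hx, hek, testBit_maskOf, decide_eq_true_eq]
  have hlen : (maskPts M).length = 8 := by rw [length_maskPts]; exact Nat.eq_of_beq_eq_true hpop
  set P := fun i => (maskPts M).getD i 0 with hP
  have hPi : ∀ a ∈ o2, ∃ i < 8, P i = ix a := fun a ha => by
    obtain ⟨i, hi, e⟩ := List.getElem_of_mem ((hmem (ix a)).2 ⟨ix_lt a, by rw [pt_ix]; exact ha⟩)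
    exact ⟨i, hlen ▸ hi, by rw [hP]; simp only; rw [List.getD_eq_getElem _ _ hi]; exact e⟩
  have hval : ∀ i < 8, ∃ j < 64, octVal M j = pcI (P 0) (P i) := by
    intro i hi
    rcases (show i = 0 ∨ (1 ≤ i ∧ i ≤ 6) ∨ i = 7 by omega) with rfl | h | rfl
    · exact ⟨0, by norm_num, by rw [pcI, show ∀ a, Nat.xor a a = 0 from Nat.xor_self]; rw [octVal_zero]; decide +kernel⟩
    · refine ⟨2 ^ (i - 1), lt_of_lt_of_le (Nat.pow_lt_pow_right (by norm_num) (show i - 1 < 6 by omega))
        (by norm_num), ?_⟩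
      rw [octVal_pow M (by omega), show i - 1 + 1 = i by omega]
    · have h7 := forallLt_elim oct_seven hk
      rw [hpop, Bool.not_true, Bool.false_or] at h7
      exact ⟨63, by norm_num, Nat.eq_of_beq_eq_true h7⟩
  have hx2 : ∀ {x : G}, x ∈ B.octW o2 → ∃ j < 64, x = B.vel (octVal M j) := by
    let W : Subgroup G :=
      { carrier := {x | ∃ j < 64, x = B.vel (octVal M j)}
        one_mem' := ⟨0, by norm_num, by rw [octVal_zero, B.vel_zero]⟩
        mul_mem' := by
          rintro _ _ ⟨a, ha, rfl⟩ ⟨b, hb, rfl⟩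
          refine ⟨a ^^^ b, Nat.xor_lt_two_pow (n := 6) ha hb, ?_⟩
          rw [B.vel_xor, show octVal M (a ^^^ b) = Nat.xor (octVal M a) (octVal M b) from xorComb_xor _ a b 6]
        inv_mem' := by
          rintro _ ⟨a, ha, rfl⟩
          refine ⟨a, ha, inv_eq_of_mul_eq_one_right ?_⟩
          rw [B.vel_xor, show Nat.xor (octVal M a) (octVal M a) = 0 from Nat.xor_self _, B.vel_zero] }
    have hle : B.octW o2 ≤ W := by
      rw [octW, Subgroup.closure_le]
      rintro _ ⟨a, ha, b, hb, rfl⟩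
      obtain ⟨i, hi, hia⟩ := hPi a ha
      obtain ⟨j, hj, hjb⟩ := hPi b hb
      obtain ⟨u, hu, eu⟩ := hval i hi
      obtain ⟨v, hv, ev⟩ := hval j hj
      refine ⟨u ^^^ v, Nat.xor_lt_two_pow (n := 6) hu hv, ?_⟩
      congr 1
      have hp0 : P 0 < 24 := ((hmem _).1 (by
        rw [hP]; simp only; rw [List.getD_eq_getElem _ _ (hlen ▸ Nat.succ_pos 7)]
        exact List.getElem_mem _)).1
      rw [show octVal M (u ^^^ v) = octVal M u ^^^ octVal M v from xorComb_xor _ u v 6, eu, ev, hia, hjb,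
        ← ix_pt hp0, pcI_eq, pcI_eq, pairCode_xor]
    exact fun {x} hx => hle hx
  have hmap : (B.octW o ⊓ B.octW o').map (MulAut.conj (m : G)).toMonoidHom = B.octW oct ⊓ B.octW o2 := by
    rw [Subgroup.map_inf _ _ _ (MulAut.conj (m : G)).injective, B.octW_map m.2 (hmov m),
      B.octW_map m.2 (hmov m), hg]
  -- counting
  have hcount : ∀ (T : Subgroup G) (f : ℕ → Bool), T ≤ B.octW oct ⊓ B.octW o2 →
      (∀ j < 64, B.vel (octVal M j) ∈ T → B.vel (octVal M j) ≠ 1 → f j = true) →
      Nat.card T ≤ 1 + countLt 64 f := by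
    intro T f hT hf
    rw [countLt_eq]
    set F := ((Finset.range 64).filter fun j => f j = true)
    have key : ∀ x : ↥T, x.1 ∈ ({1} : Finset G) ∪ F.image fun j => B.vel (octVal M j) := fun x => by
      by_cases h1 : x.1 = 1
      · exact Finset.mem_union_left _ (by rw [h1]; exact Finset.mem_singleton_self _)
      · obtain ⟨j, hj, e⟩ := hx2 (hT x.2).2
        exact Finset.mem_union_right _ (Finset.mem_image.2
          ⟨j, Finset.mem_filter.2 ⟨Finset.mem_range.2 hj, hf j hj (e ▸ x.2) (e ▸ h1)⟩, e.symm⟩)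
    refine (Nat.card_le_card_of_injective (fun x : ↥T => (⟨x.1, key x⟩ :
      ↥(({1} : Finset G) ∪ F.image fun j => B.vel (octVal M j)))) fun a b e =>
        Subtype.ext (Subtype.mk.inj e)).trans ?_
    rw [Nat.card_eq_finsetCard]
    exact (Finset.card_union_le _ _).trans (Nat.add_le_add (le_of_eq (Finset.card_singleton _)) Finset.card_image_le)
  have hcodes : ∀ j < 64, octVal M j < 2048 := by
    intro j hj
    have hP24 : ∀ i, (maskPts M).getD i 0 < 24 := fun i => by
      by_cases hi : i < (maskPts M).length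
      · rw [List.getD_eq_getElem _ _ hi]; exact ((hmem _).1 (List.getElem_mem hi)).1
      · rw [List.getD_eq_default _ _ (not_lt.1 hi)]; norm_num
    have this : ∀ c, xorComb (fun k => pcI ((maskPts M).getD 0 0) ((maskPts M).getD (k + 1) 0)) j c < 2048 := by
      intro c
      induction c with
      | zero => show 0 < 2048; norm_num
      | succ c ih =>
        refine Nat.xor_lt_two_pow (n := 11) ih ?_
        rcases (show bitAt j c = 0 ∨ bitAt j c = 1 by
          unfold bitAt
          have : (Nat.land (Nat.shiftRight j c) 1) ≤ 1 := Nat.and_le_right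
          omega) with e | e <;> rw [e]
        · rw [show ∀ n, Nat.mul 0 n = 0 from Nat.zero_mul]; norm_num
        · rw [show ∀ n, Nat.mul 1 n = n from Nat.one_mul]
          show pcI ((maskPts M).getD 0 0) ((maskPts M).getD (c + 1) 0) < 2 ^ 11
          rw [← ix_pt (hP24 0), ← ix_pt (hP24 (c + 1)), pcI_eq]
          exact pairCode_lt _ _
    exact this 6
  have hW : ∀ j < 64, B.vel (octVal M j) ∈ B.octW oct → wMask.testBit (octVal M j) = true := fun j hj h =>
    (B.mem_octW_oct (hcodes j hj)).1 h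
  have hoct8 : Nat.card ↥(B.octW oct ⊓ B.octW o2) ≤ countLt 64 fun j => wMask.testBit (octVal M j) := by
    rw [countLt_eq]
    set F := ((Finset.range 64).filter fun j => wMask.testBit (octVal M j) = true)
    have key : ∀ x : ↥(B.octW oct ⊓ B.octW o2), x.1 ∈ F.image fun j => B.vel (octVal M j) := fun x => by
      obtain ⟨j, hj, e⟩ := hx2 x.2.2
      exact Finset.mem_image.2 ⟨j, Finset.mem_filter.2 ⟨Finset.mem_range.2 hj, hW j hj (e ▸ x.2.1)⟩, e.symm⟩
    refine (Nat.card_le_card_of_injective (fun x : ↥(B.octW oct ⊓ B.octW o2) => (⟨x.1, key x⟩ :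
      ↥(F.image fun j => B.vel (octVal M j)))) fun a b e => Subtype.ext (Subtype.mk.inj e)).trans ?_
    rw [Nat.card_eq_finsetCard]
    exact Finset.card_image_le
  have hcard : Nat.card ↥(B.octW o ⊓ B.octW o') = Nat.card ↥(B.octW oct ⊓ B.octW o2) := by
    rw [← hmap, Subgroup.card_map_of_injective (MulAut.conj (m : G)).injective]
  refine ⟨hcard ▸ hoct8.trans hc8, fun A hA hz => ?_, fun h8 => ?_⟩
  · obtain ⟨-, hD, -⟩ := B.duads_spec hG hJ
    rw [← Subgroup.card_map_of_injective (K := A)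
      (f := (MulAut.conj (m : G)).toMonoidHom) (MulAut.conj (m : G)).injective]
    refine (hcount _ (fun j => wz (octVal M j)) (hmap ▸ Subgroup.map_mono hA) fun j hj hjA h1 => ?_).trans
      (by omega)
    obtain ⟨x, hx, e⟩ := hjA
    have e' : (m : G) * x * (m : G)⁻¹ = B.vel (octVal M j) := e
    have hWj := hW j hj ((hmap ▸ Subgroup.mem_map_of_mem _ (hA hx) :
      (MulAut.conj (m : G)).toMonoidHom x ∈ B.octW oct ⊓ B.octW o2).1 |> fun h => e ▸ h)
    rw [wz, hWj]
    simp only [Bool.true_and, Bool.and_eq_true, Bool.not_eq_true']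
    have hx1 : x ≠ 1 := fun h => h1 (by rw [← e', h]; group)
    refine ⟨Bool.eq_false_iff.2 fun h => h1 (by rw [Nat.eq_of_beq_eq_true h, B.vel_zero]), ?_⟩
    refine Bool.eq_false_iff.2 fun hd => ((hD _ (hcodes j hj)).1 hd).2 ?_
    exact (hz x hx hx1).trans (isConj_iff.2 ⟨m, e'⟩)
  · rw [hcard] at h8
    have h3 := hc3.resolve_left (not_lt.2 (h8.trans hoct8))
    rw [← Finset.card_smul_finset (Φ m), Finset.smul_finset_inter, hg]
    refine h3.trans (le_of_eq ?_)
    rw [popc, popc_loop, ← Finset.card_image_of_injective (oct ∩ o2) ix_injective]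
    congr 1
    ext i
    rw [Finset.mem_filter, Finset.mem_range, Finset.mem_image, show Nat.land M octMask = M &&& octMask from rfl,
      Nat.testBit_and, Bool.and_eq_true]
    constructor
    · rintro ⟨hi, a, b⟩
      refine ⟨pt i, Finset.mem_inter.2 ⟨mem_oct.2 (by rw [ix_pt hi]; exact b), ?_⟩, ix_pt hi⟩
      exact ((hmem i).1 (mem_maskPts.2 ⟨hi, a⟩)).2
    · rintro ⟨x, hx, rfl⟩
      obtain ⟨x1, x2⟩ := Finset.mem_inter.1 hx
      exact ⟨ix_lt x, by rw [hek, testBit_maskOf]; exact decide_eq_true x2, mem_oct.1 x1⟩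

end HexBase

end CfsgLib.JankoFour
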