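import Cfsg.Agent.Lib.JankoFourTen.Types
import Cfsg.Agent.Lib.JankoFourFive.Base

/-!
# The normalizer of the standard subgroup: order and orbits (owner: helper14)
-/

set_option autoImplicit false
set_option linter.unusedSectionVars false
set_option maxRecDepth 100000

namespace CfsgLib.JankoFour

open Cfsg CfsgLib.ThreeTrans CfsgLib.Sporadic CfsgLib.JankoFourHexad CfsgLib.JankoFour.Ten MulAction
open scoped Pointwise

namespace Ten

theorem duad_count_all : Nat.beq (countLt 1024 fun c => !Nat.beq c 0 && !Nat.testBit zMask c) 868 = true := by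
  decide +kernel

theorem duad_count_w : Nat.beq (countLt 64 fun c => !Nat.beq c 0 && !Nat.testBit zMask c) 28 = true := by
  decide +kernel

theorem duad_witness : (!forallLt 64 fun i => !(!Nat.testBit zMask (i + 64))) = true := by decide +kernel

theorem w_sums : forallLt 64 (fun i => !forallLt 64 fun m =>
    !(Nat.testBit zMask m && Nat.testBit zMask (Nat.xor i m))) = true := by decide +kernel

theorem octPts_facts : forallLt 8 (fun a => Nat.blt (octPts.getD a 0) 24 &&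
    forallLt 8 fun b => Nat.beq a b || !Nat.beq (octPts.getD a 0) (octPts.getD b 0)) = true := by decide +kernel

theorem exists_zero_first : zMask.testBit 64 = true := by decide +kernel

end Ten

variable {G : Type*} [Group G] [Finite G]

/-- The orbit of an element under conjugation by a subgroup. -/
def conjOrbit (N : Subgroup G) (x : G) : Set G := {v | ∃ n ∈ N, n * x * n⁻¹ = v}

theorem conjOrbit_card (N : Subgroup G) (x : G) :
    (conjOrbit N x).ncard * Nat.card ↥(N ⊓ Subgroup.centralizer ({x} : Set G)) = Nat.card N := by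
  letI : MulAction ↥N G := MulAction.compHom G (MulAut.conj.comp N.subtype)
  have horb : orbit ↥N x = conjOrbit N x := by
    ext v
    exact ⟨fun ⟨n, e⟩ => ⟨n, n.2, e⟩, fun ⟨n, hn, e⟩ => ⟨⟨n, hn⟩, e⟩⟩
  have hstab : stabilizer ↥N x = (N ⊓ Subgroup.centralizer ({x} : Set G)).subgroupOf N := by
    ext n
    rw [mem_stabilizer_iff, Subgroup.mem_subgroupOf, Subgroup.mem_inf, Subgroup.mem_centralizer_singleton_iff]
    show (n : G) * x * (n : G)⁻¹ = x ↔ _
    exact ⟨fun h => ⟨n.2, mul_inv_eq_iff_eq_mul.1 h⟩, fun h => mul_inv_eq_iff_eq_mul.2 h.2⟩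
  rw [← horb, ← index_stabilizer, hstab, mul_comm,
    ← Nat.card_congr (Subgroup.subgroupOfEquivOfLe (inf_le_left : N ⊓ Subgroup.centralizer ({x} : Set G) ≤ N)).toEquiv]
  exact Subgroup.card_mul_index _

theorem conjOrbit_trans {N : Subgroup G} {x y z : G} (h1 : y ∈ conjOrbit N x) (h2 : z ∈ conjOrbit N y) :
    z ∈ conjOrbit N x := by
  obtain ⟨a, ha, rfl⟩ := h1
  obtain ⟨b, hb, rfl⟩ := h2
  exact ⟨b * a, mul_mem hb ha, by group⟩

theorem conjOrbit_symm {N : Subgroup G} {x y : G} (h1 : y ∈ conjOrbit N x) : x ∈ conjOrbit N y := by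
  obtain ⟨a, ha, rfl⟩ := h1
  exact ⟨a⁻¹, inv_mem ha, by group⟩

namespace HexBase

variable {S : Setting G} (B : HexBase S)

namespace TenBase

variable {B} (T : B.TenBase)

/-- The normalizer of the standard subgroup. -/
noncomputable abbrev NA : Subgroup G := Subgroup.normalizer (T.A0 : Set G)

theorem conj_mem_A0 {n : G} (hn : n ∈ T.NA) {x : G} (hx : x ∈ T.A0) : n * x * n⁻¹ ∈ T.A0 :=
  (Subgroup.mem_normalizer_iff.1 hn x).1 hx

theorem A0_inf_V : T.A0 ⊓ B.V = B.octW oct := by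
  refine le_antisymm ?_ (le_inf T.octW_le_A0 (B.octW_le_V oct))
  rintro _ ⟨⟨c, hc, rfl⟩, hV⟩
  have h1 := T.phi_el hc
  rw [(T.hker ⟨T.el c, T.A0_le (T.el_mem hc)⟩).2 hV] at h1
  have h0 := fixP_inj (h1.symm.trans fixP_zero.symm)
  rw [el, h0, T.kk_zero, mul_one]
  exact wel_mem (Nat.mod_lt _ (by norm_num))

theorem vel_kk_mem {n : ℕ} (hn : n < 2048) (s : Fin 16) :
    B.vel n * T.kk s ∈ T.A0 ↔ wMask.testBit n = true := by
  constructor
  · intro h
    have h' := mul_mem h (inv_mem (T.kk_mem_A0 s))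
    rw [mul_inv_cancel_right] at h'
    exact (B.mem_octW_oct hn).1 (T.A0_inf_V ▸ ⟨h', B.vel_mem hn⟩)
  · exact fun h => mul_mem (T.octW_le_A0 ((B.mem_octW_oct hn).2 h)) (T.kk_mem_A0 s)

theorem vel_conj_kk (s : Fin 16) {u : ℕ} (hu : u < 2048) :
    B.vel u * T.kk s * (B.vel u)⁻¹ = B.vel (fComm s.1 u) * T.kk s := by
  rw [inv_eq_of_mul_eq_one_right (show B.vel u * B.vel u = 1 by
    rw [B.vel_xor, show Nat.xor u u = 0 from Nat.xor_self u, B.vel_zero]), mul_assoc, T.kk_conj s hu, ← mul_assoc,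
    B.vel_xor]
  rfl

include T in
theorem fComm_lt (s : Fin 16) {u : ℕ} (hu : u < 2048) : fComm s.1 u < 2048 :=
  Nat.xor_lt_two_pow (n := 11) hu (by rw [← T.kk_act s hu]; exact B.act_lt _ _)

theorem vel_norm {u : ℕ} (hu : u < 2048) :
    B.vel u ∈ T.NA ↔ ∀ i : Fin 4, wMask.testBit (fComm (genIdx i.1) u) = true := by
  constructor
  · intro h i
    have h' := T.conj_mem_A0 h (T.kk_mem_A0 (gi i))
    rw [T.vel_conj_kk (gi i) hu] at h'
    exact (T.vel_kk_mem (T.fComm_lt (gi i) hu) (gi i)).1 h'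
  · intro h
    refine norm_of_map (Subgroup.eq_of_le_of_card_ge ?_ ?_)
    · rw [Subgroup.map_le_iff_le_comap]
      have hk : ∀ s, T.kk s ∈ T.A0.comap (MulAut.conj (B.vel u)).toMonoidHom := by
        refine fin16_induction (by rw [T.kk_zero]; exact one_mem _) (fun i => ?_) fun a c h1 h2 => by
          rw [← T.kk_mul]; exact mul_mem h1 h2
        show B.vel u * T.kk (gi i) * (B.vel u)⁻¹ ∈ T.A0
        rw [T.vel_conj_kk (gi i) hu]
        exact (T.vel_kk_mem (T.fComm_lt (gi i) hu) (gi i)).2 (h i)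
      rintro _ ⟨c, hc, rfl⟩
      refine mul_mem ?_ (hk _)
      show B.vel u * _ * (B.vel u)⁻¹ ∈ T.A0
      have hw := wel_mem (B := B) (Nat.mod_lt c (by norm_num : 64 > 0))
      rw [(B.commute_V (B.vel_mem hu) (B.octW_le_V oct hw)).eq, mul_inv_cancel_right]
      exact T.octW_le_A0 hw
    · rw [← Nat.card_congr (T.A0.equivMapOfInjective (MulAut.conj (B.vel u)).toMonoidHom
        (MulAut.conj (B.vel u)).injective).toEquiv]

theorem card_NA_inf_V : Nat.card ↥(T.NA ⊓ B.V) = 1024 := by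
  have hcnt := Nat.eq_of_beq_eq_true nva_count
  rw [countLt_eq] at hcnt
  rw [← hcnt, ← Nat.card_eq_finsetCard]
  let F : ↥((Finset.range 2048).filter fun u =>
      forallLt 4 (fun i => Nat.testBit wMask (fComm (genIdx i) u)) = true) → ↥(T.NA ⊓ B.V) := fun u =>
    ⟨B.vel u.1, (T.vel_norm (Finset.mem_range.1 (Finset.mem_filter.1 u.2).1)).2 fun i =>
        forallLt_elim (Finset.mem_filter.1 u.2).2 i.2,
      B.vel_mem (Finset.mem_range.1 (Finset.mem_filter.1 u.2).1)⟩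
  refine (Nat.card_congr (Equiv.ofBijective F ⟨fun a b e => Subtype.ext (B.vel_inj
    (Finset.mem_range.1 (Finset.mem_filter.1 a.2).1) (Finset.mem_range.1 (Finset.mem_filter.1 b.2).1)
    (congrArg Subtype.val e)), fun x => ?_⟩)).symm
  obtain ⟨n, hn, e⟩ := x.2.2
  exact ⟨⟨n, Finset.mem_filter.2 ⟨Finset.mem_range.2 hn, (forallLt_iff _ _).2 fun i hi =>
    (T.vel_norm hn).1 (e ▸ x.2.1) ⟨i, hi⟩⟩⟩, Subtype.ext e⟩

/-- The complement over the stabiliser of the octad. -/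
noncomputable def bHom : ↥(stabilizer ↥M24 oct) →* G :=
  MonoidHom.mk' (fun σ => B.vel (pairCode outP ((σ : ↥M24).1 outP)) * T.lift σ) fun σ τ => by
    show B.vel (pairCode outP ((σ : ↥M24).1 ((τ : ↥M24).1 outP))) * T.lift ((σ : ↥M24) * (τ : ↥M24)) = _
    rw [map_mul, show B.vel (pairCode outP ((σ : ↥M24).1 ((τ : ↥M24).1 outP))) =
      B.vel (pairCode outP ((σ : ↥M24).1 outP)) *
        (T.lift σ * B.vel (pairCode outP ((τ : ↥M24).1 outP)) * (T.lift σ)⁻¹) by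
      rw [B.conj_pair (T.lift_mem _) (T.moves_lift _), B.vel_xor]
      congr 1
      show _ = pairCode outP ((σ : ↥M24).1 outP) ^^^ _
      rw [pairCode_comm outP ((σ : ↥M24).1 outP), pairCode_xor]]
    group

theorem bHom_apply (σ : ↥(stabilizer ↥M24 oct)) :
    T.bHom σ = B.vel (pairCode outP ((σ : ↥M24).1 outP)) * T.lift σ := rfl

theorem bHom_mem (σ : ↥(stabilizer ↥M24 oct)) : T.bHom σ ∈ B.NV :=
  mul_mem (Subgroup.le_normalizer (B.vel_mem (pairCode_lt _ _))) (T.lift_mem _)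

theorem phi_bHom (σ : ↥(stabilizer ↥M24 oct)) : T.Φ ⟨T.bHom σ, T.bHom_mem σ⟩ = σ := by
  rw [show (⟨T.bHom σ, T.bHom_mem σ⟩ : ↥B.NV) =
    ⟨_, Subgroup.le_normalizer (B.vel_mem (pairCode_lt outP ((σ : ↥M24).1 outP)))⟩ * ⟨_, T.lift_mem (σ : ↥M24)⟩
      from rfl, map_mul, (T.hker ⟨_, Subgroup.le_normalizer (B.vel_mem (pairCode_lt outP ((σ : ↥M24).1 outP)))⟩).2
        (B.vel_mem (pairCode_lt _ _)), one_mul, T.phi_lift]

theorem bHom_inj : Function.Injective T.bHom := fun σ τ h => by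
  refine Subtype.ext ?_
  rw [← T.phi_bHom σ, ← T.phi_bHom τ]
  exact congrArg _ (Subtype.ext h)

theorem bHom_pair (σ : ↥(stabilizer ↥M24 oct)) (a b : GolayPt) :
    T.bHom σ * B.vel (pairCode a b) * (T.bHom σ)⁻¹ = B.vel (pairCode ((σ : ↥M24).1 a) ((σ : ↥M24).1 b)) := by
  refine B.conj_pair (T.bHom_mem σ) ?_ a b
  have := T.hmov ⟨T.bHom σ, T.bHom_mem σ⟩
  rwa [T.phi_bHom] at this

theorem bHom_NA (σ : ↥(stabilizer ↥M24 oct)) : T.bHom σ ∈ T.NA := by
  have ho : (σ : ↥M24) • oct = oct := σ.2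
  refine mul_mem ((T.vel_norm (pairCode_lt _ _)).2 fun i => ?_) ?_
  · set q := (σ : ↥M24).1 outP with hq
    by_cases hqp : q = outP
    · rw [hqp, pairCode_self, show fComm (genIdx i.1) 0 = 0 from ?_]
      · decide +kernel
      · show 0 ^^^ fImg (gi i).1 0 = 0
        rw [← T.kk_act (gi i) (by norm_num), B.act_zero (T.kk_mem _)]
        rfl
    · have hqo : octMask.testBit (ix q) = false := Bool.eq_false_iff.2 fun h => outP_not_mem (by
        have h' := mem_oct.2 h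
        rw [← ho] at h'
        obtain ⟨r, hr, e⟩ := Finset.mem_smul_finset.1 h'
        change (σ : ↥M24).1 r = (σ : ↥M24).1 outP at e
        rwa [← (σ : ↥M24).1.injective e])
      have h := forallLt_elim nva_pairs (ix_lt q)
      rw [hqo, show Nat.beq (ix q) outPt = false from Bool.eq_false_iff.2 fun e => hqp (ix_injective (by
        rw [Nat.eq_of_beq_eq_true e, ix_outP])), Bool.false_or, Bool.false_or] at h
      have h' := forallLt_elim h i.2
      rwa [← ix_outP, pcI_eq] at h'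
  · refine norm_of_map (Subgroup.eq_of_le_of_card_ge ?_ ?_)
    · rintro _ ⟨_, ⟨c, hc, rfl⟩, rfl⟩
      show T.lift (σ : ↥M24) * (B.vel (wVal (c % 64)) * T.kk _) * (T.lift (σ : ↥M24))⁻¹ ∈ T.A0
      rw [show ∀ g a b : G, g * (a * b) * g⁻¹ = g * a * g⁻¹ * (g * b * g⁻¹) from fun g a b => by group]
      refine mul_mem (T.octW_le_A0 ?_) ?_
      · have hmap := B.octW_map (T.lift_mem _) (T.moves_lift (σ : ↥M24)) oct
        rw [ho] at hmap
        rw [← hmap]
        exact ⟨_, wel_mem (Nat.mod_lt _ (by norm_num)), rfl⟩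
      · set s : Fin 16 := ⟨c / 64 % 16, Nat.mod_lt _ (by norm_num)⟩
        obtain ⟨t, ht⟩ := fixer_eq (mul_mem (mul_mem (σ : ↥M24).2 (fixP_mem s)) (inv_mem (σ : ↥M24).2))
          fun x hx => by
            rw [← ho] at hx
            obtain ⟨r, hr, rfl⟩ := Finset.mem_smul_finset.1 hx
            show (σ : ↥M24).1 (fixP s ((σ : ↥M24).1⁻¹ ((σ : ↥M24).1 r))) = (σ : ↥M24).1 r
            rw [show (σ : ↥M24).1⁻¹ ((σ : ↥M24).1 r) = r by simp, fixP_fix s hr]
        rw [kk, ← map_inv, ← map_mul, ← map_mul,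
          show (σ : ↥M24) * ⟨fixP s, fixP_mem s⟩ * (σ : ↥M24)⁻¹ = ⟨fixP t, fixP_mem t⟩ from Subtype.ext ht]
        exact T.kk_mem_A0 t
    · rw [← Nat.card_congr (T.A0.equivMapOfInjective (MulAut.conj (T.lift (σ : ↥M24))).toMonoidHom
        (MulAut.conj (T.lift (σ : ↥M24))).injective).toEquiv]

theorem phi_stab {n : G} (hn : n ∈ T.NA) (hN : n ∈ B.NV) : T.Φ ⟨n, hN⟩ ∈ stabilizer ↥M24 oct := by
  rw [mem_stabilizer_iff]
  refine B.octW_inj ((smul_mem_octads' _).2 oct_mem) ?_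
  rw [← B.octW_map hN (T.hmov ⟨n, hN⟩) oct]
  rintro _ ⟨x, hx, rfl⟩
  rw [← T.A0_inf_V]
  exact ⟨T.conj_mem_A0 hn (T.octW_le_A0 hx), B.conj_mem hN (B.octW_le_V oct hx)⟩

theorem card_NA_inf_NV : Nat.card ↥(T.NA ⊓ B.NV) = 1024 * 322560 := by
  let ρ : ↥(T.NA ⊓ B.NV) →* ↥(stabilizer ↥M24 oct) :=
    (T.Φ.comp (Subgroup.inclusion inf_le_right)).codRestrict _ fun n => T.phi_stab n.2.1 n.2.2
  have hsurj : Function.Surjective ρ := fun σ =>
    ⟨⟨T.bHom σ, T.bHom_NA σ, T.bHom_mem σ⟩, Subtype.ext (T.phi_bHom σ)⟩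
  have hker : ρ.ker = (T.NA ⊓ B.V).subgroupOf (T.NA ⊓ B.NV) := by
    ext n
    rw [MonoidHom.mem_ker, Subgroup.mem_subgroupOf, Subgroup.mem_inf]
    exact ⟨fun h => ⟨n.2.1, (T.hker _).1 (congrArg Subtype.val h)⟩, fun h => Subtype.ext ((T.hker _).2 h.2)⟩
  have h := Subgroup.card_eq_card_quotient_mul_card_subgroup ρ.ker
  rw [Nat.card_congr (QuotientGroup.quotientKerEquivOfSurjective ρ hsurj).toEquiv, card_stab_oct, hker,
    Nat.card_congr (Subgroup.subgroupOfEquivOfLe (le_inf inf_le_left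
      (inf_le_right.trans Subgroup.le_normalizer) : T.NA ⊓ B.V ≤ T.NA ⊓ B.NV)).toEquiv, T.card_NA_inf_V] at h
  rw [h, mul_comm]

theorem exists_el {n : G} (hn : n ∈ T.NA) {c : ℕ} (hc : c < 1024) :
    ∃ d < 1024, T.el d = n * T.el c * n⁻¹ :=
  T.conj_mem_A0 hn (T.el_mem hc)

theorem el_ne_one {c : ℕ} (hc : c < 1024) (h0 : c ≠ 0) : T.el c ≠ 1 := fun e =>
  h0 (T.el_inj hc (by norm_num) (e.trans T.el_zero.symm))

theorem el_in_W {i : ℕ} (hi : i < 64) : T.el i = B.vel (wVal i) := by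
  rw [show i = i + 64 * (0 : Fin 16).1 by simp, T.el_eq hi, T.kk_zero, mul_one]
  simp

variable [IsSimpleGroup G]

/-- Every duad element moves into the span inside `V`. -/
theorem exists_to_W (hG : ¬ IsMulCommutative G) (hJ : IsOfJankoFourType G) {x : G} (hx : x ∈ T.A0) (hx1 : x ≠ 1)
    (hxz : ¬ IsConj S.z x) : ∃ n ∈ T.NA, n * x * n⁻¹ ∈ B.octW oct := by
  haveI : Fact (Nat.Prime 2) := ⟨Nat.prime_two⟩
  have hord : orderOf x = 2 := orderOf_eq_prime (T.A0_elementary.2 x hx) hx1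
  obtain ⟨v, hv, hv1, hc⟩ := B.involution_conj_V hG hord
  obtain ⟨g, hg⟩ := isConj_iff.1 hc
  set A' := T.A0.map (MulAut.conj g).toMonoidHom with hA'
  have hA'N : A' ≤ B.NV := fun y hy => B.centralizer_duad_le hG hJ hv hv1 (fun h => hxz (h.trans hc.symm)) <| by
    obtain ⟨a, ha, rfl⟩ := hy
    refine Subgroup.mem_centralizer_singleton_iff.2 ?_
    have hax : Commute a x := congrArg Subtype.val (T.A0_elementary.1.1.1 ⟨a, ha⟩ ⟨x, hx⟩)
    rw [← hg]
    exact ((LargeData.commute_conj_iff' (g := g)).2 hax).eq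
  obtain ⟨m, hm, he⟩ := T.conj_A0_of_le hG hJ (HexBase.self_map (T.A0_self hG hJ) g) hA'N
  have hn : m⁻¹ * g ∈ T.NA := norm_of_map (by
    ext y
    have := congrArg (fun H : Subgroup G => m * y * m⁻¹ ∈ H) he
    simp only [hA', mem_map_conj] at this
    rw [mem_map_conj]
    simpa [mul_assoc] using this.symm)
  refine ⟨_, hn, ?_⟩
  rw [← T.A0_inf_V]
  refine ⟨T.conj_mem_A0 hn hx, ?_⟩
  have := B.conj_mem (inv_mem hm) hv
  rw [← hg] at this
  simpa [mul_assoc] using this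

theorem duad_in_W (hG : ¬ IsMulCommutative G) (hJ : IsOfJankoFourType G) {x : G} (hx : x ∈ B.octW oct)
    (hx1 : x ≠ 1) (hxz : ¬ IsConj S.z x) :
    ∃ a ∈ oct, ∃ b ∈ oct, a ≠ b ∧ x = B.vel (pairCode a b) := by
  obtain ⟨-, hD, -⟩ := B.duads_spec hG hJ
  obtain ⟨n, hn, rfl⟩ := B.octW_le_V oct hx
  obtain ⟨a, b, hab, e⟩ := exists_pairCode hn ((hD n hn).2 ⟨fun e => hx1 (e ▸ B.vel_zero), hxz⟩)
  have hw := (B.mem_octW_oct hn).1 hx
  have hc := forallLt_elim (forallLt_elim w_pairs (ix_lt a)) (ix_lt b)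
  rw [show Nat.beq (ix a) (ix b) = false from Bool.eq_false_iff.2 fun e =>
    hab (ix_injective (Nat.eq_of_beq_eq_true e)), Bool.false_or, beq_iff_eq, pcI_eq, e, hw] at hc
  exact ⟨a, mem_oct.2 (Bool.and_eq_true_iff.1 hc.symm).1, b, mem_oct.2 (Bool.and_eq_true_iff.1 hc.symm).2, hab,
    by rw [e]⟩

theorem exists_stab_map {xs ys : List GolayPt} (hx : xs.Nodup) (hy : ys.Nodup) (hl : xs.length = ys.length)
    (h5 : xs.length ≤ 5) (hxo : ∀ x ∈ xs, x ∈ oct) (hyo : ∀ y ∈ ys, y ∈ oct) :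
    ∃ σ : ↥(stabilizer ↥M24 oct), xs.map (fun x => (σ : ↥M24).1 x) = ys := by
  obtain ⟨x', hx1, hx2, hx3⟩ := exists_five oct_mem hx hxo h5
  obtain ⟨y', hy1, hy2, hy3⟩ := exists_five oct_mem hy hyo (hl ▸ h5)
  obtain ⟨g, hg, ho⟩ := exists_map_octad oct_mem oct_mem hx1 hy1 hx2 hy2 hx3 hy3
  rw [List.map_append] at hg
  exact ⟨⟨g, ho⟩, (List.append_inj hg (by rw [List.length_map, hl])).1⟩

theorem duad_W_orbit (hG : ¬ IsMulCommutative G) (hJ : IsOfJankoFourType G) {x y : G} (hx : x ∈ B.octW oct)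
    (hx1 : x ≠ 1) (hxz : ¬ IsConj S.z x) (hy : y ∈ B.octW oct) (hy1 : y ≠ 1) (hyz : ¬ IsConj S.z y) :
    y ∈ conjOrbit (T.NA ⊓ B.NV) x := by
  obtain ⟨a, ha, b, hb, hab, rfl⟩ := duad_in_W (B := B) hG hJ hx hx1 hxz
  obtain ⟨c, hc, d, hd, hcd, rfl⟩ := duad_in_W (B := B) hG hJ hy hy1 hyz
  obtain ⟨σ, hσ⟩ := exists_stab_map (xs := [a, b]) (ys := [c, d]) (by simp [hab]) (by simp [hcd]) rfl (by simp)
    (by simp [ha, hb]) (by simp [hc, hd])
  simp only [List.map_cons, List.map_nil, List.cons.injEq, and_true] at hσ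
  exact ⟨T.bHom σ, ⟨T.bHom_NA σ, T.bHom_mem σ⟩, by rw [T.bHom_pair, hσ.1, hσ.2]⟩

theorem conj_iff {n x : G} : IsConj S.z (n * x * n⁻¹) ↔ IsConj S.z x :=
  ⟨fun h => h.trans (isConj_iff.2 ⟨n, rfl⟩).symm, fun h => h.trans (isConj_iff.2 ⟨n, rfl⟩)⟩

theorem duad_orbit (hG : ¬ IsMulCommutative G) (hJ : IsOfJankoFourType G) {x y : G} (hx : x ∈ T.A0)
    (hx1 : x ≠ 1) (hxz : ¬ IsConj S.z x) (hy : y ∈ T.A0) (hy1 : y ≠ 1) (hyz : ¬ IsConj S.z y) :
    y ∈ conjOrbit T.NA x := by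
  obtain ⟨n, hn, hnx⟩ := T.exists_to_W hG hJ hx hx1 hxz
  obtain ⟨m, hm, hmy⟩ := T.exists_to_W hG hJ hy hy1 hyz
  obtain ⟨k, hk, e⟩ := T.duad_W_orbit hG hJ hnx (fun e => hx1 (conj_eq_one_iff.1 e)) (fun h => hxz (conj_iff.1 h))
    hmy (fun e => hy1 (conj_eq_one_iff.1 e)) fun h => hyz (conj_iff.1 h)
  exact conjOrbit_trans ⟨n, hn, rfl⟩ (conjOrbit_trans ⟨k, hk.1, e⟩ ⟨m⁻¹, inv_mem hm, by group⟩)

theorem zero_ne {c : ℕ} (hz : zMask.testBit c = true) : c ≠ 0 := fun e => by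
  subst e
  exact absurd hz (by decide +kernel)

theorem w_orbit_z (hG : ¬ IsMulCommutative G) (hJ : IsOfJankoFourType G) {i j : ℕ} (hi : i < 64) (hj : j < 64)
    (hiz : zMask.testBit i = true) (hjz : zMask.testBit j = true) :
    T.el j ∈ conjOrbit T.NA (T.el i) := by
  have key : ∀ {i}, i < 64 → zMask.testBit i = true → ∃ a b c d : GolayPt, [a, b, c, d].Nodup ∧
      (∀ x ∈ [a, b, c, d], x ∈ oct) ∧ T.el i = B.vel (pairCode a b) * B.vel (pairCode c d) := by
    intro i hi hz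
    have h := forallLt_elim z_sextet hi
    rw [hz, Bool.not_true, Bool.false_or] at h
    obtain ⟨a, ha, h⟩ := exists_of_forallLt_not (f := fun a => !forallLt 8 fun b => forallLt 8 fun c => forallLt 8 fun d =>
      !(Nat.blt a b && Nat.blt b c && Nat.blt c d &&
        Nat.beq (wVal i) (Nat.xor (pcI (octPts.getD a 0) (octPts.getD b 0))
          (pcI (octPts.getD c 0) (octPts.getD d 0))))) (by simpa only [Bool.not_not] using h)
    obtain ⟨b, hb, h⟩ := exists_of_forallLt_not (f := fun b => !forallLt 8 fun c => forallLt 8 fun d =>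
      !(Nat.blt a b && Nat.blt b c && Nat.blt c d &&
        Nat.beq (wVal i) (Nat.xor (pcI (octPts.getD a 0) (octPts.getD b 0))
          (pcI (octPts.getD c 0) (octPts.getD d 0))))) (by simpa only [Bool.not_not] using h)
    obtain ⟨c, hc, h⟩ := exists_of_forallLt_not (f := fun c => !forallLt 8 fun d =>
      !(Nat.blt a b && Nat.blt b c && Nat.blt c d &&
        Nat.beq (wVal i) (Nat.xor (pcI (octPts.getD a 0) (octPts.getD b 0))
          (pcI (octPts.getD c 0) (octPts.getD d 0))))) (by simpa only [Bool.not_not] using h)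
    obtain ⟨d, hd, h⟩ := exists_of_forallLt_not h
    simp only [Bool.and_eq_true, Nat.blt_eq] at h
    obtain ⟨⟨⟨hab, hbc⟩, hcd⟩, he⟩ := h
    have hp : ∀ {k}, k < 8 → octPts.getD k 0 < 24 ∧ octMask.testBit (octPts.getD k 0) = true := fun {k} hk => by
      have h1 := forallLt_elim octPts_facts hk
      simp only [Bool.and_eq_true, Nat.blt_eq] at h1
      exact ⟨h1.1, forallLt_elim oct_facts.2.2.2.2.2.1 hk⟩
    have hne : ∀ {k l}, k < 8 → l < 8 → k ≠ l → pt (octPts.getD k 0) ≠ pt (octPts.getD l 0) := fun {k l} hk hl hkl e => by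
      have h1 := forallLt_elim octPts_facts hk
      simp only [Bool.and_eq_true] at h1
      have h2 := forallLt_elim h1.2 hl
      rw [show Nat.beq k l = false from Bool.eq_false_iff.2 fun e => hkl (Nat.eq_of_beq_eq_true e), Bool.false_or] at h2
      have e' := congrArg ix e
      rw [ix_pt (hp hk).1, ix_pt (hp hl).1] at e'
      rw [e'] at h2
      simp at h2
    refine ⟨pt (octPts.getD a 0), pt (octPts.getD b 0), pt (octPts.getD c 0), pt (octPts.getD d 0), ?_, ?_, ?_⟩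
    · simp only [List.nodup_cons, List.mem_cons, List.not_mem_nil, or_false, not_or, List.nodup_nil, not_false_eq_true,
        and_true]
      exact ⟨⟨hne ha hb (by omega), hne ha hc (by omega), hne ha hd (by omega)⟩,
        ⟨hne hb hc (by omega), hne hb hd (by omega)⟩, hne hc hd (by omega)⟩
    · intro x hx
      simp only [List.mem_cons, List.not_mem_nil, or_false] at hx
      rcases hx with rfl | rfl | rfl | rfl <;> refine mem_oct.2 ?_
      · rw [ix_pt (hp ha).1]; exact (hp ha).2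
      · rw [ix_pt (hp hb).1]; exact (hp hb).2
      · rw [ix_pt (hp hc).1]; exact (hp hc).2
      · rw [ix_pt (hp hd).1]; exact (hp hd).2
    · rw [T.el_in_W hi, Nat.eq_of_beq_eq_true he, ← B.vel_xor, ← pcI_eq, ← pcI_eq, ix_pt (hp ha).1,
        ix_pt (hp hb).1, ix_pt (hp hc).1, ix_pt (hp hd).1]
  obtain ⟨a, b, c, d, h4, ho, e⟩ := key hi hiz
  obtain ⟨a', b', c', d', h4', ho', e'⟩ := key hj hjz
  obtain ⟨σ, hσ⟩ := exists_stab_map h4 h4' rfl (by simp) ho ho'
  simp only [List.map_cons, List.map_nil, List.cons.injEq, and_true] at hσ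
  refine ⟨T.bHom σ, T.bHom_NA σ, ?_⟩
  obtain ⟨r1, r2, r3, r4⟩ := hσ
  rw [e, e', show T.bHom σ * (B.vel (pairCode a b) * B.vel (pairCode c d)) * (T.bHom σ)⁻¹ =
    T.bHom σ * B.vel (pairCode a b) * (T.bHom σ)⁻¹ * (T.bHom σ * B.vel (pairCode c d) * (T.bHom σ)⁻¹) by group,
    T.bHom_pair, T.bHom_pair, r1, r2, r3, r4]

theorem out_orbit_z (hG : ¬ IsMulCommutative G) (hJ : IsOfJankoFourType G) {c : ℕ} (hc : c < 1024) (h64 : 64 ≤ c)
    (hz : zMask.testBit c = true) : T.el c ∈ conjOrbit T.NA (T.kk 1) := by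
  -- the first coset
  have first : ∀ {i}, i < 64 → zMask.testBit (i + 64) = true → T.el (i + 64) ∈ conjOrbit T.NA (T.kk 1) := by
    intro i hi h
    set u := pick (commPre.getD 1 0) i with hu'
    have hu : u < 2048 := Nat.lt_of_le_of_lt Nat.and_le_right (by norm_num)
    have h1 := forallLt_elim z_first hi
    rw [h, Bool.not_true, Bool.false_or] at h1
    have h2 := forallLt_elim z_coset (show 1 < 16 by norm_num)
    rw [show Nat.beq 1 0 = false from rfl, Bool.false_or] at h2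
    have h3 := forallLt_elim h2 hi
    rw [show i + 64 * 1 = i + 64 from rfl, h, if_pos rfl] at h3
    refine ⟨B.vel u, (T.vel_norm hu).2 fun k => forallLt_elim h1 k.2, ?_⟩
    rw [T.vel_conj_kk 1 hu, show i + 64 = i + 64 * (1 : Fin 16).1 from rfl, T.el_eq hi,
      ← Nat.eq_of_beq_eq_true h3]
    rfl
  obtain ⟨i, hi, s, rfl⟩ := el_exists c hc
  have hs : s ≠ 0 := fun e => by subst e; simp at h64; omega
  obtain ⟨g, hgo, hge⟩ := fix_conj hs (show (1 : Fin 16) ≠ 0 by decide)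
  have hb := T.bHom_NA ⟨g, hgo⟩
  obtain ⟨d, hd, e⟩ := T.exists_el hb hc
  have hdz : zMask.testBit d = true := by
    rw [← T.el_isConj hG hJ hd, e, conj_iff, T.el_isConj hG hJ hc]; exact hz
  obtain ⟨j, hj, t, rfl⟩ := el_exists d hd
  have ht : t = 1 := by
    refine fixP_inj ?_
    have hN : T.bHom ⟨g, hgo⟩ ∈ B.NV := T.bHom_mem _
    have h1 := T.phi_el hd
    rw [show (⟨T.el (j + 64 * t.1), T.A0_le (T.el_mem hd)⟩ : ↥B.NV) =
      ⟨_, hN⟩ * ⟨T.el (i + 64 * s.1), T.A0_le (T.el_mem hc)⟩ * ⟨_, hN⟩⁻¹ from Subtype.ext e, map_mul, map_mul,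
      map_inv, T.phi_bHom] at h1
    change g.1 * (T.Φ ⟨T.el (i + 64 * s.1), _⟩).1 * g.1⁻¹ = _ at h1
    rw [T.phi_el hc, show (⟨(i + 64 * s.1) / 64 % 16, Nat.mod_lt _ (by norm_num)⟩ : Fin 16) = s from
      Fin.ext (show (i + 64 * s.1) / 64 % 16 = s.1 by omega), hge,
      show (⟨(j + 64 * t.1) / 64 % 16, Nat.mod_lt _ (by norm_num)⟩ : Fin 16) = t from
      Fin.ext (show (j + 64 * t.1) / 64 % 16 = t.1 by omega)] at h1
    exact h1.symm
  subst ht
  exact conjOrbit_trans (first hj hdz) (conjOrbit_symm ⟨_, hb, e.symm⟩)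

theorem z_orbit_all (hG : ¬ IsMulCommutative G) (hJ : IsOfJankoFourType G) {c : ℕ} (hc : c < 1024)
    (hz : zMask.testBit c = true) : T.el c ∈ conjOrbit T.NA (T.kk 1) := by
  by_cases h64 : 64 ≤ c
  · exact T.out_orbit_z hG hJ hc h64 hz
  push Not at h64
  by_cases hmove : ∃ i < 64, zMask.testBit i = true ∧ ∃ n ∈ T.NA, n * T.el i * n⁻¹ ∉ B.octW oct
  · obtain ⟨i, hi, hiz, n, hn, hno⟩ := hmove
    obtain ⟨d, hd, e⟩ := T.exists_el hn (show i < 1024 by omega)
    have hdz : zMask.testBit d = true := by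
      rw [← T.el_isConj hG hJ hd, e, conj_iff, T.el_isConj hG hJ (by omega)]; exact hiz
    have hd64 : 64 ≤ d := by
      by_contra hlt
      push Not at hlt
      exact hno (e ▸ (T.el_in_W hlt).symm ▸ wel_mem hlt)
    exact conjOrbit_trans (conjOrbit_trans (T.out_orbit_z hG hJ hd hd64 hdz) (conjOrbit_symm ⟨n, hn, e.symm⟩))
      (T.w_orbit_z hG hJ hi h64 hiz hz)
  · exfalso
    push Not at hmove
    have hWn : ∀ n ∈ T.NA, ∀ x ∈ B.octW oct, n * x * n⁻¹ ∈ B.octW oct := by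
      intro n hn x hx
      obtain ⟨m, hm, rfl⟩ := B.octW_le_V oct hx
      obtain ⟨i, hi, rfl⟩ := exists_wVal hm ((B.mem_octW_oct hm).1 hx)
      obtain ⟨k, hk, h⟩ := exists_of_forallLt_not (forallLt_elim w_sums hi)
      rw [Bool.and_eq_true] at h
      have hxk : Nat.xor i k < 64 := Nat.xor_lt_two_pow (n := 6) hi hk
      rw [← T.el_in_W hi, show T.el i = T.el k * T.el (Nat.xor i k) by
        rw [T.el_xor]; congr 1; show i = k ^^^ (i ^^^ k)
        rw [Nat.xor_comm i k, ← Nat.xor_assoc, Nat.xor_self, Nat.zero_xor],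
        show n * (T.el k * T.el (Nat.xor i k)) * n⁻¹ = n * T.el k * n⁻¹ * (n * T.el (Nat.xor i k) * n⁻¹) by group]
      exact mul_mem (hmove k hk h.1 n hn) (hmove _ hxk h.2 n hn)
    obtain ⟨i, hi, hw⟩ := exists_of_forallLt_not duad_witness
    rw [Bool.not_eq_true'] at hw
    have hi' : i + 64 < 1024 := by omega
    obtain ⟨n, hn, hnW⟩ := T.exists_to_W hG hJ (T.el_mem hi') (T.el_ne_one hi' (by omega))
      fun h => by rw [(T.el_isConj hG hJ hi').1 h] at hw; exact Bool.noConfusion hw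
    have hback := hWn n⁻¹ (inv_mem hn) _ hnW
    rw [show n⁻¹ * (n * T.el (i + 64) * n⁻¹) * n⁻¹⁻¹ = T.el (i + 64) by group] at hback
    obtain ⟨m, hm, e⟩ := B.octW_le_V oct hback
    obtain ⟨j, hj, rfl⟩ := exists_wVal hm ((B.mem_octW_oct hm).1 (e ▸ hback))
    have := T.el_inj (show j < 1024 by omega) hi' ((T.el_in_W hj).trans e)
    omega

/-- The elements of the standard subgroup with prescribed marks, as a set. -/
theorem ncard_el (f : ℕ → Bool) (n : ℕ) (hn : n ≤ 1024) :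
    ((fun c => T.el c) '' {c | c < n ∧ f c = true}).ncard = countLt n f := by
  rw [countLt_eq, Set.ncard_image_of_injOn fun a ha b hb e =>
    T.el_inj (lt_of_lt_of_le ha.1 hn) (lt_of_lt_of_le hb.1 hn) e, ← Set.ncard_coe_finset]
  congr 1
  ext c
  simp

theorem orbit_z_eq (hG : ¬ IsMulCommutative G) (hJ : IsOfJankoFourType G) :
    conjOrbit T.NA (T.kk 1) = (fun c => T.el c) '' {c | c < 1024 ∧ zMask.testBit c = true} := by
  have h64 : T.el 64 = T.kk 1 := by
    rw [show (64 : ℕ) = 0 + 64 * (1 : Fin 16).1 from rfl, T.el_eq (by norm_num),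
      show wVal 0 = 0 by decide +kernel, B.vel_zero, one_mul]
  ext v
  constructor
  · rintro ⟨n, hn, rfl⟩
    obtain ⟨d, hd, e⟩ := T.exists_el hn (show 64 < 1024 by norm_num)
    rw [h64] at e
    refine ⟨d, ⟨hd, ?_⟩, e⟩
    rw [← T.el_isConj hG hJ hd, e, conj_iff, ← h64, T.el_isConj hG hJ (by norm_num)]
    exact exists_zero_first
  · rintro ⟨c, ⟨hc, hz⟩, rfl⟩
    exact T.z_orbit_all hG hJ hc hz

theorem ncard_orbit_z (hG : ¬ IsMulCommutative G) (hJ : IsOfJankoFourType G) :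
    (conjOrbit T.NA (T.kk 1)).ncard = 155 := by
  rw [T.orbit_z_eq hG hJ, T.ncard_el _ _ le_rfl]
  exact Nat.eq_of_beq_eq_true z_count

theorem duad_mem_iff (hG : ¬ IsMulCommutative G) (hJ : IsOfJankoFourType G) {c : ℕ} (hc : c < 1024) :
    (T.el c ≠ 1 ∧ ¬ IsConj S.z (T.el c)) ↔ (!Nat.beq c 0 && !Nat.testBit zMask c) = true := by
  rw [Bool.and_eq_true, Bool.not_eq_true', Bool.not_eq_true', T.el_isConj hG hJ hc, Bool.eq_false_iff,
    Bool.eq_false_iff]
  refine and_congr ⟨fun h e => h ?_, fun h e => h ?_⟩ Iff.rfl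
  · rw [Nat.eq_of_beq_eq_true e, T.el_zero]
  · rw [T.el_inj hc (by norm_num) (e.trans T.el_zero.symm)]; rfl

theorem exists_duad (hG : ¬ IsMulCommutative G) (hJ : IsOfJankoFourType G) :
    ∃ t ∈ B.octW oct, t ≠ 1 ∧ ¬ IsConj S.z t := by
  obtain ⟨a, ha, b, hb, hab⟩ := Finset.one_lt_card.1 (show 1 < oct.card by rw [oct_mem.2]; norm_num)
  exact ⟨_, B.pair_mem_octW ha hb, B.duad_not_conj hG hJ hab⟩

theorem orbit_duad_eq (hG : ¬ IsMulCommutative G) (hJ : IsOfJankoFourType G) {t : G} (ht : t ∈ T.A0)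
    (ht1 : t ≠ 1) (htz : ¬ IsConj S.z t) :
    conjOrbit T.NA t = (fun c => T.el c) '' {c | c < 1024 ∧ (!Nat.beq c 0 && !Nat.testBit zMask c) = true} := by
  ext v
  constructor
  · rintro ⟨n, hn, rfl⟩
    obtain ⟨d, hd, e⟩ := T.conj_mem_A0 hn ht
    refine ⟨d, ⟨hd, (T.duad_mem_iff hG hJ hd).1 ?_⟩, e⟩
    rw [e]
    exact ⟨fun h => ht1 (conj_eq_one_iff.1 h), fun h => htz (conj_iff.1 h)⟩
  · rintro ⟨c, ⟨hc, h⟩, rfl⟩
    obtain ⟨h1, h2⟩ := (T.duad_mem_iff hG hJ hc).2 h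
    exact T.duad_orbit hG hJ ht ht1 htz (T.el_mem hc) h1 h2

theorem ncard_orbit_duad (hG : ¬ IsMulCommutative G) (hJ : IsOfJankoFourType G) {t : G} (ht : t ∈ T.A0)
    (ht1 : t ≠ 1) (htz : ¬ IsConj S.z t) : (conjOrbit T.NA t).ncard = 868 := by
  rw [T.orbit_duad_eq hG hJ ht ht1 htz, T.ncard_el _ _ le_rfl]
  exact Nat.eq_of_beq_eq_true duad_count_all

theorem card_NA (hG : ¬ IsMulCommutative G) (hJ : IsOfJankoFourType G) :
    Nat.card T.NA = 31 * (1024 * 322560) := by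
  obtain ⟨t, htW, ht1, htz⟩ := exists_duad (B := B) hG hJ
  have hC : T.NA ⊓ Subgroup.centralizer ({t} : Set G) = (T.NA ⊓ B.NV) ⊓ Subgroup.centralizer ({t} : Set G) :=
    le_antisymm (fun g hg => ⟨⟨hg.1, B.centralizer_duad_le hG hJ (B.octW_le_V oct htW) ht1 htz hg.2⟩, hg.2⟩)
      (inf_le_inf_right _ inf_le_left)
  have hM : (conjOrbit (T.NA ⊓ B.NV) t).ncard = 28 := by
    rw [show conjOrbit (T.NA ⊓ B.NV) t =
      (fun c => T.el c) '' {c | c < 64 ∧ (!Nat.beq c 0 && !Nat.testBit zMask c) = true} from ?_,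
      T.ncard_el _ _ (by norm_num)]
    · exact Nat.eq_of_beq_eq_true duad_count_w
    ext v
    constructor
    · rintro ⟨n, ⟨hn, hnN⟩, rfl⟩
      have hv : n * t * n⁻¹ ∈ B.octW oct :=
        T.A0_inf_V ▸ ⟨T.conj_mem_A0 hn (T.octW_le_A0 htW), B.conj_mem hnN (B.octW_le_V oct htW)⟩
      obtain ⟨m, hm, e⟩ := B.octW_le_V oct hv
      obtain ⟨i, hi, rfl⟩ := exists_wVal hm ((B.mem_octW_oct hm).1 (e ▸ hv))
      refine ⟨i, ⟨hi, (T.duad_mem_iff hG hJ (by omega)).1 ?_⟩, (T.el_in_W hi).trans e⟩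
      rw [T.el_in_W hi, e]
      exact ⟨fun h => ht1 (conj_eq_one_iff.1 h), fun h => htz (conj_iff.1 h)⟩
    · rintro ⟨c, ⟨hc, h⟩, rfl⟩
      obtain ⟨h1, h2⟩ := (T.duad_mem_iff hG hJ (by omega)).2 h
      exact T.duad_W_orbit hG hJ htW ht1 htz (by show T.el c ∈ _; rw [T.el_in_W hc]; exact wel_mem hc) h1 h2
  have e1 := conjOrbit_card T.NA t
  have e2 := conjOrbit_card (T.NA ⊓ B.NV) t
  rw [T.ncard_orbit_duad hG hJ (T.octW_le_A0 htW) ht1 htz, hC] at e1
  rw [hM, T.card_NA_inf_NV] at e2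
  rw [← e1, ← e2, ← mul_assoc]
  try norm_num

/-- The normalizer leaves no proper subgroup invariant. -/
theorem irreducible (hG : ¬ IsMulCommutative G) (hJ : IsOfJankoFourType G) {W : Subgroup G} (hW : W ≤ T.A0)
    (hinv : T.NA ≤ Subgroup.normalizer (W : Set G)) : W = ⊥ ∨ W = T.A0 := by
  refine or_iff_not_imp_left.2 fun hne => le_antisymm hW ?_
  obtain ⟨x, hx, hx1⟩ := (Subgroup.bot_or_exists_ne_one W).resolve_left hne
  have horb : ∀ {v}, v ∈ conjOrbit T.NA x → v ∈ W := by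
    rintro _ ⟨n, hn, rfl⟩
    exact (Subgroup.mem_normalizer_iff.1 (hinv hn) x).1 hx
  rintro _ ⟨c, hc, rfl⟩
  by_cases hc0 : c = 0
  · rw [hc0, T.el_zero]; exact one_mem _
  have hs := forallLt_elim z_sums hc
  rw [show Nat.beq c 0 = false from Bool.eq_false_iff.2 fun e => hc0 (Nat.eq_of_beq_eq_true e), Bool.false_or,
    Bool.and_eq_true] at hs
  have hsplit : ∀ m, T.el c = T.el m * T.el (Nat.xor c m) := fun m => by
    rw [T.el_xor]; congr 1; show c = m ^^^ (c ^^^ m)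
    rw [Nat.xor_comm c m, ← Nat.xor_assoc, Nat.xor_self, Nat.zero_xor]
  by_cases hxz : IsConj S.z x
  · have hz : ∀ {d}, d < 1024 → zMask.testBit d = true → T.el d ∈ W := fun {d} hd h => horb (by
      obtain ⟨e, he, rfl⟩ := hW hx
      exact conjOrbit_trans (conjOrbit_symm (T.z_orbit_all hG hJ he ((T.el_isConj hG hJ he).1 hxz)))
        (T.z_orbit_all hG hJ hd h))
    obtain ⟨m, hm, h⟩ := exists_of_forallLt_not hs.1
    rw [Bool.and_eq_true] at h
    rw [hsplit m]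
    exact mul_mem (hz hm h.1) (hz (Nat.xor_lt_two_pow (n := 10) hc hm) h.2)
  · have hd' : ∀ {d}, d < 1024 → d ≠ 0 → zMask.testBit d = false → T.el d ∈ W := fun {d} hd h0 h =>
      horb (T.duad_orbit hG hJ (hW hx) hx1 hxz (T.el_mem hd) (T.el_ne_one hd h0) fun hz => by
        rw [(T.el_isConj hG hJ hd).1 hz] at h; exact Bool.noConfusion h)
    obtain ⟨m, hm, h⟩ := exists_of_forallLt_not hs.2
    simp only [Bool.and_eq_true, Bool.not_eq_true'] at h
    rw [hsplit m]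
    refine mul_mem (hd' hm ?_ h.1.2) (hd' (Nat.xor_lt_two_pow (n := 10) hc hm) ?_ h.2)
    · intro e
      have := h.1.1.1
      rw [e] at this; simp at this
    · intro e
      have := h.1.1.2
      rw [show m = c from (bxor_eq_zero e).symm] at this
      simp at this

end TenBase

end HexBase

end CfsgLib.JankoFour
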