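import Cfsg.Agent.Lib.JankoFourTen.Checks

/-!
# Checks on the thirty-one subspaces of conjugates of the central involution (owner: helper14)
-/

set_option autoImplicit false
set_option maxRecDepth 100000

namespace CfsgLib.JankoFour.Ten

open CfsgLib.Sporadic

/-- A label holds a code. -/
noncomputable def inL (p c : ℕ) : Bool := Nat.testBit (lMasks.getD p 0) c

theorem l_sub : forallLt 32 (fun p => Nat.beq p 0 ||
    (inL p 0 && Nat.beq (countLt 1024 fun c => inL p c) 16 &&
    forallLt 1024 (fun a => !inL p a || ((Nat.beq a 0 || Nat.testBit zMask a) &&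
      forallLt 1024 (fun b => !inL p b || inL p (Nat.xor a b)))))) = true := by decide +kernel

theorem z_list : forallLt 1024 (fun c => !Nat.testBit zMask c ||
    !forallLt 155 (fun i => !Nat.beq (pick zList i) c)) = true := by decide +kernel

/-- All nonzero combinations with a new element are conjugates. -/
noncomputable def zWith (a b c d : ℕ) : Bool :=
  Nat.testBit zMask (Nat.xor a d) && Nat.testBit zMask (Nat.xor b d) &&
    Nat.testBit zMask (Nat.xor (Nat.xor a b) d) && Nat.testBit zMask (Nat.xor c d) &&
    Nat.testBit zMask (Nat.xor (Nat.xor a c) d) && Nat.testBit zMask (Nat.xor (Nat.xor b c) d) &&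
    Nat.testBit zMask (Nat.xor (Nat.xor (Nat.xor a b) c) d)

set_option maxHeartbeats 4000000 in
theorem l_complete : forallLt 155 (fun i => forallLt 155 fun j => (fun a b => !Nat.blt a b ||
    !Nat.blt b (Nat.xor a b) ||
    !Nat.testBit zMask (Nat.xor a b) || forallLt 155 fun k => (fun c => !Nat.blt b c ||
      !Nat.blt c (Nat.xor a c) || !Nat.blt c (Nat.xor b c) || !Nat.blt c (Nat.xor (Nat.xor a b) c) ||
      !(Nat.testBit zMask (Nat.xor a c) && Nat.testBit zMask (Nat.xor b c) &&
        Nat.testBit zMask (Nat.xor (Nat.xor a b) c)) || forallLt 155 fun l => (fun d => !Nat.blt c d ||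
        !zWith a b c d ||
        !forallLt 32 (fun p => Nat.beq p 0 || !(inL p a && inL p b && inL p c && inL p d)))
          (pick zList l)) (pick zList k)) (pick zList i) (pick zList j)) = true := by
  decide +kernel

/-- The common element of two of the subspaces. -/
noncomputable def meetAt (p q : ℕ) : ℕ := pick (lMeet.getD p 0) q

theorem l_meet : forallLt 32 (fun p => forallLt 32 fun q => Nat.beq p 0 || Nat.beq q 0 || Nat.beq p q ||
    (!Nat.beq (meetAt p q) 0 && inL p (meetAt p q) && inL q (meetAt p q) &&
      forallLt 32 (fun r => Nat.beq r 0 ||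
        (inL r (meetAt p q) == (Nat.beq r p || Nat.beq r q || Nat.beq r (Nat.xor p q)))))) = true := by
  decide +kernel

theorem l_cover : forallLt 1024 (fun x => !Nat.testBit zMask x ||
    !forallLt 32 (fun p => Nat.beq p 0 || !inL p x || forallLt 32 fun q =>
      Nat.beq q 0 || Nat.beq p q || !inL q x)) = true := by decide +kernel

end CfsgLib.JankoFour.Ten
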