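import Cfsg.Agent.Lib.JankoFourTen.Codes

/-!
# Self-centralizing elementary abelian subgroups of order 2^10 in `N(V)` (owner: helper14)

Such a subgroup meets `V` in the span of the duads of an octad and induces the pointwise fixer of that octad.
-/

set_option autoImplicit false
set_option linter.unusedSectionVars false
set_option maxRecDepth 100000

namespace CfsgLib.JankoFour

open Cfsg CfsgLib.Sporadic CfsgLib.JankoFourHexad CfsgLib.JankoFour.Ten MulAction
open scoped Pointwise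

variable {G : Type*} [Group G] [Finite G]

/-- A subgroup of index at most two meets every subgroup in index at most two. -/
theorem card_inf_half {D X W : Subgroup G} (hD : D ≤ X) (hW : W ≤ X) (h : Nat.card X ≤ 2 * Nat.card W) :
    Nat.card D ≤ 2 * Nat.card ↥(D ⊓ W : Subgroup G) := by
  have hidx := Subgroup.card_mul_index (W.subgroupOf X)
  rw [Nat.card_congr (Subgroup.subgroupOfEquivOfLe hW).toEquiv] at hidx
  have hpos : 0 < Nat.card W := Nat.card_pos
  have h2 : (W.subgroupOf X).index ≤ 2 := Nat.le_of_mul_le_mul_left (by rw [hidx, mul_comm]; exact h) hpos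
  have h0 : (W.subgroupOf X).index ≠ 0 := Subgroup.index_ne_zero_of_finite
  rw [← Nat.card_congr (Subgroup.subgroupOfEquivOfLe (inf_le_left : D ⊓ W ≤ D)).toEquiv]
  refine card_le_two_mul _ fun a b ha hb => ?_
  have hout : ∀ a : ↥D, a ∉ (D ⊓ W).subgroupOf D → (⟨a.1, hD a.2⟩ : ↥X) ∉ W.subgroupOf X := fun a ha hW' =>
    ha (Subgroup.mem_subgroupOf.2 ⟨a.2, hW'⟩)
  rcases (show (W.subgroupOf X).index = 1 ∨ (W.subgroupOf X).index = 2 by omega) with e | e
  · exact absurd (Subgroup.index_eq_one.1 e ▸ Subgroup.mem_top _) (hout a ha)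
  · refine Subgroup.mem_subgroupOf.2 ⟨(a⁻¹ * b).2, ?_⟩
    have := (Subgroup.mul_mem_iff_of_index_two e (a := (⟨a.1, hD a.2⟩ : ↥X)⁻¹) (b := ⟨b.1, hD b.2⟩)).2
      (iff_of_false (fun h => hout a ha (by simpa using h)) (hout b hb))
    exact this

theorem exists_two_nontrivial {H : Type*} [Group H] [Finite H] (h : 3 ≤ Nat.card H) :
    ∃ a b : H, a ≠ 1 ∧ b ≠ 1 ∧ a ≠ b := by
  classical
  letI := Fintype.ofFinite H
  rw [Nat.card_eq_fintype_card, ← Finset.card_univ] at h
  obtain ⟨a, ha, b, hb, hab⟩ := Finset.one_lt_card.1 (show 1 < (Finset.univ.erase (1 : H)).card by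
    rw [Finset.card_erase_of_mem (Finset.mem_univ _)]; omega)
  exact ⟨a, b, Finset.ne_of_mem_erase ha, Finset.ne_of_mem_erase hb, hab⟩

namespace HexBase

variable {S : Setting G} (B : HexBase S)

/-- A self-centralizing elementary abelian subgroup of order `2 ^ 10`. -/
def Self (A : Subgroup G) : Prop :=
  IsElementaryAbelian 2 A ∧ Nat.card A = 2 ^ 10 ∧ Subgroup.centralizer (A : Set G) = A

/-- A complement to `V` in its normalizer with the action on the points. -/
structure TenBase where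
  K : Subgroup G
  hK : K ≤ B.NV
  hKV : K ⊓ B.V = ⊥
  hKV' : K ⊔ B.V = B.NV
  Φ : ↥B.NV →* ↥M24
  hsurj : Function.Surjective Φ
  hker : ∀ m, Φ m = 1 ↔ (m : G) ∈ B.V
  hmov : ∀ m : ↥B.NV, B.Moves24 (m : G) ((Φ m : ↥M24) : Equiv.Perm GolayPt)

theorem exists_tenBase [IsSimpleGroup G] (hG : ¬ IsMulCommutative G) (hJ : IsOfJankoFourType G) :
    Nonempty B.TenBase := by
  obtain ⟨K, h1, h2, h3, -⟩ := B.exists_complement hG hJ
  obtain ⟨Φ, h4, h5, h6⟩ := B.exists_phi hG hJ
  exact ⟨⟨K, h1, h2, h3, Φ, h4, h5, h6⟩⟩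

/-- A span of an octad has no four-dimensional subgroup of conjugates of the central involution. -/
theorem no_four_z [IsSimpleGroup G] (hG : ¬ IsMulCommutative G) (hJ : IsOfJankoFourType G) (T : B.TenBase)
    {o : Finset GolayPt} (ho : o ∈ octads) {A : Subgroup G} (hA : A ≤ B.octW o)
    (hz : ∀ x ∈ A, x ≠ 1 → IsConj S.z x) : Nat.card A ≤ 8 := by
  classical
  obtain ⟨-, hD, -⟩ := B.duads_spec hG hJ
  obtain ⟨g, hg⟩ := exists_to_oct ho
  obtain ⟨m, rfl⟩ := T.hsurj g
  rw [Nat.card_congr (A.equivMapOfInjective (MulAut.conj (m : G)).toMonoidHom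
    (MulAut.conj (m : G)).injective).toEquiv]
  set A' := A.map (MulAut.conj (m : G)).toMonoidHom
  have hA' : A' ≤ B.octW oct := by rw [← hg, ← B.octW_map m.2 (T.hmov m)]; exact Subgroup.map_mono hA
  have hz' : ∀ x ∈ A', x ≠ 1 → IsConj S.z x := by
    rintro _ ⟨y, hy, rfl⟩ h
    exact (hz y hy fun e => h (by rw [e, map_one])).trans (isConj_iff.2 ⟨(m : G), rfl⟩)
  have hx : ∀ i j, wVal (i ^^^ j) = Nat.xor (wVal i) (wVal j) := fun i j => xorComb_xor _ i j 6
  have hv : ∀ i < 64, wMask.testBit (wVal i) = true ∧ wVal i < 2048 ∧ (i ≠ 0 → wVal i ≠ 0) := fun i hi => by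
    have h := forallLt_elim w_vals hi
    simp only [Bool.and_eq_true, Nat.blt_eq, Bool.or_eq_true, Bool.not_eq_true'] at h
    refine ⟨h.1.1, h.1.2, fun h0 e => ?_⟩
    rcases h.2 with h' | h'
    · exact h0 (Nat.eq_of_beq_eq_true h')
    · rw [e] at h'; simp at h'
  set I := (Finset.range 64).filter fun i => B.vel (wVal i) ∈ A' with hIdef
  have hI : Nat.card A' ≤ I.card := by
    have key : ∀ x : ↥A', x.1 ∈ I.image fun i => B.vel (wVal i) := fun x => by
      obtain ⟨n, hn, e⟩ := B.octW_le_V oct (hA' x.2)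
      have hb := (B.mem_octW_oct hn).1 (e ▸ hA' x.2)
      have h := forallLt_elim w_cover hn
      rw [hb, Bool.not_true, Bool.false_or, Bool.not_eq_true'] at h
      by_contra hne
      rw [countLt_eq, Finset.card_eq_zero.2 (Finset.filter_eq_empty_iff.2 fun i hi he => hne
        (Finset.mem_image.2 ⟨i, Finset.mem_filter.2 ⟨hi, by rw [Nat.eq_of_beq_eq_true he, e]; exact x.2⟩,
          by rw [Nat.eq_of_beq_eq_true he, e]⟩))] at h
      simp at h
    refine (Nat.card_le_card_of_injective (fun x : ↥A' => (⟨x.1, key x⟩ : ↥(I.image fun i => B.vel (wVal i))))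
      fun a b e => Subtype.ext (Subtype.mk.inj e)).trans ?_
    rw [Nat.card_eq_finsetCard]
    exact Finset.card_image_le
  refine hI.trans (not_lt.1 fun hgt => ?_)
  have hmul : ∀ {i j}, i ∈ I → j ∈ I → i ^^^ j ∈ I := fun {i j} hi hj => by
    rw [hIdef, Finset.mem_filter, Finset.mem_range] at hi hj ⊢
    exact ⟨Nat.xor_lt_two_pow (n := 6) hi.1 hj.1, by rw [hx, ← B.vel_xor]; exact mul_mem hi.2 hj.2⟩
  have hwz : ∀ {i}, i ∈ I → i ≠ 0 → wz (wVal i) = true := fun {i} hi h0 => by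
    rw [hIdef, Finset.mem_filter, Finset.mem_range] at hi
    obtain ⟨h1, h2, h3⟩ := hv i hi.1
    have hd : dMask.testBit (wVal i) = false := Bool.eq_false_iff.2 fun h =>
      ((hD _ h2).1 h).2 (hz' _ hi.2 fun e => h3 h0 (B.vel_inj h2 (by norm_num) (e.trans B.vel_zero.symm)))
    rw [wz, h1, hd, Bool.eq_false_iff.2 fun e => h3 h0 (Nat.eq_of_beq_eq_true e)]
    rfl
  have pick' : ∀ s : Finset ℕ, s.card ≤ 8 → ∃ i ∈ I, i ∉ s := fun s hs => by
    by_contra hne
    push Not at hne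
    exact absurd (Finset.card_le_card hne) (by omega)
  have hlt : ∀ {i}, i ∈ I → i < 64 := fun {i} hi => Finset.mem_range.1 (Finset.mem_filter.1 hi).1
  obtain ⟨a, ha, ha'⟩ := pick' {0} (by simp)
  obtain ⟨b, hb, hb'⟩ := pick' {0, a} (Finset.card_le_two.trans (by norm_num))
  obtain ⟨c, hc, hc'⟩ := pick' {0, a, b, a ^^^ b} (Finset.card_le_four.trans (by norm_num))
  obtain ⟨d, hd, hd'⟩ := pick' {0, a, b, a ^^^ b, c, a ^^^ c, b ^^^ c, a ^^^ b ^^^ c} (by
    refine (Finset.card_insert_le _ _).trans ?_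
    iterate 6 refine Nat.succ_le_succ ((Finset.card_insert_le _ _).trans ?_)
    simp)
  simp only [Finset.mem_insert, Finset.mem_singleton, not_or] at ha' hb' hc' hd'
  have hne : ∀ {i j : ℕ}, i ≠ j → i ^^^ j ≠ 0 := fun {i j} h e => h (Nat.xor_eq_zero_iff.1 e)
  have hab := hmul ha hb
  obtain ⟨c1, c2, c3, c4⟩ := hc'
  obtain ⟨d1, d2, d3, d4, d5, d6, d7, d8⟩ := hd'
  have k1 := forallLt_elim sextet_rank (hv a (hlt ha)).2.1
  rw [hwz ha ha', Bool.not_true, Bool.false_or] at k1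
  have k2 := forallLt_elim k1 (hv b (hlt hb)).2.1
  rw [hwz hb hb'.1, ← hx, hwz hab (hne (Ne.symm hb'.2)), Bool.and_self, Bool.not_true, Bool.false_or] at k2
  have k3 := forallLt_elim k2 (hlt hc)
  simp only [← hx, hwz hc c1, hwz (hmul ha hc) (hne (Ne.symm c2)), hwz (hmul hb hc) (hne (Ne.symm c3)),
    hwz (hmul hab hc) (hne (Ne.symm c4)), Bool.and_self, Bool.not_true, Bool.false_or] at k3
  have k4 := forallLt_elim k3 (hlt hd)
  simp only [← hx, hwz hd d1, hwz (hmul ha hd) (hne (Ne.symm d2)), hwz (hmul hb hd) (hne (Ne.symm d3)),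
    hwz (hmul hab hd) (hne (Ne.symm d4)), hwz (hmul hc hd) (hne (Ne.symm d5)),
    hwz (hmul (hmul ha hc) hd) (hne (Ne.symm d6)), hwz (hmul (hmul hb hc) hd) (hne (Ne.symm d7)),
    hwz (hmul (hmul hab hc) hd) (hne (Ne.symm d8)), Bool.and_self, Bool.not_true] at k4
  exact Bool.noConfusion k4

theorem classify [IsSimpleGroup G] (hG : ¬ IsMulCommutative G) (hJ : IsOfJankoFourType G) (T : B.TenBase)
    {A : Subgroup G} (hA : Self A) (hN : A ≤ B.NV) :
    ∃ o ∈ octads, A ⊓ B.V = B.octW o ∧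
      (∀ a (ha : a ∈ A), ∀ x ∈ o, (T.Φ ⟨a, hN ha⟩).1 x = x) ∧
      ∀ σ ∈ M24, (∀ x ∈ o, σ x = x) → ∃ a, ∃ ha : a ∈ A, (T.Φ ⟨a, hN ha⟩).1 = σ := by
  classical
  obtain ⟨hel, hcard, hcent⟩ := hA
  have hA2 : ∀ x ∈ A, x * x = 1 := fun x hx => by rw [← pow_two]; exact hel.2 x hx
  have hAc : ∀ {x y}, x ∈ A → y ∈ A → Commute x y := fun {x y} hx hy =>
    congrArg Subtype.val (hel.1.1.1 ⟨x, hx⟩ ⟨y, hy⟩)
  let ψ : ↥A →* Equiv.Perm GolayPt := M24.subtype.comp (T.Φ.comp (Subgroup.inclusion hN))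
  set D := A ⊓ B.V with hDdef
  set R := ψ.range with hRdef
  have hmv : ∀ a : ↥A, B.Moves24 (a : G) (ψ a) := fun a => T.hmov (Subgroup.inclusion hN a)
  have hDA : ∀ {v}, v ∈ B.V → (∀ a ∈ A, Commute a v) → v ∈ D := fun {v} hv h =>
    ⟨hcent ▸ Subgroup.mem_centralizer_iff.2 fun a ha => (h a ha).eq, hv⟩
  have hk : ψ.ker = D.subgroupOf A := by
    ext a
    rw [MonoidHom.mem_ker, Subgroup.mem_subgroupOf, hDdef, Subgroup.mem_inf]
    constructor
    · intro h
      exact ⟨a.2, (T.hker (Subgroup.inclusion hN a)).1 (Subtype.ext h)⟩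
    · intro h
      exact congrArg Subtype.val ((T.hker (Subgroup.inclusion hN a)).2 h.2)
  have hRD : Nat.card R * Nat.card D = 1024 := by
    have h := Subgroup.card_eq_card_quotient_mul_card_subgroup ψ.ker
    rw [Nat.card_congr (QuotientGroup.quotientKerEquivRange ψ).toEquiv, hk,
      Nat.card_congr (Subgroup.subgroupOfEquivOfLe (inf_le_left : D ≤ A)).toEquiv, hcard] at h
    exact h.symm.trans (by norm_num)
  have hR : R ≤ M24 := by rintro _ ⟨a, rfl⟩; exact (T.Φ _).2
  have h2 : ∀ g ∈ R, g * g = 1 := by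
    rintro _ ⟨a, rfl⟩
    rw [← map_mul, show a * a = 1 from Subtype.ext (hA2 _ a.2), map_one]
  have hRc : ∀ a ∈ R, ∀ b ∈ R, a * b = b * a := by
    rintro _ ⟨a, rfl⟩ _ ⟨b, rfl⟩
    rw [← map_mul, ← map_mul, show a * b = b * a from Subtype.ext (hAc a.2 b.2).eq]
  have hR64 := rank_le hR hRc h2
  have hDle : ∀ a : ↥A, D ≤ B.cV (a : G) := fun a d hd =>
    ⟨hd.2, Subgroup.mem_centralizer_singleton_iff.2 (hAc hd.1 a.2).eq⟩
  have hpair : ∀ {a b : GolayPt}, a ≠ b → B.vel (pairCode a b) ∈ D →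
      ∀ g ∈ R, (g a = a ∧ g b = b) ∨ (g a = b ∧ g b = a) := by
    rintro a b hab hd _ ⟨x, rfl⟩
    exact B.pair_fixed (m := Subgroup.inclusion hN x) (hmv x) hab (hAc x.2 hd.1)
  -- three points with two duads in the intersection are fixed
  have hthree : ∀ {a b c : GolayPt}, a ≠ b → a ≠ c → b ≠ c → B.vel (pairCode a b) ∈ D →
      B.vel (pairCode a c) ∈ D → ∀ g ∈ R, g a = a := by
    intro a b c hab hac hbc hb hc g hg
    rcases hpair hab hb g hg with ⟨u, -⟩ | ⟨u, -⟩
    · exact u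
    · rcases hpair hac hc g hg with ⟨v, -⟩ | ⟨v, -⟩
      · exact v
      · exact absurd (u.symm.trans v) hbc
  have hfix16 : ∀ {p : GolayPt}, (∀ g ∈ R, g p = p) → Nat.card R ≤ 16 := fun {p} h =>
    card_le_sixteen hR h2 h
  -- two elements with the same fixed octad
  have hsame : ∀ a b : ↥A, ψ a ≠ 1 → ψ b ≠ 1 → ψ a ≠ ψ b → fixSet (ψ b) = fixSet (ψ a) →
      ∀ {p}, ψ a p = p → D ≤ B.octW (fixSet (ψ a)) := by
    intro a b ha hb hab hfs p hp d hd
    have ho := fixSet_octad (hR ⟨a, rfl⟩) (h2 _ ⟨a, rfl⟩) ha hp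
    set o := fixSet (ψ a) with hodef
    have hW : ∀ x : ↥A, (∀ q ∈ o, ψ x q = q) → B.octW o ≤ B.cV (x : G) := fun x hx y hy =>
      ⟨B.octW_le_V o hy, Subgroup.mem_centralizer_singleton_iff.2
        (B.octW_fixed (hN x.2) (hmv x) hx hy).symm.eq⟩
    have hWa := hW a fun q hq => mem_fixSet.1 hq
    have hWb := hW b fun q hq => mem_fixSet.1 (hfs ▸ hq)
    have hca : Nat.card (B.cV (a : G)) = 128 :=
      ((B.card_cV hG hJ (hN a.2) (hmv a) (h2 _ ⟨a, rfl⟩) ha).resolve_right fun h => h.2 p hp).1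
    by_contra hdW
    -- the fixed spaces would coincide
    have hle : B.cV (a : G) ≤ B.cV (b : G) := by
      intro y hy
      by_cases hyW : y ∈ B.octW o
      · exact hWb hyW
      · have hidx : ((B.octW o).subgroupOf (B.cV (a : G))).index = 2 := by
          have h := Subgroup.card_mul_index ((B.octW o).subgroupOf (B.cV (a : G)))
          rw [Nat.card_congr (Subgroup.subgroupOfEquivOfLe hWa).toEquiv, B.card_octW hG hJ ho, hca] at h
          omega
        have hmem := (Subgroup.mul_mem_iff_of_index_two hidx (a := ⟨y, hy⟩) (b := ⟨d, hDle a hd⟩)).2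
          (iff_of_false hyW hdW)
        have hyd : y * d ∈ B.cV (b : G) := hWb hmem
        have := mul_mem hyd (inv_mem (hDle b hd))
        rwa [mul_inv_cancel_right] at this
    refine hab (Equiv.ext fun q => ?_)
    by_cases hq : ψ a q = q
    · rw [hq]; exact (mem_fixSet.1 (hfs ▸ mem_fixSet.2 hq)).symm
    · have haa : ψ a (ψ a q) = q := by
        rw [← Equiv.Perm.mul_apply, h2 _ ⟨a, rfl⟩, Equiv.Perm.one_apply]
      have hm : B.vel (pairCode q (ψ a q)) ∈ B.cV (a : G) :=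
        (B.mem_cV (hN a.2) (pairCode_lt _ _)).2 (by rw [hmv a, haa, pairCode_comm])
      have hb' := (B.mem_cV (hN b.2) (pairCode_lt _ _)).1 (hle hm)
      rw [hmv b] at hb'
      rcases pairCode_eq ((ψ b).injective.ne (Ne.symm hq)) (Ne.symm hq) hb' with ⟨u, -⟩ | ⟨u, -⟩
      · refine absurd ?_ hq
        exact mem_fixSet.1 (show q ∈ o from hfs ▸ mem_fixSet.2 u)
      · exact u.symm
  -- if the intersection is large in a subgroup holding the span, the octad is fixed
  have hhalf : ∀ {o : Finset GolayPt}, o ∈ octads →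
      ∀ {X : Subgroup G}, D ≤ X → B.octW o ≤ X → Nat.card X ≤ 2 * Nat.card D →
      ∀ g ∈ R, ∀ q ∈ o, g q = q := by
    intro o ho X hDX hWX hX g hg
    have hone : ∀ {a b c}, a ∈ o → b ∈ o → c ∈ o → B.vel (pairCode a b) ∈ D ∨ B.vel (pairCode a c) ∈ D ∨
        B.vel (pairCode b c) ∈ D := by
      intro a b c ha hb hc
      by_contra hne
      push Not at hne
      have hidx := Subgroup.card_mul_index (D.subgroupOf X)
      rw [Nat.card_congr (Subgroup.subgroupOfEquivOfLe hDX).toEquiv] at hidx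
      have hi2 : (D.subgroupOf X).index ≤ 2 :=
        Nat.le_of_mul_le_mul_left (by rw [hidx, mul_comm]; exact hX) Nat.card_pos
      have hi0 : (D.subgroupOf X).index ≠ 0 := Subgroup.index_ne_zero_of_finite
      rcases (show (D.subgroupOf X).index = 1 ∨ (D.subgroupOf X).index = 2 by omega) with e | e
      · have := Subgroup.index_eq_one.1 e ▸ Subgroup.mem_top (⟨_, hWX (B.pair_mem_octW ha hb)⟩ : ↥X)
        exact hne.1 (Subgroup.mem_subgroupOf.1 this)
      · have := (Subgroup.mul_mem_iff_of_index_two e (a := (⟨_, hWX (B.pair_mem_octW ha hb)⟩ : ↥X))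
          (b := ⟨_, hWX (B.pair_mem_octW ha hc)⟩)).2 (iff_of_false hne.1 hne.2.1)
        refine hne.2.2 ?_
        have h' : B.vel (pairCode a b) * B.vel (pairCode a c) ∈ D := this
        rwa [B.vel_xor, show Nat.xor (pairCode a b) (pairCode a c) = pairCode b c from pairCode_xor a b c] at h'
    by_contra hne
    push Not at hne
    obtain ⟨a, ha, hga⟩ := hne
    have hnot : ∀ {c}, c ∈ o → c ≠ a → c ≠ g a → B.vel (pairCode a c) ∉ D := fun {c} _ hca hcg hd => by
      rcases hpair (Ne.symm hca) hd g hg with ⟨u, -⟩ | ⟨u, -⟩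
      · exact hga u
      · exact hcg u.symm
    have hin : ∀ {c d}, c ∈ o → d ∈ o → c ≠ a → c ≠ g a → d ≠ a → d ≠ g a → B.vel (pairCode c d) ∈ D :=
      fun {c d} hc hd h1 h2 h3 h4 =>
        ((hone ha hc hd).resolve_left (hnot hc h1 h2)).resolve_left (hnot hd h3 h4)
    set s := (o.erase a).erase (g a)
    have hs : 6 ≤ s.card := by
      have h1 := Finset.pred_card_le_card_erase (a := g a) (s := o.erase a)
      rw [Finset.card_erase_of_mem ha, ho.2] at h1
      omega
    have hsm : ∀ {c}, c ∈ s → c ∈ o ∧ c ≠ a ∧ c ≠ g a := fun {c} hc =>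
      ⟨Finset.mem_of_mem_erase (Finset.mem_of_mem_erase hc),
        Finset.ne_of_mem_erase (Finset.mem_of_mem_erase hc), Finset.ne_of_mem_erase hc⟩
    have hfix : s ⊆ fixSet g := fun c hc => by
      obtain ⟨d, hd, e, he, hde⟩ := Finset.one_lt_card.1 (show 1 < (s.erase c).card by
        rw [Finset.card_erase_of_mem hc]; omega)
      obtain ⟨c1, c2, c3⟩ := hsm hc
      obtain ⟨d1, d2, d3⟩ := hsm (Finset.mem_of_mem_erase hd)
      obtain ⟨e1, e2, e3⟩ := hsm (Finset.mem_of_mem_erase he)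
      exact mem_fixSet.2 (hthree (Finset.ne_of_mem_erase hd).symm (Finset.ne_of_mem_erase he).symm hde
        (hin c1 d1 c2 c3 d2 d3) (hin c1 e1 c2 c3 e2 e3) g hg)
    have hg1 : g ≠ 1 := fun e => hga (by rw [e]; rfl)
    obtain ⟨c, hc⟩ : s.Nonempty := Finset.card_pos.1 (by omega)
    have heq := eq_of_inter_five (fixSet_octad (hR hg) (h2 g hg) hg1 (mem_fixSet.1 (hfix hc))) ho
      (le_trans (by omega) (Finset.card_le_card fun x hx =>
        Finset.mem_inter.2 ⟨hfix hx, (hsm hx).1⟩))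
    exact hga (mem_fixSet.1 (heq ▸ ha))
  have hmem : ∀ {g}, g ∈ R → ∃ a : ↥A, ψ a = g := fun {g} hg => hg
  -- the fixed space of an element with a fixed point
  have hX : ∀ (a : ↥A), ψ a ≠ 1 → ∀ {p}, ψ a p = p → fixSet (ψ a) ∈ octads ∧ Nat.card (B.cV (a : G)) = 128 ∧
      B.octW (fixSet (ψ a)) ≤ B.cV (a : G) ∧ Nat.card D ≤ 2 * Nat.card ↥(D ⊓ B.octW (fixSet (ψ a))) := by
    intro a ha p hp
    have ho := fixSet_octad (hR ⟨a, rfl⟩) (h2 _ ⟨a, rfl⟩) ha hp
    have hc := ((B.card_cV hG hJ (hN a.2) (hmv a) (h2 _ ⟨a, rfl⟩) ha).resolve_right fun h => h.2 p hp).1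
    have hW : B.octW (fixSet (ψ a)) ≤ B.cV (a : G) := fun y hy => ⟨B.octW_le_V _ hy,
      Subgroup.mem_centralizer_singleton_iff.2 (B.octW_fixed (hN a.2) (hmv a) (fun q hq => mem_fixSet.1 hq) hy).symm.eq⟩
    exact ⟨ho, hc, hW, card_inf_half (hDle a) hW (by rw [hc, B.card_octW hG hJ ho])⟩
  by_cases hnofix : ∀ a : ↥A, ψ a ≠ 1 → ∀ p, ψ a p ≠ p
  · exfalso
    have hR8 : Nat.card R ≤ 8 := by
      letI : Fintype ↥R := Fintype.ofFinite _
      have hb := sum_card_fixedBy_eq_card_orbits_mul_card_group ↥R GolayPt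
      have hz : ∀ g : ↥R, Fintype.card (fixedBy GolayPt g) = if g = 1 then 24 else 0 := by
        intro g
        split_ifs with h
        · subst h
          rw [← Set.toFinset_card]
          simp [GolayPt]
        · rw [Fintype.card_eq_zero_iff]
          refine ⟨fun x => ?_⟩
          obtain ⟨a, ha⟩ := hmem g.2
          refine hnofix a (fun e => h (Subtype.ext (ha.symm.trans e))) x.1 ?_
          rw [ha]; exact x.2
      rw [Finset.sum_congr rfl fun g _ => hz g, Finset.sum_ite_eq', if_pos (Finset.mem_univ _),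
        ← Nat.card_eq_fintype_card] at hb
      have hd : Nat.card R ∣ 24 := by rw [Nat.card_eq_fintype_card]; exact Dvd.intro_left _ hb.symm
      obtain ⟨k, hk'⟩ := IsPGroup.iff_card.1 (show IsPGroup 2 ↥R from fun g => ⟨1, Subtype.ext (by
        simpa [pow_two] using h2 g g.2)⟩)
      haveI : Fact (Nat.Prime 2) := ⟨Nat.prime_two⟩
      rw [hk'] at hd ⊢
      have h3 : 2 ^ k ∣ 2 ^ 3 :=
        (show Nat.Coprime (2 ^ k) 3 from Nat.Coprime.pow_left k (by norm_num)).dvd_of_dvd_mul_left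
          (show 2 ^ k ∣ 3 * 2 ^ 3 by norm_num; exact hd)
      exact Nat.le_of_dvd (by norm_num) h3
    by_cases h1 : ∀ a : ↥A, ψ a = 1
    · -- inside `V` it would not be self-centralizing
      have hAV : A ≤ B.V := fun x hx => (T.hker _).1 (Subtype.ext (h1 ⟨x, hx⟩))
      have : B.V ≤ A := hcent ▸ fun v hv => Subgroup.mem_centralizer_iff.2 fun a ha => (B.commute_V (hAV ha) hv).eq
      have := Subgroup.card_le_of_le this
      rw [B.card_V, hcard] at this
      norm_num at this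
    · obtain ⟨a, ha⟩ := not_forall.1 h1
      have h64 : Nat.card (B.cV (a : G)) = 64 :=
        ((B.card_cV hG hJ (hN a.2) (hmv a) (h2 _ ⟨a, rfl⟩) ha).resolve_left fun h => by
          obtain ⟨p, hp⟩ := h.2
          exact hnofix a ha p hp).1
      have := Subgroup.card_le_of_le (hDle a)
      nlinarith
  push Not at hnofix
  obtain ⟨x, hx, p, hp⟩ := hnofix
  obtain ⟨ho, hc128, hWx, hDW⟩ := hX x hx hp
  set o := fixSet (ψ x) with hodef
  have hD128 : Nat.card D ≤ 128 := (Subgroup.card_le_of_le (hDle x)).trans hc128.le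
  have hD16 : 16 ≤ Nat.card D := by nlinarith
  have hpowR : ∃ k, Nat.card R = 2 ^ k := IsPGroup.iff_card.1
    (show IsPGroup 2 ↥R from fun g => ⟨1, Subtype.ext (by simpa [pow_two] using h2 g g.2)⟩)
  by_cases hduad : ∃ a b : GolayPt, a ≠ b ∧ B.vel (pairCode a b) ∈ D
  · obtain ⟨a, b, hab, hd⟩ := hduad
    set R0 := R ⊓ stabilizer (Equiv.Perm GolayPt) a
    have h0 : Nat.card R0 ≤ 16 := card_le_sixteen (inf_le_left.trans hR) (fun g hg => h2 g hg.1) fun g hg => hg.2
    have hhalfR : Nat.card R ≤ 2 * Nat.card R0 := by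
      rw [← Nat.card_congr (Subgroup.subgroupOfEquivOfLe (inf_le_left : R0 ≤ R)).toEquiv]
      refine card_le_two_mul _ fun g h hg hh => ?_
      have key : ∀ g : ↥R, g ∉ R0.subgroupOf R → g.1 a = b := fun g hg =>
        ((hpair hab hd g g.2).resolve_left fun h => hg (Subgroup.mem_subgroupOf.2 ⟨g.2, h.1⟩)).1
      refine Subgroup.mem_subgroupOf.2 ⟨(g⁻¹ * h).2, ?_⟩
      show g.1⁻¹ (h.1 a) = a
      rw [key h hh, Equiv.Perm.inv_eq_iff_eq, key g hg]
    obtain ⟨k, hk'⟩ := hpowR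
    have hk5 : k ≤ 5 := (Nat.pow_le_pow_iff_right (by norm_num : 1 < 2)).1
      (by rw [← hk']; exact hhalfR.trans ((Nat.mul_le_mul_left 2 h0).trans_eq (by norm_num)))
    have hk3 : 3 ≤ k := by
      by_contra hlt
      have : 2 ^ k ≤ 2 ^ 2 := Nat.pow_le_pow_right (by norm_num) (by omega)
      rw [← hk'] at this
      nlinarith
    rcases (show k = 5 ∨ k = 4 ∨ k = 3 by omega) with rfl | rfl | rfl
    · exfalso
      have hR32 : Nat.card R = 32 := by rw [hk']; norm_num
      have hD32 : Nat.card D = 32 := by rw [hR32] at hRD; omega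
      obtain ⟨g1, g2, hg1, hg2, hg12⟩ := exists_two_nontrivial (H := ↥R0) (by omega)
      obtain ⟨x1, e1⟩ := hmem g1.2.1
      obtain ⟨x2, e2⟩ := hmem g2.2.1
      have n1 : ψ x1 ≠ 1 := fun e => hg1 (Subtype.ext (e1.symm.trans e))
      have n2 : ψ x2 ≠ 1 := fun e => hg2 (Subtype.ext (e2.symm.trans e))
      have p1 : ψ x1 a = a := by rw [e1]; exact g1.2.2
      have p2 : ψ x2 a = a := by rw [e2]; exact g2.2.2
      obtain ⟨ho1, -, hW1, hd1⟩ := hX x1 n1 p1
      obtain ⟨ho2, -, hW2, hd2⟩ := hX x2 n2 p2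
      by_cases hoo : fixSet (ψ x2) = fixSet (ψ x1)
      · have hle := hsame x1 x2 n1 n2 (fun e => hg12 (Subtype.ext (e1.symm.trans (e.trans e2)))) hoo p1
        have hf := hhalf ho1 (X := B.octW (fixSet (ψ x1))) hle le_rfl
          (by rw [B.card_octW hG hJ ho1, hD32])
        have := hfix16 (p := a) fun g hg => hf g hg a (mem_fixSet.2 p1)
        omega
      · obtain ⟨hm8, -, hm3⟩ := B.octW_meet hG hJ ho1 ho2 (Ne.symm hoo) (mem_fixSet.2 p1) (mem_fixSet.2 p2)
        set E := (D ⊓ B.octW (fixSet (ψ x1))) ⊓ B.octW (fixSet (ψ x2))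
        have hE : 8 ≤ Nat.card E := by
          have h3 := card_inf_half (D := D ⊓ B.octW (fixSet (ψ x1))) (X := B.cV (x2 : G))
            (W := B.octW (fixSet (ψ x2))) (inf_le_left.trans (hDle x2)) hW2
            (by rw [B.card_octW hG hJ ho2, ((B.card_cV hG hJ (hN x2.2) (hmv x2) (h2 _ ⟨x2, rfl⟩) n2).resolve_right
              fun h => h.2 a p2).1])
          change Nat.card ↥(D ⊓ B.octW (fixSet (ψ x1))) ≤ 2 * Nat.card E at h3
          omega
        have hEle : E ≤ B.octW (fixSet (ψ x1)) ⊓ B.octW (fixSet (ψ x2)) := fun y hy => ⟨hy.1.2, hy.2⟩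
        have hEeq : E = B.octW (fixSet (ψ x1)) ⊓ B.octW (fixSet (ψ x2)) :=
          Subgroup.eq_of_le_of_card_ge hEle (hm8.trans hE)
        have h3 := hm3 (hE.trans (Subgroup.card_le_of_le hEle))
        obtain ⟨u, hu, v, hv, w, hw, huv, huw, hvw⟩ := Finset.two_lt_card.1 h3
        have hmem' : ∀ {i j}, i ∈ fixSet (ψ x1) ∩ fixSet (ψ x2) → j ∈ fixSet (ψ x1) ∩ fixSet (ψ x2) →
            B.vel (pairCode i j) ∈ D := fun {i j} hi hj => by
          have : B.vel (pairCode i j) ∈ E := hEeq ▸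
            ⟨B.pair_mem_octW (Finset.mem_inter.1 hi).1 (Finset.mem_inter.1 hj).1,
              B.pair_mem_octW (Finset.mem_inter.1 hi).2 (Finset.mem_inter.1 hj).2⟩
          exact this.1.1
        have := hfix16 (hthree huv huw hvw (hmem' hu hv) (hmem' hu hw))
        omega
    · -- the case of the fixer
      have hR16 : Nat.card R = 16 := by rw [hk']; norm_num
      have hD64 : Nat.card D = 64 := by rw [hR16] at hRD; omega
      have hf := hhalf ho (X := B.cV (x : G)) (hDle x) hWx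
        (by rw [hc128, hD64])
      refine ⟨o, ho, ?_, fun y hy => hf _ ⟨⟨y, hy⟩, rfl⟩, ?_⟩
      · refine (Subgroup.eq_of_le_of_card_ge (fun v hv => hDA (B.octW_le_V o hv) fun y hy =>
          B.octW_fixed (hN hy) (hmv ⟨y, hy⟩) (hf _ ⟨⟨y, hy⟩, rfl⟩) hv) ?_).symm
        rw [B.card_octW hG hJ ho]
        exact hD64.le
      · intro σ hσ hσo
        obtain ⟨g, hg⟩ := exists_to_oct ho
        have hconj : ∀ {τ : Equiv.Perm GolayPt}, τ ∈ M24 → (∀ q ∈ o, τ q = q) →
            ∃ s : Fin 16, g.1 * τ * g.1⁻¹ = fixP s := fun {τ} hτ hτo =>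
          fixer_eq (mul_mem (mul_mem g.2 hτ) (inv_mem g.2)) fun q hq => by
            rw [← hg] at hq
            obtain ⟨r, hr, rfl⟩ := Finset.mem_smul_finset.1 hq
            show g.1 (τ (g.1⁻¹ (g.1 r))) = g.1 r
            rw [show g.1⁻¹ (g.1 r) = r by simp, hτo r hr]
        obtain ⟨s, hs⟩ := hconj hσ hσo
        have hsub : ∀ r : ↥R, ∃ s : Fin 16, g.1 * r.1 * g.1⁻¹ = fixP s := fun r => hconj (hR r.2) (hf _ r.2)
        choose F hF using hsub
        have hbij : Function.Bijective F := by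
          refine (Nat.bijective_iff_injective_and_card F).2 ⟨fun u v e => ?_, by rw [hR16, Nat.card_fin]⟩
          have h := (hF u).trans ((congrArg fixP e).trans (hF v).symm)
          exact Subtype.ext (mul_left_cancel (mul_right_cancel h))
        obtain ⟨r, hr⟩ := hbij.2 s
        obtain ⟨y, hy⟩ := hmem r.2
        refine ⟨y, y.2, ?_⟩
        have h' := (hF r).trans ((congrArg fixP hr).trans hs.symm)
        exact hy.trans (mul_left_cancel (mul_right_cancel h'))
    · exfalso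
      have hR8 : Nat.card R = 8 := by rw [hk']; norm_num
      have hD128' : Nat.card D = 128 := by rw [hR8] at hRD; omega
      have hf := hhalf ho (X := B.cV (x : G)) (hDle x) hWx
        (by rw [hc128, hD128']; norm_num)
      obtain ⟨g1, g2, hg1, hg2, hg12⟩ := exists_two_nontrivial (H := ↥R) (by omega)
      obtain ⟨x1, e1⟩ := hmem g1.2
      obtain ⟨x2, e2⟩ := hmem g2.2
      have n1 : ψ x1 ≠ 1 := fun e => hg1 (Subtype.ext (e1.symm.trans e))
      have n2 : ψ x2 ≠ 1 := fun e => hg2 (Subtype.ext (e2.symm.trans e))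
      obtain ⟨q, hq⟩ : o.Nonempty := Finset.card_pos.1 (by rw [ho.2]; norm_num)
      have hall : ∀ y : ↥A, ψ y ≠ 1 → fixSet (ψ y) = o := fun y hy =>
        eq_of_inter_five (fixSet_octad (hR ⟨y, rfl⟩) (h2 _ ⟨y, rfl⟩) hy (hf _ ⟨y, rfl⟩ q hq)) ho
          (le_trans (by rw [ho.2]; norm_num) (Finset.card_le_card (s := o) fun z hz =>
            Finset.mem_inter.2 ⟨mem_fixSet.2 (hf _ ⟨y, rfl⟩ z hz), hz⟩))
      have hle := hsame x1 x2 n1 n2 (fun e => hg12 (Subtype.ext (e1.symm.trans (e.trans e2))))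
        ((hall x2 n2).trans (hall x1 n1).symm) (p := q) (hf _ ⟨x1, rfl⟩ q hq)
      have := Subgroup.card_le_of_le hle
      rw [hall x1 n1, B.card_octW hG hJ ho, hD128'] at this
      norm_num at this
  · exfalso
    push Not at hduad
    obtain ⟨-, hD, -⟩ := B.duads_spec hG hJ
    have hz : ∀ v ∈ D, v ≠ 1 → IsConj S.z v := by
      rintro v hv hv1
      obtain ⟨n, hn, rfl⟩ := hv.2
      by_contra hnz
      obtain ⟨u, w, huw, e⟩ := exists_pairCode hn ((hD n hn).2 ⟨fun e => hv1 (e ▸ B.vel_zero), hnz⟩)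
      exact hduad u w huw (e.symm ▸ hv)
    -- no four-dimensional space of conjugates inside a span
    have hD8 : ∀ {o' : Finset GolayPt}, o' ∈ octads → Nat.card ↥(D ⊓ B.octW o') ≤ 8 := fun {o'} ho' =>
      B.no_four_z hG hJ T ho' inf_le_right fun v hv => hz v hv.1
    have h16 : Nat.card D = 16 := le_antisymm (hDW.trans (by have := hD8 ho; omega)) hD16
    have hR64' : Nat.card R = 64 := by rw [h16] at hRD; omega
    have hst : Nat.card (stabilizer ↥R p) ≤ 2 := by
      by_contra hgt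
      obtain ⟨g1, g2, hg1, hg2, hg12⟩ := exists_two_nontrivial (H := ↥(stabilizer ↥R p)) (by omega)
      obtain ⟨x1, e1⟩ := hmem g1.1.2
      obtain ⟨x2, e2⟩ := hmem g2.1.2
      have n1 : ψ x1 ≠ 1 := fun e => hg1 (Subtype.ext (Subtype.ext (e1.symm.trans e)))
      have n2 : ψ x2 ≠ 1 := fun e => hg2 (Subtype.ext (Subtype.ext (e2.symm.trans e)))
      have p1 : ψ x1 p = p := by rw [e1]; exact g1.2
      have p2 : ψ x2 p = p := by rw [e2]; exact g2.2
      obtain ⟨ho1, -, -, hd1⟩ := hX x1 n1 p1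
      obtain ⟨ho2, hc2, hW2, -⟩ := hX x2 n2 p2
      by_cases hoo : fixSet (ψ x2) = fixSet (ψ x1)
      · have hle := hsame x1 x2 n1 n2 (fun e => hg12 (Subtype.ext (Subtype.ext (e1.symm.trans (e.trans e2))))) hoo p1
        have := hD8 ho1
        rw [inf_eq_left.2 hle] at this
        omega
      · obtain ⟨-, hmz, -⟩ := B.octW_meet hG hJ ho1 ho2 (Ne.symm hoo) (mem_fixSet.2 p1) (mem_fixSet.2 p2)
        have h3 := card_inf_half (D := D ⊓ B.octW (fixSet (ψ x1))) (X := B.cV (x2 : G))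
          (W := B.octW (fixSet (ψ x2))) (inf_le_left.trans (hDle x2)) hW2
          (by rw [B.card_octW hG hJ ho2, hc2])
        have h4 := hmz ((D ⊓ B.octW (fixSet (ψ x1))) ⊓ B.octW (fixSet (ψ x2)))
          (fun y hy => ⟨hy.1.2, hy.2⟩) fun y hy => hz y hy.1.1
        omega
    have hmul : (orbit ↥R p).ncard * Nat.card (stabilizer ↥R p) = Nat.card R := by
      rw [← index_stabilizer, mul_comm, Subgroup.card_mul_index]
    have h24 : (orbit ↥R p).ncard ≤ 24 := by
      refine (Set.ncard_le_ncard (Set.subset_univ _)).trans (le_of_eq ?_)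
      rw [Set.ncard_univ, Nat.card_eq_fintype_card]; rfl
    have := Nat.mul_le_mul h24 hst
    omega

end HexBase

end CfsgLib.JankoFour
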