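import Cfsg.Agent.Lib.JankoFourTen.Normalizer
import Cfsg.Agent.Lib.JankoFourTen.ChecksL

/-!
# The normalizer of the standard subgroup acts linearly on thirty-one labels (owner: helper14)
-/

set_option autoImplicit false
set_option linter.unusedSectionVars false
set_option maxRecDepth 100000

namespace CfsgLib.JankoFour

open Cfsg CfsgLib.Sporadic CfsgLib.JankoFourHexad CfsgLib.JankoFour.Ten MulAction
open scoped Pointwise

namespace Ten

theorem l_two : forallLt 32 (fun p => forallLt 32 fun q => Nat.beq p 0 || Nat.beq q 0 || Nat.beq p q ||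
    (Nat.blt (meetAt p q) 1024 && Nat.beq (countLt 1024 fun c => inL p c && inL q c) 2)) = true := by
  decide +kernel

/-- Closed under the bitwise sum. -/
def XClosed (P : Finset ℕ) : Prop := ∀ a ∈ P, ∀ b ∈ P, a ^^^ b ∈ P

/-- Adjoining an element to a closed set. -/
def grow (P : Finset ℕ) (x : ℕ) : Finset ℕ := P ∪ P.image (x ^^^ ·)

theorem xor_xor_self (a b : ℕ) : a ^^^ b ^^^ b = a := by rw [Nat.xor_assoc, Nat.xor_self, Nat.xor_zero]

theorem xclosed_grow {P : Finset ℕ} {x : ℕ} (h : XClosed P) : XClosed (grow P x) := by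
  intro a ha b hb
  simp only [grow, Finset.mem_union, Finset.mem_image] at ha hb ⊢
  rcases ha with ha | ⟨a', ha, rfl⟩ <;> rcases hb with hb | ⟨b', hb, rfl⟩
  · exact Or.inl (h a ha b hb)
  · exact Or.inr ⟨a ^^^ b', h a ha b' hb, by ac_rfl⟩
  · exact Or.inr ⟨a' ^^^ b, h a' ha b hb, by ac_rfl⟩
  · refine Or.inl ?_
    rw [show (x ^^^ a') ^^^ (x ^^^ b') = (a' ^^^ b') ^^^ (x ^^^ x) by ac_rfl, Nat.xor_self, Nat.xor_zero]
    exact h a' ha b' hb

theorem card_grow {P : Finset ℕ} {x : ℕ} (h : XClosed P) (hx : x ∉ P) : (grow P x).card = 2 * P.card := by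
  rw [grow, Finset.card_union_of_disjoint, Finset.card_image_of_injective _ (fun a b e => Nat.xor_right_injective e),
    two_mul]
  rw [Finset.disjoint_left]
  intro a ha ha'
  obtain ⟨b, hb, rfl⟩ := Finset.mem_image.1 ha'
  refine hx ?_
  have := h _ ha b hb
  rwa [xor_xor_self] at this

theorem grow_subset {P S : Finset ℕ} {x : ℕ} (hS : XClosed S) (hP : P ⊆ S) (hx : x ∈ S) : grow P x ⊆ S := by
  intro a ha
  simp only [grow, Finset.mem_union, Finset.mem_image] at ha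
  rcases ha with ha | ⟨b, hb, rfl⟩
  exacts [hP ha, hS x hx b (hP hb)]

theorem mem_grow {P : Finset ℕ} (x : ℕ) (h0 : 0 ∈ P) : x ∈ grow P x :=
  Finset.mem_union_right _ (Finset.mem_image.2 ⟨0, h0, Nat.xor_zero x⟩)

/-- The codes of a label. -/
noncomputable def lSet (p : ℕ) : Finset ℕ := (Finset.range 1024).filter fun c => inL p c = true

theorem mem_lSet {p c : ℕ} : c ∈ lSet p ↔ c < 1024 ∧ inL p c = true := by
  rw [lSet, Finset.mem_filter, Finset.mem_range]

theorem lSet_facts {p : ℕ} (hp : p < 32) (hp0 : p ≠ 0) :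
    0 ∈ lSet p ∧ (lSet p).card = 16 ∧ XClosed (lSet p) ∧ ∀ c ∈ lSet p, c ≠ 0 → zMask.testBit c = true := by
  have h := forallLt_elim l_sub hp
  rw [show Nat.beq p 0 = false from Bool.eq_false_iff.2 fun e => hp0 (Nat.eq_of_beq_eq_true e), Bool.false_or,
    Bool.and_eq_true, Bool.and_eq_true] at h
  obtain ⟨⟨h0, h16⟩, hall⟩ := h
  have hel : ∀ {a}, a ∈ lSet p → (a = 0 ∨ zMask.testBit a = true) ∧ ∀ b ∈ lSet p, inL p (Nat.xor a b) = true := by
    intro a ha
    obtain ⟨hal, ha'⟩ := mem_lSet.1 ha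
    have h1 := forallLt_elim hall hal
    rw [ha', Bool.not_true, Bool.false_or, Bool.and_eq_true, Bool.or_eq_true] at h1
    refine ⟨h1.1.imp_left Nat.eq_of_beq_eq_true, fun b hb => ?_⟩
    obtain ⟨hbl, hb'⟩ := mem_lSet.1 hb
    have h2 := forallLt_elim h1.2 hbl
    rwa [hb', Bool.not_true, Bool.false_or] at h2
  refine ⟨mem_lSet.2 ⟨by norm_num, h0⟩, ?_, fun a ha b hb => mem_lSet.2
    ⟨Nat.xor_lt_two_pow (n := 10) (mem_lSet.1 ha).1 (mem_lSet.1 hb).1, (hel ha).2 b hb⟩,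
    fun c hc hc0 => (hel hc).1.resolve_left hc0⟩
  rw [lSet, ← countLt_eq]
  exact Nat.eq_of_beq_eq_true h16

theorem exists_zList {c : ℕ} (hc : c < 1024) (hz : zMask.testBit c = true) : ∃ i < 155, pick zList i = c := by
  have h := forallLt_elim z_list hc
  rw [hz, Bool.not_true, Bool.false_or] at h
  obtain ⟨i, hi, e⟩ := exists_of_forallLt_not h
  exact ⟨i, hi, Nat.eq_of_beq_eq_true e⟩

theorem exists_min_out {S P : Finset ℕ} (hS : XClosed S) (hP : XClosed P) (h0 : 0 ∈ P) (hPS : P ⊆ S)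
    (hlt : P.card < S.card) :
    ∃ x ∈ S, x ∉ P ∧ (∀ y ∈ S, y ∉ P → x ≤ y) ∧ ∀ p ∈ P, p ≠ 0 → x < p ^^^ x := by
  have hne : (S \ P).Nonempty := by
    rw [← Finset.card_pos, Finset.card_sdiff_of_subset hPS]
    omega
  refine ⟨(S \ P).min' hne, (Finset.mem_sdiff.1 (Finset.min'_mem _ hne)).1,
    (Finset.mem_sdiff.1 (Finset.min'_mem _ hne)).2, fun y hy hy' => Finset.min'_le _ _ (Finset.mem_sdiff.2 ⟨hy, hy'⟩),
    fun p hp hp0 => ?_⟩
  obtain ⟨hxS, hxP⟩ := Finset.mem_sdiff.1 (Finset.min'_mem _ hne)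
  refine lt_of_le_of_ne (Finset.min'_le _ _ (Finset.mem_sdiff.2 ⟨hS p (hPS hp) _ hxS, fun h => hxP ?_⟩)) fun e => hp0 ?_
  · have := hP p hp _ h
    rwa [show p ^^^ (p ^^^ (S \ P).min' hne) = (p ^^^ p) ^^^ (S \ P).min' hne by ac_rfl, Nat.xor_self,
      Nat.zero_xor] at this
  · have := congrArg (· ^^^ (S \ P).min' hne) e
    simp only [Nat.xor_self, xor_xor_self] at this
    exact this.symm

/-- A sixteen-element space of conjugates of the central involution is one of the labels. -/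
theorem exists_label {S : Finset ℕ} (hlt : ∀ c ∈ S, c < 1024) (hS : XClosed S) (h0 : 0 ∈ S) (hc : S.card = 16)
    (hz : ∀ c ∈ S, c ≠ 0 → zMask.testBit c = true) : ∃ p < 32, p ≠ 0 ∧ S ⊆ lSet p := by
  have hP0 : XClosed ({0} : Finset ℕ) := fun a ha b hb => by
    rw [Finset.mem_singleton] at ha hb ⊢; rw [ha, hb, Nat.xor_self]
  have m0 : (0 : ℕ) ∈ ({0} : Finset ℕ) := Finset.mem_singleton_self 0
  have s0 : ({0} : Finset ℕ) ⊆ S := Finset.singleton_subset_iff.2 h0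
  obtain ⟨a, ha, ha', mina, -⟩ := exists_min_out hS hP0 m0 s0 (by rw [Finset.card_singleton, hc]; norm_num)
  set P1 := grow {0} a
  have c1 : P1.card = 2 := by rw [card_grow hP0 ha', Finset.card_singleton]
  have s1 : P1 ⊆ S := grow_subset hS s0 ha
  have z1 : (0 : ℕ) ∈ P1 := Finset.mem_union_left _ m0
  obtain ⟨b, hb, hb', minb, xb⟩ := exists_min_out hS (xclosed_grow hP0) z1 s1 (by rw [c1, hc]; norm_num)
  set P2 := grow P1 b
  have c2 : P2.card = 4 := by rw [card_grow (xclosed_grow hP0) hb', c1]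
  have h2 : XClosed P2 := xclosed_grow (xclosed_grow hP0)
  have s2 : P2 ⊆ S := grow_subset hS s1 hb
  have z2 : (0 : ℕ) ∈ P2 := Finset.mem_union_left _ z1
  obtain ⟨c, hcS, hc', minc, xc⟩ := exists_min_out hS h2 z2 s2 (by rw [c2, hc]; norm_num)
  set P3 := grow P2 c
  have c3 : P3.card = 8 := by rw [card_grow h2 hc', c2]
  have h3 : XClosed P3 := xclosed_grow h2
  have s3 : P3 ⊆ S := grow_subset hS s2 hcS
  have z3 : (0 : ℕ) ∈ P3 := Finset.mem_union_left _ z2
  obtain ⟨d, hd, hd', -, xd⟩ := exists_min_out hS h3 z3 s3 (by rw [c3, hc]; norm_num)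
  have a1 : a ∈ P1 := mem_grow a m0
  have a2 : a ∈ P2 := Finset.mem_union_left _ a1
  have b2 : b ∈ P2 := mem_grow b z1
  have a3 : a ∈ P3 := Finset.mem_union_left _ a2
  have b3 : b ∈ P3 := Finset.mem_union_left _ b2
  have c3' : c ∈ P3 := mem_grow c z2
  have ha0 : a ≠ 0 := fun e => ha' (by rw [e]; exact m0)
  have hb0 : b ≠ 0 := fun e => hb' (by rw [e]; exact z1)
  have hc0 : c ≠ 0 := fun e => hc' (by rw [e]; exact z2)
  have hd0 : d ≠ 0 := fun e => hd' (by rw [e]; exact z3)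
  have hne : ∀ {x y : ℕ}, x ≠ y → x ^^^ y ≠ 0 := fun {x y} h e => h (Nat.xor_eq_zero_iff.1 e)
  have hab' : a ≠ b := fun e => hb' (e ▸ a1)
  have hac' : a ≠ c := fun e => hc' (e ▸ a2)
  have hbc' : b ≠ c := fun e => hc' (e ▸ b2)
  have habc' : a ^^^ b ≠ c := fun e => hc' (e ▸ h2 a a2 b b2)
  have o1 : a < b := lt_of_le_of_ne (mina b hb fun h => hb' (Finset.mem_union_left _ h)) hab'
  have o2 : b < a ^^^ b := xb a a1 ha0
  have o3 : b < c := lt_of_le_of_ne (minb c hcS fun h => hc' (Finset.mem_union_left _ h)) hbc'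
  have o4 : c < d := lt_of_le_of_ne (minc d hd fun h => hd' (Finset.mem_union_left _ h)) fun e => hd' (e ▸ c3')
  have hzz : ∀ {x}, x ∈ S → x ≠ 0 → zMask.testBit x = true := fun {x} hx h => hz x hx h
  obtain ⟨i, hi, ei⟩ := exists_zList (hlt a ha) (hzz ha ha0)
  obtain ⟨j, hj, ej⟩ := exists_zList (hlt b hb) (hzz hb hb0)
  obtain ⟨k, hk, ek⟩ := exists_zList (hlt c hcS) (hzz hcS hc0)
  obtain ⟨l, hl, el'⟩ := exists_zList (hlt d hd) (hzz hd hd0)
  have hdne : ∀ {p}, p ∈ P3 → p ≠ d := fun {p} hp e => hd' (e ▸ hp)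
  have hab := hS a ha b hb
  have hac := hS a ha c hcS
  have hbc := hS b hb c hcS
  have habc := hS _ hab c hcS
  have k1 := forallLt_elim (forallLt_elim l_complete hi) hj
  simp only [ei, ej] at k1
  rw [show Nat.blt a b = true from Nat.blt_eq.mpr o1, show Nat.blt b (Nat.xor a b) = true from Nat.blt_eq.mpr o2,
    show Nat.testBit zMask (Nat.xor a b) = true from hzz hab (hne hab'), Bool.not_true, Bool.false_or,
    Bool.false_or, Bool.false_or] at k1
  have k2 := forallLt_elim k1 hk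
  simp only [ek] at k2
  rw [show Nat.blt b c = true from Nat.blt_eq.mpr o3, show Nat.blt c (Nat.xor a c) = true from Nat.blt_eq.mpr (xc a a2 ha0),
    show Nat.blt c (Nat.xor b c) = true from Nat.blt_eq.mpr (xc b b2 hb0),
    show Nat.blt c (Nat.xor (Nat.xor a b) c) = true from Nat.blt_eq.mpr (xc _ (h2 a a2 b b2) (hne hab')),
    show Nat.testBit zMask (Nat.xor a c) = true from hzz hac (hne hac'),
    show Nat.testBit zMask (Nat.xor b c) = true from hzz hbc (hne hbc'),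
    show Nat.testBit zMask (Nat.xor (Nat.xor a b) c) = true from hzz habc (hne habc')] at k2
  simp only [Bool.and_self, Bool.not_true, Bool.false_or] at k2
  have k3 := forallLt_elim k2 hl
  simp only [el'] at k3
  have hw : zWith a b c d = true := by
    rw [zWith, show Nat.testBit zMask (Nat.xor a d) = true from hzz (hS a ha d hd) (hne (hdne a3)),
      show Nat.testBit zMask (Nat.xor b d) = true from hzz (hS b hb d hd) (hne (hdne b3)),
      show Nat.testBit zMask (Nat.xor (Nat.xor a b) d) = true from hzz (hS _ hab d hd) (hne (hdne (h3 a a3 b b3))),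
      show Nat.testBit zMask (Nat.xor c d) = true from hzz (hS c hcS d hd) (hne (hdne c3')),
      show Nat.testBit zMask (Nat.xor (Nat.xor a c) d) = true from hzz (hS _ hac d hd) (hne (hdne (h3 a a3 c c3'))),
      show Nat.testBit zMask (Nat.xor (Nat.xor b c) d) = true from hzz (hS _ hbc d hd) (hne (hdne (h3 b b3 c c3'))),
      show Nat.testBit zMask (Nat.xor (Nat.xor (Nat.xor a b) c) d) = true from
        hzz (hS _ habc d hd) (hne (hdne (h3 _ (h3 a a3 b b3) c c3')))]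
    rfl
  rw [show Nat.blt c d = true from Nat.blt_eq.mpr o4, hw, Bool.not_true, Bool.false_or, Bool.false_or] at k3
  obtain ⟨p, hp, e⟩ := exists_of_forallLt_not (f := fun p => !Nat.beq p 0 && (inL p a && inL p b && inL p c && inL p d))
    (by simpa only [Bool.not_and, Bool.not_not] using k3)
  simp only [Bool.and_eq_true, Bool.not_eq_true'] at e
  obtain ⟨hp0, ⟨⟨ea, eb⟩, ec⟩, ed⟩ := e
  have hp0' : p ≠ 0 := fun e => by rw [e] at hp0; simp at hp0
  refine ⟨p, hp, hp0', ?_⟩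
  obtain ⟨l0, -, lc, -⟩ := lSet_facts hp hp0'
  have hfin : grow P3 d ⊆ lSet p := grow_subset lc (grow_subset lc (grow_subset lc (grow_subset lc
    (Finset.singleton_subset_iff.2 l0) (mem_lSet.2 ⟨hlt a ha, ea⟩)) (mem_lSet.2 ⟨hlt b hb, eb⟩))
    (mem_lSet.2 ⟨hlt c hcS, ec⟩)) (mem_lSet.2 ⟨hlt d hd, ed⟩)
  have heq : grow P3 d = S := Finset.eq_of_subset_of_card_le (grow_subset hS s3 hd) (by rw [card_grow h3 hd', c3, hc])
  rwa [heq] at hfin

theorem lSet_two {p q : ℕ} (hp : p < 32) (hq : q < 32) (hp0 : p ≠ 0) (hq0 : q ≠ 0) (hpq : p ≠ q) :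
    meetAt p q < 1024 ∧ meetAt p q ≠ 0 ∧ meetAt p q ∈ lSet p ∧ meetAt p q ∈ lSet q ∧
      lSet p ∩ lSet q = {0, meetAt p q} ∧
      ∀ r < 32, r ≠ 0 → (meetAt p q ∈ lSet r ↔ r = p ∨ r = q ∨ r = p ^^^ q) := by
  have hb : ∀ {x y : ℕ}, x ≠ y → Nat.beq x y = false := fun {x y} h =>
    Bool.eq_false_iff.2 fun e => h (Nat.eq_of_beq_eq_true e)
  have h := forallLt_elim (forallLt_elim l_meet hp) hq
  have h' := forallLt_elim (forallLt_elim l_two hp) hq
  rw [hb hp0, hb hq0, hb hpq] at h h'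
  simp only [Bool.false_or, Bool.and_eq_true, Bool.not_eq_true', Nat.blt_eq] at h h'
  obtain ⟨⟨⟨hm0, hmp⟩, hmq⟩, hr⟩ := h
  obtain ⟨hlt, hcnt⟩ := h'
  have hm0' : meetAt p q ≠ 0 := fun e => by rw [e] at hm0; simp at hm0
  have i1 : meetAt p q ∈ lSet p := mem_lSet.2 ⟨hlt, hmp⟩
  have i2 : meetAt p q ∈ lSet q := mem_lSet.2 ⟨hlt, hmq⟩
  refine ⟨hlt, hm0', i1, i2, (Finset.eq_of_subset_of_card_le ?_ ?_).symm, fun r hr' hr0 => ?_⟩
  · intro x hx
    simp only [Finset.mem_insert, Finset.mem_singleton] at hx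
    rcases hx with rfl | rfl
    exacts [Finset.mem_inter.2 ⟨(lSet_facts hp hp0).1, (lSet_facts hq hq0).1⟩, Finset.mem_inter.2 ⟨i1, i2⟩]
  · rw [Finset.card_pair (Ne.symm hm0')]
    rw [countLt_eq] at hcnt
    refine le_of_eq ((Nat.eq_of_beq_eq_true hcnt) ▸ congrArg Finset.card ?_)
    ext x
    simp only [Finset.mem_inter, mem_lSet, Finset.mem_filter, Finset.mem_range, Bool.and_eq_true]
    tauto
  · have h1 := forallLt_elim hr hr'
    rw [hb hr0, Bool.false_or, beq_iff_eq] at h1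
    rw [mem_lSet, h1, Bool.or_eq_true, Bool.or_eq_true]
    constructor
    · rintro ⟨-, (e | e) | e⟩
      exacts [Or.inl (Nat.eq_of_beq_eq_true e), Or.inr (Or.inl (Nat.eq_of_beq_eq_true e)),
        Or.inr (Or.inr (Nat.eq_of_beq_eq_true e))]
    · rintro (rfl | rfl | rfl) <;> refine ⟨hlt, ?_⟩
      exacts [Or.inl (Or.inl (Nat.beq_refl _)), Or.inl (Or.inr (Nat.beq_refl _)), Or.inr (Nat.beq_refl _)]

end Ten

variable {G : Type*} [Group G] [Finite G]

namespace HexBase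

variable {S : Setting G} (B : HexBase S)

namespace TenBase

variable {B} (T : B.TenBase)

/-- The image of a code under an element of the normalizer. -/
noncomputable def img (n : ↥T.NA) (c : ℕ) : ℕ :=
  Classical.epsilon fun d => d < 1024 ∧ T.el d = (n : G) * T.el c * (n : G)⁻¹

theorem img_spec (n : ↥T.NA) {c : ℕ} (hc : c < 1024) :
    T.img n c < 1024 ∧ T.el (T.img n c) = (n : G) * T.el c * (n : G)⁻¹ := by
  obtain ⟨d, hd, e⟩ := T.exists_el n.2 hc
  exact Classical.epsilon_spec (p := fun d => d < 1024 ∧ T.el d = (n : G) * T.el c * (n : G)⁻¹) ⟨d, hd, e⟩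

theorem img_eq (n : ↥T.NA) {c d : ℕ} (hc : c < 1024) (hd : d < 1024)
    (e : T.el d = (n : G) * T.el c * (n : G)⁻¹) : T.img n c = d :=
  T.el_inj (T.img_spec n hc).1 hd ((T.img_spec n hc).2.trans e.symm)

theorem img_xor (n : ↥T.NA) {a b : ℕ} (ha : a < 1024) (hb : b < 1024) :
    T.img n (a ^^^ b) = T.img n a ^^^ T.img n b :=
  T.img_eq n (Nat.xor_lt_two_pow (n := 10) ha hb) (Nat.xor_lt_two_pow (n := 10) (T.img_spec n ha).1 (T.img_spec n hb).1)
    (by rw [← T.el_xor, ← T.el_xor, (T.img_spec n ha).2, (T.img_spec n hb).2]; group)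

theorem img_zero (n : ↥T.NA) : T.img n 0 = 0 :=
  T.img_eq n (by norm_num) (by norm_num) (by rw [T.el_zero]; group)

theorem img_inj (n : ↥T.NA) {a b : ℕ} (ha : a < 1024) (hb : b < 1024) (e : T.img n a = T.img n b) : a = b := by
  refine T.el_inj ha hb ?_
  have h := (T.img_spec n ha).2
  rw [e, (T.img_spec n hb).2] at h
  exact (mul_left_cancel (mul_right_cancel h)).symm

theorem img_mul (n m : ↥T.NA) {c : ℕ} (hc : c < 1024) : T.img (n * m) c = T.img n (T.img m c) := by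
  refine T.img_eq _ hc (T.img_spec n (T.img_spec m hc).1).1 ?_
  rw [(T.img_spec n (T.img_spec m hc).1).2, (T.img_spec m hc).2, Subgroup.coe_mul]
  group

variable [IsSimpleGroup G]

theorem exists_lab (hG : ¬ IsMulCommutative G) (hJ : IsOfJankoFourType G) (n : ↥T.NA) {p : ℕ} (hp : p < 32)
    (hp0 : p ≠ 0) : ∃ q < 32, q ≠ 0 ∧ ∀ c ∈ lSet p, T.img n c ∈ lSet q := by
  obtain ⟨l0, l16, lc, lz⟩ := lSet_facts hp hp0
  have hlt : ∀ c ∈ lSet p, c < 1024 := fun c hc => (mem_lSet.1 hc).1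
  obtain ⟨q, hq, hq0, hsub⟩ := exists_label (S := (lSet p).image (T.img n)) (fun d hd => by
      obtain ⟨c, hc, rfl⟩ := Finset.mem_image.1 hd; exact (T.img_spec n (hlt c hc)).1)
    (fun a ha b hb => by
      obtain ⟨a', ha', rfl⟩ := Finset.mem_image.1 ha
      obtain ⟨b', hb', rfl⟩ := Finset.mem_image.1 hb
      exact Finset.mem_image.2 ⟨_, lc a' ha' b' hb', T.img_xor n (hlt a' ha') (hlt b' hb')⟩)
    (Finset.mem_image.2 ⟨0, l0, T.img_zero n⟩)
    (by rw [Finset.card_image_of_injOn fun a ha b hb e => T.img_inj n (hlt a ha) (hlt b hb) e, l16])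
    (fun d hd h0 => by
      obtain ⟨c, hc, rfl⟩ := Finset.mem_image.1 hd
      rw [← T.el_isConj hG hJ (T.img_spec n (hlt c hc)).1, (T.img_spec n (hlt c hc)).2, conj_iff,
        T.el_isConj hG hJ (hlt c hc)]
      exact lz c hc fun e => h0 (e ▸ T.img_zero n))
  exact ⟨q, hq, hq0, fun c hc => hsub (Finset.mem_image.2 ⟨c, hc, rfl⟩)⟩

/-- The permutation of the labels. -/
noncomputable def lab (n : ↥T.NA) (p : ℕ) : ℕ :=
  if p = 0 then 0 else Classical.epsilon fun q => q < 32 ∧ q ≠ 0 ∧ ∀ c ∈ lSet p, T.img n c ∈ lSet q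

theorem lab_zero (n : ↥T.NA) : T.lab n 0 = 0 := if_pos rfl

theorem lab_spec (hG : ¬ IsMulCommutative G) (hJ : IsOfJankoFourType G) (n : ↥T.NA) {p : ℕ} (hp : p < 32)
    (hp0 : p ≠ 0) : T.lab n p < 32 ∧ T.lab n p ≠ 0 ∧ ∀ c ∈ lSet p, T.img n c ∈ lSet (T.lab n p) := by
  obtain ⟨q, hq⟩ := T.exists_lab hG hJ n hp hp0
  rw [lab, if_neg hp0]
  exact Classical.epsilon_spec (p := fun q => q < 32 ∧ q ≠ 0 ∧ ∀ c ∈ lSet p, T.img n c ∈ lSet q) ⟨q, hq⟩

theorem lab_lt (hG : ¬ IsMulCommutative G) (hJ : IsOfJankoFourType G) (n : ↥T.NA) {p : ℕ} (hp : p < 32) :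
    T.lab n p < 32 := by
  by_cases hp0 : p = 0
  · subst hp0; rw [T.lab_zero]; norm_num
  · exact (T.lab_spec hG hJ n hp hp0).1

theorem lab_eq (hG : ¬ IsMulCommutative G) (hJ : IsOfJankoFourType G) (n : ↥T.NA) {p q : ℕ} (hp : p < 32)
    (hp0 : p ≠ 0) (hq : q < 32) (hq0 : q ≠ 0) (h : ∀ c ∈ lSet p, T.img n c ∈ lSet q) : T.lab n p = q := by
  obtain ⟨h1, h2, h3⟩ := T.lab_spec hG hJ n hp hp0
  by_contra hne
  have hsub : (lSet p).image (T.img n) ⊆ lSet (T.lab n p) ∩ lSet q := fun d hd => by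
    obtain ⟨c, hc, rfl⟩ := Finset.mem_image.1 hd
    exact Finset.mem_inter.2 ⟨h3 c hc, h c hc⟩
  have := Finset.card_le_card hsub
  rw [(lSet_two h1 hq h2 hq0 hne).2.2.2.2.1, Finset.card_image_of_injOn fun a ha b hb e =>
    T.img_inj n (mem_lSet.1 ha).1 (mem_lSet.1 hb).1 e, (lSet_facts hp hp0).2.1] at this
  exact absurd (this.trans Finset.card_le_two) (by norm_num)

theorem lab_mul (hG : ¬ IsMulCommutative G) (hJ : IsOfJankoFourType G) (n m : ↥T.NA) {p : ℕ} (hp : p < 32) :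
    T.lab (n * m) p = T.lab n (T.lab m p) := by
  by_cases hp0 : p = 0
  · subst hp0; simp only [T.lab_zero]
  obtain ⟨a1, a2, a3⟩ := T.lab_spec hG hJ m hp hp0
  obtain ⟨b1, b2, b3⟩ := T.lab_spec hG hJ n a1 a2
  refine T.lab_eq hG hJ _ hp hp0 b1 b2 fun c hc => ?_
  rw [T.img_mul n m (mem_lSet.1 hc).1]
  exact b3 _ (a3 c hc)

theorem lab_of_img_id (hG : ¬ IsMulCommutative G) (hJ : IsOfJankoFourType G) {n : ↥T.NA}
    (h : ∀ c < 1024, T.img n c = c) {p : ℕ} (hp : p < 32) : T.lab n p = p := by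
  by_cases hp0 : p = 0
  · subst hp0; exact T.lab_zero n
  · exact T.lab_eq hG hJ n hp hp0 hp hp0 fun c hc => by rw [h c (mem_lSet.1 hc).1]; exact hc

theorem lab_one (hG : ¬ IsMulCommutative G) (hJ : IsOfJankoFourType G) {p : ℕ} (hp : p < 32) :
    T.lab 1 p = p :=
  T.lab_of_img_id hG hJ (fun c hc => T.img_eq 1 hc hc (by simp)) hp

theorem lab_inj (hG : ¬ IsMulCommutative G) (hJ : IsOfJankoFourType G) (n : ↥T.NA) {p q : ℕ} (hp : p < 32)
    (hq : q < 32) (e : T.lab n p = T.lab n q) : p = q := by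
  have h := congrArg (T.lab n⁻¹) e
  rwa [← T.lab_mul hG hJ _ _ hp, ← T.lab_mul hG hJ _ _ hq, inv_mul_cancel, T.lab_one hG hJ hp,
    T.lab_one hG hJ hq] at h

theorem img_meet (hG : ¬ IsMulCommutative G) (hJ : IsOfJankoFourType G) (n : ↥T.NA) {p q : ℕ} (hp : p < 32)
    (hq : q < 32) (hp0 : p ≠ 0) (hq0 : q ≠ 0) (hpq : p ≠ q) :
    T.img n (meetAt p q) = meetAt (T.lab n p) (T.lab n q) := by
  obtain ⟨hlt, hm0, i1, i2, -, -⟩ := lSet_two hp hq hp0 hq0 hpq
  obtain ⟨a1, a2, a3⟩ := T.lab_spec hG hJ n hp hp0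
  obtain ⟨b1, b2, b3⟩ := T.lab_spec hG hJ n hq hq0
  obtain ⟨-, -, -, -, hint, -⟩ := lSet_two a1 b1 a2 b2 fun e => hpq (T.lab_inj hG hJ n hp hq e)
  have h : T.img n (meetAt p q) ∈ lSet (T.lab n p) ∩ lSet (T.lab n q) := Finset.mem_inter.2 ⟨a3 _ i1, b3 _ i2⟩
  rw [hint, Finset.mem_insert, Finset.mem_singleton] at h
  exact h.resolve_left fun e => hm0 (T.img_inj n hlt (by norm_num) (e.trans (T.img_zero n).symm))

theorem lab_xor (hG : ¬ IsMulCommutative G) (hJ : IsOfJankoFourType G) (n : ↥T.NA) {p q : ℕ} (hp : p < 32)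
    (hq : q < 32) : T.lab n (p ^^^ q) = T.lab n p ^^^ T.lab n q := by
  by_cases hp0 : p = 0
  · subst hp0; rw [T.lab_zero, Nat.zero_xor, Nat.zero_xor]
  by_cases hq0 : q = 0
  · subst hq0; rw [T.lab_zero, Nat.xor_zero, Nat.xor_zero]
  by_cases hpq : p = q
  · subst hpq; rw [Nat.xor_self, Nat.xor_self, T.lab_zero]
  have hx : p ^^^ q < 32 := Nat.xor_lt_two_pow (n := 5) hp hq
  have hx0 : p ^^^ q ≠ 0 := fun e => hpq (Nat.xor_eq_zero_iff.1 e)
  obtain ⟨-, -, -, -, -, hr⟩ := lSet_two hp hq hp0 hq0 hpq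
  obtain ⟨c1, c2, c3⟩ := T.lab_spec hG hJ n hx hx0
  have h := c3 _ ((hr _ hx hx0).2 (Or.inr (Or.inr rfl)))
  rw [T.img_meet hG hJ n hp hq hp0 hq0 hpq] at h
  obtain ⟨-, -, -, -, -, hr'⟩ := lSet_two (T.lab_lt hG hJ n hp) (T.lab_lt hG hJ n hq) (T.lab_spec hG hJ n hp hp0).2.1
    (T.lab_spec hG hJ n hq hq0).2.1 fun e => hpq (T.lab_inj hG hJ n hp hq e)
  rcases (hr' _ c1 c2).1 h with e | e | e
  · exact absurd (T.lab_inj hG hJ n hx hp e) fun e' => hq0 (by
      have h' := congrArg (fun x => p ^^^ x) e'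
      simp only [← Nat.xor_assoc, Nat.xor_self, Nat.zero_xor] at h'
      exact h')
  · exact absurd (T.lab_inj hG hJ n hx hq e) fun e' => hp0 (by
      have h' := congrArg (fun x => x ^^^ q) e'
      simp only [xor_xor_self, Nat.xor_self] at h'
      exact h')
  · exact e

/-- Only the subgroup itself fixes all labels. -/
theorem mem_A0_of_lab (hG : ¬ IsMulCommutative G) (hJ : IsOfJankoFourType G) (n : ↥T.NA)
    (h : ∀ p < 32, T.lab n p = p) : (n : G) ∈ T.A0 := by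
  have hz : ∀ c < 1024, zMask.testBit c = true → T.img n c = c := by
    intro c hc hcz
    have h1 := forallLt_elim l_cover hc
    rw [hcz, Bool.not_true, Bool.false_or] at h1
    obtain ⟨p, hp, h2⟩ := exists_of_forallLt_not (f := fun p => !Nat.beq p 0 && inL p c && !(forallLt 32 fun q =>
      Nat.beq q 0 || Nat.beq p q || !inL q c)) (by simpa only [Bool.not_and, Bool.not_not, Bool.or_assoc] using h1)
    simp only [Bool.and_eq_true, Bool.not_eq_true'] at h2
    obtain ⟨q, hq, h3⟩ := exists_of_forallLt_not (f := fun q => !Nat.beq q 0 && !Nat.beq p q && inL q c)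
      (by simpa only [Bool.not_and, Bool.not_not, Bool.not_eq_true'] using h2.2)
    simp only [Bool.and_eq_true, Bool.not_eq_true'] at h3
    have hne : ∀ {x y : ℕ}, Nat.beq x y = false → x ≠ y := fun {x y} e e' => by rw [e'] at e; simp at e
    obtain ⟨-, hm0, -, -, hint, -⟩ := lSet_two hp hq (hne h2.1.1) (hne h3.1.1) (hne h3.1.2)
    have hmem : c ∈ lSet p ∩ lSet q := Finset.mem_inter.2 ⟨mem_lSet.2 ⟨hc, h2.1.2⟩, mem_lSet.2 ⟨hc, h3.2⟩⟩
    rw [hint, Finset.mem_insert, Finset.mem_singleton] at hmem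
    have e := hmem.resolve_left (zero_ne hcz)
    rw [e, T.img_meet hG hJ n hp hq (hne h2.1.1) (hne h3.1.1) (hne h3.1.2), h p hp, h q hq]
  rw [← (T.A0_self hG hJ).2.2, Subgroup.mem_centralizer_iff]
  rintro _ ⟨c, hc, rfl⟩
  have hfix : T.img n c = c := by
    by_cases hc0 : c = 0
    · subst hc0; exact T.img_zero n
    have hs := forallLt_elim z_sums hc
    rw [show Nat.beq c 0 = false from Bool.eq_false_iff.2 fun e => hc0 (Nat.eq_of_beq_eq_true e), Bool.false_or,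
      Bool.and_eq_true] at hs
    obtain ⟨m, hm, h'⟩ := exists_of_forallLt_not hs.1
    rw [Bool.and_eq_true] at h'
    have hcm : c ^^^ m < 1024 := Nat.xor_lt_two_pow (n := 10) hc hm
    have e : c = m ^^^ (c ^^^ m) := by rw [Nat.xor_comm c m, ← Nat.xor_assoc, Nat.xor_self, Nat.zero_xor]
    conv_lhs => rw [e]
    rw [T.img_xor n hm hcm, hz m hm h'.1, hz _ hcm h'.2, ← e]
  have hs := (T.img_spec n hc).2
  rw [hfix] at hs
  exact (eq_mul_inv_iff_mul_eq.1 hs)

theorem lab_of_mem (hG : ¬ IsMulCommutative G) (hJ : IsOfJankoFourType G) (n : ↥T.NA) (h : (n : G) ∈ T.A0)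
    {p : ℕ} (hp : p < 32) : T.lab n p = p := by
  refine T.lab_of_img_id hG hJ (fun c hc => T.img_eq n hc hc ?_) hp
  have hcm : Commute (n : G) (T.el c) := congrArg Subtype.val
    (T.A0_elementary.1.1.1 ⟨(n : G), h⟩ ⟨T.el c, T.el_mem hc⟩)
  rw [hcm.eq, mul_inv_cancel_right]

end TenBase

end HexBase

end CfsgLib.JankoFour
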