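import Cfsg.Agent.Lib.JankoFourTen.Labels
import Cfsg.Agent.Lib.Core.Gaschutz
import Cfsg.Agent.Lib.Classical.LinearOrder

/-!
# The normalizer of the standard subgroup is a split extension by `L5(2)` (owner: helper14)
-/

set_option autoImplicit false
set_option linter.unusedSectionVars false
set_option maxRecDepth 100000

namespace CfsgLib.JankoFour

open Cfsg CfsgLib.Sporadic CfsgLib.JankoFourHexad CfsgLib.JankoFour.Ten MulAction
open scoped Pointwise Matrix

namespace Ten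

/-- The vector of a label. -/
def vecF (p : ℕ) : Fin 5 → ZMod 2 := fun i => if p.testBit i.1 then 1 else 0

theorem vecF_xor (p q : ℕ) : vecF (p ^^^ q) = vecF p + vecF q := by
  funext i
  simp only [vecF, Nat.testBit_xor, Pi.add_apply]
  cases p.testBit i.1 <;> cases q.testBit i.1 <;> decide

theorem vecF_pow (j : Fin 5) : vecF (2 ^ j.1) = Pi.single j 1 := by
  funext i
  simp only [vecF, Nat.testBit_two_pow, Pi.single_apply]
  by_cases h : i = j
  · subst h; simp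
  · rw [if_neg h, if_neg]
    simp only [decide_eq_true_eq]
    exact fun e => h (Fin.ext e.symm)

theorem vecF_inj : ∀ p q : Fin 32, vecF p.1 = vecF q.1 → p = q := by
  unfold vecF; decide +kernel

theorem five_split : ∀ p : Fin 32, p.1 = (if p.1.testBit 0 then 1 else 0) ^^^ (if p.1.testBit 1 then 2 else 0) ^^^
    (if p.1.testBit 2 then 4 else 0) ^^^ (if p.1.testBit 3 then 8 else 0) ^^^ (if p.1.testBit 4 then 16 else 0) := by
  decide +kernel

theorem lt32_induction {P : ℕ → Prop} (h0 : P 0) (hg : ∀ j : Fin 5, P (2 ^ j.1))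
    (hx : ∀ a < 32, ∀ b < 32, P a → P b → P (a ^^^ b)) {p : ℕ} (hp : p < 32) : P p := by
  have key : ∀ (b : Bool) (j : Fin 5), P (if b then 2 ^ j.1 else 0) ∧ (if b then 2 ^ j.1 else 0) < 32 := by
    intro b j
    cases b
    · exact ⟨h0, by norm_num⟩
    · exact ⟨hg j, Nat.pow_lt_pow_right (a := 2) (by norm_num) j.2⟩
  obtain ⟨q0, l0⟩ := key (p.testBit 0) 0
  obtain ⟨q1, l1⟩ := key (p.testBit 1) 1
  obtain ⟨q2, l2⟩ := key (p.testBit 2) 2
  obtain ⟨q3, l3⟩ := key (p.testBit 3) 3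
  obtain ⟨q4, l4⟩ := key (p.testBit 4) 4
  rw [show p = _ from five_split ⟨p, hp⟩]
  have x : ∀ {a b}, a < 32 → b < 32 → a ^^^ b < 32 := fun h h' => Nat.xor_lt_two_pow (n := 5) h h'
  exact hx _ (x (x (x l0 l1) l2) l3) _ l4 (hx _ (x (x l0 l1) l2) _ l3 (hx _ (x l0 l1) _ l2 (hx _ l0 _ l1 q0 q1) q2) q3) q4

theorem card_SL_five : Nat.card (Matrix.SpecialLinearGroup (Fin 5) (ZMod 2)) = 9999360 := by
  haveI : Fact (Nat.Prime 2) := ⟨Nat.prime_two⟩
  have h := CfsgLib.Classical.card_SL (F := ZMod 2) 5 (by norm_num)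
  rw [show Fintype.card (ZMod 2) = 2 from ZMod.card 2, Fin.prod_univ_five] at h
  generalize Nat.card (Matrix.SpecialLinearGroup (Fin 5) (ZMod 2)) = N at h ⊢
  norm_num at h
  exact h

end Ten

variable {G : Type*} [Group G] [Finite G]

namespace HexBase

variable {S : Setting G} (B : HexBase S)

namespace TenBase

variable {B} (T : B.TenBase) [IsSimpleGroup G] (hG : ¬ IsMulCommutative G) (hJ : IsOfJankoFourType G)

/-- The matrix on the labels. -/
noncomputable def mat (n : ↥T.NA) : Matrix (Fin 5) (Fin 5) (ZMod 2) :=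
  Matrix.of fun i j => vecF (T.lab n (2 ^ j.1)) i

include hG hJ

theorem mat_mulVec (n : ↥T.NA) {p : ℕ} (hp : p < 32) : T.mat n *ᵥ vecF p = vecF (T.lab n p) := by
  refine lt32_induction (P := fun p => T.mat n *ᵥ vecF p = vecF (T.lab n p)) ?_ ?_ ?_ hp
  · have h0 : vecF 0 = 0 := by funext i; simp [vecF]
    show T.mat n *ᵥ vecF 0 = vecF (T.lab n 0)
    rw [T.lab_zero, h0, Matrix.mulVec_zero]
  · intro j
    show T.mat n *ᵥ vecF (2 ^ j.1) = vecF (T.lab n (2 ^ j.1))
    funext i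
    rw [vecF_pow, Matrix.mulVec_single_one]
    rfl
  · intro a ha b hb h1 h2
    show T.mat n *ᵥ vecF (a ^^^ b) = vecF (T.lab n (a ^^^ b))
    rw [T.lab_xor hG hJ n ha hb, vecF_xor, vecF_xor, Matrix.mulVec_add, h1, h2]

theorem mat_mul (n m : ↥T.NA) : T.mat (n * m) = T.mat n * T.mat m := by
  ext i j
  have hp : (2 : ℕ) ^ j.1 < 32 := Nat.pow_lt_pow_right (a := 2) (by norm_num) j.2
  have h := congrFun (T.mat_mulVec hG hJ n (T.lab_lt hG hJ m hp)) i
  rw [show T.mat (n * m) i j = vecF (T.lab (n * m) (2 ^ j.1)) i from rfl, T.lab_mul hG hJ n m hp, ← h]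
  rfl

theorem mat_one : T.mat 1 = 1 := by
  ext i j
  rw [show T.mat 1 i j = vecF (T.lab 1 (2 ^ j.1)) i from rfl,
    T.lab_one hG hJ (Nat.pow_lt_pow_right (a := 2) (by norm_num) j.2), vecF_pow, Matrix.one_apply, Pi.single_apply]

theorem det_mat (n : ↥T.NA) : (T.mat n).det = 1 := by
  have h : (T.mat n).det * (T.mat n⁻¹).det = 1 := by
    rw [← Matrix.det_mul, ← T.mat_mul hG hJ, mul_inv_cancel, T.mat_one hG hJ, Matrix.det_one]
  have key : ∀ x y : ZMod 2, x * y = 1 → x = 1 := by decide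
  exact key _ _ h

/-- The action on the labels. -/
noncomputable def theta : ↥T.NA →* Matrix.SpecialLinearGroup (Fin 5) (ZMod 2) :=
  MonoidHom.mk' (fun n => ⟨T.mat n, T.det_mat hG hJ n⟩) fun n m => Subtype.ext (T.mat_mul hG hJ n m)

theorem mem_ker_theta (n : ↥T.NA) : T.theta hG hJ n = 1 ↔ (n : G) ∈ T.A0 := by
  constructor
  · intro h
    refine T.mem_A0_of_lab hG hJ n fun p hp => ?_
    have e : T.mat n = 1 := congrArg Subtype.val h
    have h' := T.mat_mulVec hG hJ n hp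
    rw [e, Matrix.one_mulVec] at h'
    exact (congrArg Fin.val (vecF_inj ⟨p, hp⟩ ⟨T.lab n p, T.lab_lt hG hJ n hp⟩ h')).symm
  · intro h
    refine Subtype.ext ?_
    show T.mat n = 1
    ext i j
    have hp : (2 : ℕ) ^ j.1 < 32 := Nat.pow_lt_pow_right (a := 2) (by norm_num) j.2
    rw [show T.mat n i j = vecF (T.lab n (2 ^ j.1)) i from rfl, T.lab_of_mem hG hJ n h hp, vecF_pow,
      Matrix.one_apply, Pi.single_apply]

omit hG hJ

theorem bHom_A0 (σ : ↥(stabilizer ↥M24 oct)) (h : T.bHom σ ∈ T.A0) : σ = 1 := by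
  obtain ⟨c, hc, e⟩ := h
  set s : Fin 16 := ⟨c / 64 % 16, Nat.mod_lt _ (by norm_num)⟩ with hs
  have hσ : (σ : ↥M24) = ⟨fixP s, fixP_mem s⟩ := by
    rw [← T.phi_bHom σ]
    refine Subtype.ext ?_
    show _ = fixP s
    rw [← T.phi_el hc]
    exact congrArg (fun m => (T.Φ m).1) (Subtype.ext e.symm)
  set q := (σ : ↥M24).1 outP with hq
  have hmem : B.vel (pairCode outP q) * T.kk s ∈ T.A0 := by
    refine ⟨c, hc, e.trans ?_⟩
    rw [T.bHom_apply, kk, ← hσ]
  have hw := (T.vel_kk_mem (pairCode_lt _ _) s).1 hmem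
  have hqp : q = outP := by
    by_contra hne
    have hchk := forallLt_elim (forallLt_elim w_pairs (ix_lt outP)) (ix_lt q)
    rw [show Nat.beq (ix outP) (ix q) = false from Bool.eq_false_iff.2 fun e =>
      hne (ix_injective (Nat.eq_of_beq_eq_true e)).symm, Bool.false_or, beq_iff_eq, pcI_eq, hw] at hchk
    exact outP_not_mem (mem_oct.2 (Bool.and_eq_true_iff.1 hchk.symm).1)
  have hs0 : s = 0 := by
    refine fixP_out_inj ?_
    rw [fixP_zero, Equiv.Perm.one_apply, ← show q = fixP s outP by rw [hq, hσ], hqp]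
  refine Subtype.ext ?_
  rw [hσ, hs0]
  exact Subtype.ext fixP_zero

theorem range_inf_A0 : T.bHom.range ⊓ T.A0 = ⊥ := by
  rw [eq_bot_iff]
  rintro _ ⟨⟨σ, rfl⟩, h⟩
  rw [T.bHom_A0 σ h, map_one]
  exact one_mem _

theorem sup_range (hG : ¬ IsMulCommutative G) (hJ : IsOfJankoFourType G) : T.A0 ⊔ T.bHom.range = T.NA ⊓ B.NV := by
  have hle : T.A0 ⊔ T.bHom.range ≤ T.NA ⊓ B.NV :=
    sup_le (le_inf Subgroup.le_normalizer T.A0_le) (by
      rintro _ ⟨σ, rfl⟩; exact ⟨T.bHom_NA σ, T.bHom_mem σ⟩)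
  refine Subgroup.eq_of_le_of_card_ge hle ?_
  have hdis : Disjoint T.A0 T.bHom.range := by rw [disjoint_iff, inf_comm, T.range_inf_A0]
  let f : ↥T.A0 × ↥T.bHom.range → ↥(T.A0 ⊔ T.bHom.range) := fun g =>
    ⟨(g.1 : G) * g.2, mul_mem (Subgroup.mem_sup_left g.1.2) (Subgroup.mem_sup_right g.2.2)⟩
  have := Nat.card_le_card_of_injective f fun a b e =>
    Subgroup.mul_injective_of_disjoint hdis (congrArg Subtype.val e)
  rwa [Nat.card_prod, T.card_A0, ← Nat.card_congr (MonoidHom.ofInjective T.bHom_inj).toEquiv, card_stab_oct,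
    show (2 : ℕ) ^ 10 = 1024 by norm_num, ← T.card_NA_inf_NV] at this

/-- The normalizer splits over the subgroup with quotient `L5(2)`. -/
theorem exists_complement_L5 (hG : ¬ IsMulCommutative G) (hJ : IsOfJankoFourType G) :
    ∃ C : Subgroup G, C ≤ T.NA ∧ C ⊓ T.A0 = ⊥ ∧ C ⊔ T.A0 = T.NA ∧
      Nonempty (↥C ≃* Matrix.SpecialLinearGroup (Fin 5) (ZMod 2)) := by
  classical
  set K : Subgroup ↥T.NA := T.A0.subgroupOf T.NA with hK
  haveI hKn : K.Normal := Subgroup.normal_in_normalizer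
  haveI : IsMulCommutative ↥K := ⟨⟨fun a b => Subtype.ext (Subtype.ext <| by
    have h := congrArg Subtype.val (T.A0_elementary.1.1.1 ⟨((a : ↥T.NA) : G), Subgroup.mem_subgroupOf.1 a.2⟩
      ⟨((b : ↥T.NA) : G), Subgroup.mem_subgroupOf.1 b.2⟩)
    simpa using h)⟩⟩
  set U : Subgroup ↥T.NA := (T.NA ⊓ B.NV).subgroupOf T.NA
  set R : Subgroup ↥T.NA := T.bHom.range.subgroupOf T.NA
  have hR : T.bHom.range ≤ T.NA := by rintro _ ⟨σ, rfl⟩; exact T.bHom_NA σ
  have hKA : K ⊔ R = U := by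
    rw [hK, ← Subgroup.subgroupOf_sup Subgroup.le_normalizer hR, T.sup_range hG hJ]
  have hKU : K ≤ U := hKA ▸ le_sup_left
  have hRK : R ⊓ K = ⊥ := by
    rw [eq_bot_iff]
    rintro x ⟨h1, h2⟩
    have : (x : G) ∈ T.bHom.range ⊓ T.A0 := ⟨Subgroup.mem_subgroupOf.1 h1, Subgroup.mem_subgroupOf.1 h2⟩
    rw [T.range_inf_A0, Subgroup.mem_bot] at this
    exact Subgroup.mem_bot.2 (Subtype.ext this)
  have hcK : Nat.card K = 1024 := by
    rw [hK, Nat.card_congr (Subgroup.subgroupOfEquivOfLe Subgroup.le_normalizer).toEquiv, T.card_A0]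
    norm_num
  have hU : U.index = 31 := by
    have h := Subgroup.card_mul_index U
    rw [Nat.card_congr (Subgroup.subgroupOfEquivOfLe inf_le_left).toEquiv, T.card_NA_inf_NV, T.card_NA hG hJ] at h
    omega
  obtain ⟨σ⟩ := CfsgLib.Core.Gaschutz.exists_sec hKU hRK hKA
  letI : Fintype (↥T.NA ⧸ U) := Fintype.ofFinite _
  have hC := CfsgLib.Core.Gaschutz.isComplement_stab hKA (by rw [hcK, hU]; norm_num) σ
  set C0 := CfsgLib.Core.Gaschutz.stab hKA σ
  have hdis : C0 ⊓ K = ⊥ := disjoint_iff.1 hC.disjoint.symm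
  have hcard : Nat.card C0 = 9999360 := by
    have h := hC.card_mul_card
    rw [hcK, T.card_NA hG hJ] at h
    omega
  refine ⟨C0.map T.NA.subtype, Subgroup.map_subtype_le C0, ?_, ?_, ?_⟩
  · rw [eq_bot_iff]
    rintro _ ⟨⟨x, hx, rfl⟩, hxA⟩
    have hh : x ∈ C0 ⊓ K := ⟨hx, Subgroup.mem_subgroupOf.2 hxA⟩
    rw [hdis, Subgroup.mem_bot] at hh
    rw [hh, map_one]
    exact one_mem _
  · have h := congrArg (Subgroup.map T.NA.subtype) hC.symm.sup_eq_top
    rwa [Subgroup.map_sup, ← MonoidHom.range_eq_map, Subgroup.range_subtype, hK,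
      Subgroup.map_subgroupOf_eq_of_le Subgroup.le_normalizer] at h
  · let ψ : ↥C0 →* Matrix.SpecialLinearGroup (Fin 5) (ZMod 2) := (T.theta hG hJ).comp C0.subtype
    have hinj : Function.Injective ψ := (injective_iff_map_eq_one ψ).2 fun x hx => by
      have hh : (x : ↥T.NA) ∈ C0 ⊓ K := ⟨x.2, Subgroup.mem_subgroupOf.2 ((T.mem_ker_theta hG hJ x).1 hx)⟩
      rw [hdis, Subgroup.mem_bot] at hh
      exact Subtype.ext hh
    have hbij : Function.Bijective ψ :=
      (Nat.bijective_iff_injective_and_card ψ).2 ⟨hinj, by rw [hcard, card_SL_five]⟩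
    exact ⟨(C0.equivMapOfInjective T.NA.subtype T.NA.subtype_injective).symm.trans (MulEquiv.ofBijective ψ hbij)⟩

end TenBase

end HexBase

end CfsgLib.JankoFour
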