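import Cfsg.Agent.Lib.JankoFourTen.Checks
import Cfsg.Agent.Lib.JankoFour.PointFixerRank
import Cfsg.Agent.Lib.Sporadic.MathieuTwoTwoAut

/-!
# The pointwise fixer of an octad and elementary abelian 2-subgroups of M24 (owner: helper14)
-/

set_option autoImplicit false
set_option maxRecDepth 100000

namespace CfsgLib.JankoFour.Ten

open Cfsg CfsgLib.Sporadic MulAction
open CfsgLib.ThreeTrans.M24Inv (peq peq_iff)
open scoped Pointwise

/-- The octad fixed by the first involution. -/
def oct : Finset GolayPt := setOfMask octMask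

theorem mem_oct {x : GolayPt} : x ∈ oct ↔ octMask.testBit (ix x) = true := by
  rw [oct, mem_setOfMask]

theorem oct_mem : oct ∈ octads := by
  obtain ⟨h1, h2, -, -, hm, -⟩ := oct_facts
  rw [mem_octads_iff, oct, maskOf_setOfMask hm]
  exact ⟨h1, h2⟩

/-- A point outside the octad. -/
def outP : GolayPt := pt outPt

theorem ix_outP : ix outP = outPt := ix_pt oct_facts.2.2.2.1

theorem outP_not_mem : outP ∉ oct := by
  rw [mem_oct, ix_outP, oct_facts.2.2.1]
  simp

theorem fix_aut (s : Fin 16) : isAut (fixPerms.getD s.1 0) = true := by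
  have h := forallLt_elim fix_auts s.2
  simp only [Bool.and_eq_true] at h
  exact h.1.1

/-- The sixteen elements fixing the octad pointwise. -/
noncomputable def fixP (s : Fin 16) : Equiv.Perm GolayPt := (exists_mem_M24 (fix_aut s)).choose

theorem fixP_mem (s : Fin 16) : fixP s ∈ M24 := (exists_mem_M24 (fix_aut s)).choose_spec.1

theorem fixP_rep (s : Fin 16) : Rep (fixP s) (fixPerms.getD s.1 0) := (exists_mem_M24 (fix_aut s)).choose_spec.2

theorem fixP_fix (s : Fin 16) {x : GolayPt} (hx : x ∈ oct) : fixP s x = x := by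
  have h := forallLt_elim fix_auts s.2
  simp only [Bool.and_eq_true] at h
  have h' := forallLt_elim h.1.2 (ix_lt x)
  rw [mem_oct.1 hx, Bool.not_true, Bool.false_or, fixP_rep s x] at h'
  exact ix_injective (Nat.eq_of_beq_eq_true h')

/-- The index of a product. -/
def xfin (a b : Fin 16) : Fin 16 := ⟨Nat.xor a.1 b.1, Nat.xor_lt_two_pow (n := 4) a.2 b.2⟩

theorem fixP_mul (a b : Fin 16) : fixP a * fixP b = fixP (xfin a b) := by
  have h := forallLt_elim fix_auts a.2
  simp only [Bool.and_eq_true] at h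
  exact (peq_iff ((fixP_rep a).mul (fixP_rep b)) (fixP_rep (xfin a b))).1 (forallLt_elim h.2 b.2)

theorem fixP_zero : fixP 0 = 1 := (peq_iff (fixP_rep 0) Rep.one).1 fix_zero.1

theorem xfin_self (a : Fin 16) : xfin a a = 0 := Fin.ext (Nat.xor_self a.1)

theorem fixP_sq (a : Fin 16) : fixP a * fixP a = 1 := by rw [fixP_mul, xfin_self, fixP_zero]

theorem exists_fix_out {q : GolayPt} (hq : q ∉ oct) : ∃ s : Fin 16, fixP s outP = q := by
  have h := forallLt_elim fix_cover (ix_lt q)
  rw [show octMask.testBit (ix q) = false from Bool.eq_false_iff.2 fun e => hq (mem_oct.2 e),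
    Bool.false_or] at h
  have h1 := Nat.eq_of_beq_eq_true h
  rw [countLt_eq] at h1
  obtain ⟨s, hs⟩ := Finset.card_pos.1 (h1.symm ▸ Nat.one_pos)
  rw [Finset.mem_filter, Finset.mem_range] at hs
  refine ⟨⟨s, hs.1⟩, ix_injective ?_⟩
  have := fixP_rep ⟨s, hs.1⟩ outP
  rw [ix_outP] at this
  rw [← this]
  exact Nat.eq_of_beq_eq_true hs.2

theorem fixP_out_inj {a b : Fin 16} (h : fixP a outP = fixP b outP) : a = b := by
  have hq : fixP a outP ∉ oct := fun hm => outP_not_mem <| by
    have := fixP_fix a hm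
    rwa [← (fixP a).injective this]
  have hc := forallLt_elim fix_cover (ix_lt (fixP a outP))
  rw [show octMask.testBit (ix (fixP a outP)) = false from Bool.eq_false_iff.2 fun e => hq (mem_oct.2 e),
    Bool.false_or] at hc
  have h1 := Nat.eq_of_beq_eq_true hc
  rw [countLt_eq, Finset.card_eq_one] at h1
  obtain ⟨c, hc⟩ := h1
  have key : ∀ e : Fin 16, fixP e outP = fixP a outP → e.1 = c := fun e he => by
    have : e.1 ∈ ({c} : Finset ℕ) := by
      rw [← hc, Finset.mem_filter, Finset.mem_range]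
      refine ⟨e.2, ?_⟩
      have := fixP_rep e outP
      rw [ix_outP, he] at this
      rw [this]
      exact Nat.beq_refl _
    exact Finset.mem_singleton.1 this
  exact Fin.ext ((key a rfl).trans (key b h.symm).symm)

/-- An element fixing an octad and one more point is trivial. -/
theorem fix_nine {σ : Equiv.Perm GolayPt} (hσ : σ ∈ M24) {o : Finset GolayPt} (ho : o ∈ octads)
    (hfix : ∀ x ∈ o, σ x = x) {p : GolayPt} (hp : p ∉ o) (hσp : σ p = p) : σ = 1 := by
  classical
  obtain ⟨T, hT, hTc⟩ := Finset.exists_subset_card_eq (n := 5) (s := o) (by rw [ho.2]; norm_num)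
  obtain ⟨g, hg⟩ := exists_smul_set (t := setOfMask 8388623) (s := T) (by rw [hTc]; decide +kernel) hTc.le
  have hoct : setOfMask 8536111 ∈ octads := by
    rw [mem_octads_iff, maskOf_setOfMask (by norm_num)]; decide +kernel
  have hgo : g • o = setOfMask 8536111 := by
    refine eq_of_inter_five ((smul_mem_octads' g).2 ho) hoct ?_
    refine le_trans (le_of_eq ?_) (Finset.card_le_card (s := setOfMask 8388623) fun y hy => ?_)
    · decide +kernel
    · refine Finset.mem_inter.2 ⟨?_, ?_⟩
      · rw [← hg] at hy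
        exact Finset.smul_finset_subset_smul_finset hT hy
      · revert hy; revert y; decide +kernel
  have hfix' : ∀ y ∈ setOfMask 8536111, (g.1 * σ * g.1⁻¹) y = y := by
    intro y hy
    rw [← hgo] at hy
    obtain ⟨x, hx, rfl⟩ := Finset.mem_smul_finset.1 hy
    show g.1 (σ (g.1⁻¹ (g.1 x))) = g.1 x
    rw [show g.1⁻¹ (g.1 x) = x by simp, hfix x hx]
  have hz : g.1 p ∈ setOfMask 8241104 := by
    have h1 : g.1 p ∉ setOfMask 8536111 := fun h => hp (by
      rw [← hgo] at h
      exact (Finset.smul_mem_smul_finset_iff g).1 h)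
    revert h1
    generalize g.1 p = w
    revert w
    decide +kernel
  have h := M22Aut.eq_one_of_fix_seven (σ := g.1 * σ * g.1⁻¹) (mul_mem (mul_mem g.2 hσ) (inv_mem g.2))
    (fun c hc => hfix' _ (by fin_cases hc <;> decide +kernel)) (x := pt 5) (z := g.1 p)
    (by decide +kernel) hz (hfix' _ (by decide +kernel))
    (by show g.1 (σ (g.1⁻¹ (g.1 p))) = g.1 p; rw [show g.1⁻¹ (g.1 p) = p by simp, hσp])
  have h' : σ = g.1⁻¹ * (g.1 * σ * g.1⁻¹) * g.1 := by group
  rw [h', h]
  group

/-- The pointwise fixer of the octad. -/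
theorem fixer_eq {σ : Equiv.Perm GolayPt} (hσ : σ ∈ M24) (hfix : ∀ x ∈ oct, σ x = x) :
    ∃ s : Fin 16, σ = fixP s := by
  have hq : σ outP ∉ oct := fun h => outP_not_mem (by rwa [← σ.injective (hfix _ h)])
  obtain ⟨s, hs⟩ := exists_fix_out hq
  refine ⟨s, ?_⟩
  have h1 : fixP s * σ = 1 := fix_nine (mul_mem (fixP_mem s) hσ) oct_mem
    (fun x hx => by rw [Equiv.Perm.mul_apply, hfix x hx, fixP_fix s hx]) outP_not_mem
    (by rw [Equiv.Perm.mul_apply, ← hs, ← Equiv.Perm.mul_apply, fixP_sq, Equiv.Perm.one_apply])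
  calc σ = fixP s * fixP s * σ := by rw [fixP_sq, one_mul]
    _ = fixP s := by rw [mul_assoc, h1, mul_one]

theorem fixP_inj {a b : Fin 16} (h : fixP a = fixP b) : a = b := fixP_out_inj (by rw [h])

/-- The fixed points of an element. -/
def fixSet (σ : Equiv.Perm GolayPt) : Finset GolayPt := Finset.univ.filter fun p => σ p = p

theorem mem_fixSet {σ : Equiv.Perm GolayPt} {p : GolayPt} : p ∈ fixSet σ ↔ σ p = p := by simp [fixSet]

/-- The fixed points of an involution with a fixed point form an octad. -/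
theorem fixSet_octad {σ : Equiv.Perm GolayPt} (hσ : σ ∈ M24) (h2 : σ * σ = 1) (h1 : σ ≠ 1) {p : GolayPt}
    (hp : σ p = p) : fixSet σ ∈ octads :=
  (CfsgLib.ThreeTrans.M24Inv.main.1 σ hσ (orderOf_eq_prime (by rw [pow_two, h2]) h1)).resolve_right
    fun h => h p hp

theorem fixSet_fixP {s : Fin 16} (hs : s ≠ 0) : fixSet (fixP s) = oct := by
  obtain ⟨x, hx⟩ : oct.Nonempty := Finset.card_pos.1 (by rw [oct_mem.2]; norm_num)
  refine eq_of_inter_five (fixSet_octad (fixP_mem s) (fixP_sq s) (fun h => hs (fixP_inj (h.trans fixP_zero.symm)))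
    (fixP_fix s hx)) oct_mem ?_
  refine le_trans ?_ (Finset.card_le_card (s := oct) fun y hy =>
    Finset.mem_inter.2 ⟨mem_fixSet.2 (fixP_fix s hy), hy⟩)
  rw [oct_mem.2]; norm_num

/-- Two octads are carried onto each other with five points prescribed. -/
theorem exists_map_octad {o o' : Finset GolayPt} (ho : o ∈ octads) (ho' : o' ∈ octads) {xs ys : List GolayPt}
    (hx : xs.Nodup) (hy : ys.Nodup) (h5 : xs.length = 5) (h5' : ys.length = 5) (hxo : ∀ x ∈ xs, x ∈ o)
    (hyo : ∀ y ∈ ys, y ∈ o') : ∃ g : ↥M24, xs.map (g • ·) = ys ∧ g • o = o' := by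
  classical
  obtain ⟨g, hg⟩ := exists_map_list hx hy (h5.trans h5'.symm) h5.le
  refine ⟨g, hg, eq_of_inter_five ((smul_mem_octads' g).2 ho) ho' ?_⟩
  refine le_trans (le_of_eq ?_) (Finset.card_le_card (s := ys.toFinset) fun y hy' => ?_)
  · rw [List.toFinset_card_of_nodup hy, h5']
  · rw [List.mem_toFinset] at hy'
    refine Finset.mem_inter.2 ⟨?_, hyo y hy'⟩
    rw [← hg, List.mem_map] at hy'
    obtain ⟨x, hxs, rfl⟩ := hy'
    exact Finset.smul_mem_smul_finset (hxo x hxs)

theorem exists_five {o : Finset GolayPt} (ho : o ∈ octads) {xs : List GolayPt} (hx : xs.Nodup)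
    (hxo : ∀ x ∈ xs, x ∈ o) (h5 : xs.length ≤ 5) :
    ∃ ys : List GolayPt, (xs ++ ys).Nodup ∧ (xs ++ ys).length = 5 ∧ ∀ x ∈ xs ++ ys, x ∈ o := by
  classical
  obtain ⟨T, hT, hTc⟩ := Finset.exists_subset_card_eq (n := 5 - xs.length) (s := o \ xs.toFinset) (by
    have h := Finset.le_card_sdiff xs.toFinset o
    rw [ho.2, List.toFinset_card_of_nodup hx] at h
    omega)
  refine ⟨T.toList, List.nodup_append.2 ⟨hx, T.nodup_toList, fun a ha b hb e => ?_⟩,
    by rw [List.length_append, Finset.length_toList, hTc]; omega, fun x hx' => ?_⟩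
  · have := Finset.mem_sdiff.1 (hT (Finset.mem_toList.1 hb))
    exact this.2 (List.mem_toFinset.2 (e ▸ ha))
  · rcases List.mem_append.1 hx' with h | h
    · exact hxo x h
    · exact (Finset.mem_sdiff.1 (hT (Finset.mem_toList.1 h))).1

theorem exists_to_oct {o : Finset GolayPt} (ho : o ∈ octads) : ∃ g : ↥M24, g • o = oct := by
  obtain ⟨xs, hx, h5, hxo⟩ := exists_five ho List.nodup_nil (fun x h => by simp at h) (by simp)
  obtain ⟨ys, hy, h5', hyo⟩ := exists_five oct_mem List.nodup_nil (fun x h => by simp at h) (by simp)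
  obtain ⟨g, -, hg⟩ := exists_map_octad ho oct_mem hx hy h5 h5' hxo hyo
  exact ⟨g, hg⟩

/-- The stabiliser of the octad is transitive on the involutions fixing it pointwise. -/
theorem fix_conj {s t : Fin 16} (hs : s ≠ 0) (ht : t ≠ 0) :
    ∃ g : ↥M24, g • oct = oct ∧ g.1 * fixP s * g.1⁻¹ = fixP t := by
  have ord : ∀ {a : Fin 16}, a ≠ 0 → orderOf (fixP a) = 2 := fun {a} ha =>
    orderOf_eq_prime (by rw [pow_two, fixP_sq]) fun h => ha (fixP_inj (h.trans fixP_zero.symm))
  obtain ⟨x, hx⟩ : oct.Nonempty := Finset.card_pos.1 (by rw [oct_mem.2]; norm_num)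
  obtain ⟨-, -, -, hc⟩ := CfsgLib.ThreeTrans.M24Inv.main
  obtain ⟨k, hk, e⟩ := hc _ (fixP_mem s) _ (fixP_mem t) (ord hs) (ord ht)
    (iff_of_false (fun h => h x (fixP_fix s hx)) fun h => h x (fixP_fix t hx))
  refine ⟨⟨k, hk⟩, ?_, e⟩
  ext y
  rw [← Finset.inv_smul_mem_iff]
  conv_rhs => rw [← fixSet_fixP ht, ← e, mem_fixSet]
  conv_lhs => rw [← fixSet_fixP hs, mem_fixSet]
  show fixP s (k⁻¹ y) = k⁻¹ y ↔ k (fixP s (k⁻¹ y)) = y
  exact ⟨fun h => by rw [h]; simp, fun h => k.injective (h.trans (by simp))⟩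

/-- The stabiliser of the octad. -/
theorem card_stab_oct : Nat.card (stabilizer ↥M24 oct) = 322560 :=
  card_stabilizer_of_orbit oct octads (fun g => (smul_mem_octads' g).2 oct_mem)
    (fun o ho => by obtain ⟨g, hg⟩ := exists_to_oct ho; exact ⟨g⁻¹, by rw [← hg, inv_smul_smul]⟩)
    octads_ncard (by norm_num)

/-- An abelian subgroup of exponent two has at most 64 elements. -/
theorem rank_le {R : Subgroup (Equiv.Perm GolayPt)} (hR : R ≤ M24) (hc : ∀ a ∈ R, ∀ b ∈ R, a * b = b * a)
    (h2 : ∀ a ∈ R, a * a = 1) : Nat.card R ≤ 64 := by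
  classical
  by_contra hgt
  haveI : Fact (Nat.Prime 2) := ⟨Nat.prime_two⟩
  have hpg : IsPGroup 2 ↥R := fun g => ⟨1, Subtype.ext (by simpa [pow_two] using h2 g g.2)⟩
  obtain ⟨k, hk⟩ := IsPGroup.iff_card.1 hpg
  have hk7 : 7 ≤ k := by
    by_contra h
    refine hgt (hk ▸ ?_)
    calc 2 ^ k ≤ 2 ^ 6 := Nat.pow_le_pow_right (by norm_num) (by omega)
      _ = 64 := by norm_num
  have hcard : 128 ≤ Nat.card R := by
    rw [hk]
    calc 128 = 2 ^ 7 := by norm_num
      _ ≤ 2 ^ k := Nat.pow_le_pow_right (by norm_num) hk7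
  have hst : ∀ p, Nat.card (stabilizer ↥R p) ≤ 16 := fun p => by
    rw [← Subgroup.card_map_of_injective (f := R.subtype) R.subtype_injective]
    refine card_le_sixteen (fun g hg => ?_) (fun g hg => ?_) (p := p) fun g hg => ?_ <;>
      obtain ⟨a, ha, rfl⟩ := hg
    exacts [hR a.2, h2 _ a.2, ha]
  -- an orbit has at most eight points
  obtain ⟨p, hp⟩ : ∃ p, (orbit ↥R p).ncard ≤ 8 := by
    by_contra hne
    push Not at hne
    have hdvd : ∀ p : GolayPt, (orbit ↥R p).ncard = 16 := fun p => by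
      have hm := (IsPGroup.iff_card.2 ⟨k, hk⟩ : IsPGroup 2 ↥R).card_orbit p
      obtain ⟨n, hn⟩ := hm
      rw [← Nat.card_coe_set_eq, hn]
      have h24 : 2 ^ n ≤ 24 := by
        rw [← hn]
        refine (Nat.card_le_card_of_injective Subtype.val Subtype.val_injective).trans (le_of_eq ?_)
        rw [Nat.card_eq_fintype_card]; rfl
      have h9 : 8 < 2 ^ n := by rw [← hn, Nat.card_coe_set_eq]; exact hne p
      have : n ≤ 4 := by
        by_contra h5
        have : 2 ^ 5 ≤ 2 ^ n := Nat.pow_le_pow_right (by norm_num) (by omega)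
        omega
      interval_cases n <;> first | rfl | (norm_num at h9)
    obtain ⟨q, hq⟩ : ∃ q, q ∉ orbit ↥R (none : GolayPt) := by
      by_contra h
      push Not at h
      have := hdvd none
      rw [show orbit ↥R (none : GolayPt) = Set.univ from Set.eq_univ_of_forall h, Set.ncard_univ,
        Nat.card_eq_fintype_card] at this
      simp [GolayPt] at this
    have hd : Disjoint (orbit ↥R (none : GolayPt)) (orbit ↥R q) := by
      rw [Set.disjoint_left]
      intro x hx hx'
      exact hq ((orbit_eq_iff.2 hx) ▸ (orbit_eq_iff.2 hx') ▸ mem_orbit_self q)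
    have := Set.ncard_union_eq hd
    have h24 := Set.ncard_le_ncard (Set.subset_univ (orbit ↥R (none : GolayPt) ∪ orbit ↥R q))
    rw [this, hdvd, hdvd, Set.ncard_univ, Nat.card_eq_fintype_card] at h24
    simp [GolayPt] at h24
  have hmul : (orbit ↥R p).ncard * Nat.card (stabilizer ↥R p) = Nat.card R := by
    rw [← index_stabilizer, mul_comm, Subgroup.card_mul_index]
  have h16 : Nat.card (stabilizer ↥R p) = 16 := by
    have := hst p
    have := Nat.mul_le_mul hp this
    rw [hmul] at this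
    nlinarith [hst p, hmul, hp, hcard]
  have h8 : (orbit ↥R p).ncard = 8 := by rw [h16] at hmul; omega
  -- the stabiliser fixes its orbit, which is then an octad
  have hfixorb : ∀ a ∈ stabilizer ↥R p, ∀ x ∈ orbit ↥R p, (a : Equiv.Perm GolayPt) x = x := by
    rintro a ha x ⟨g, rfl⟩
    show ((a : Equiv.Perm GolayPt) * g) p = _
    rw [hc _ a.2 _ g.2, Equiv.Perm.mul_apply, show (a : Equiv.Perm GolayPt) p = p from ha]
    rfl
  set P : Finset GolayPt := (Set.toFinite (orbit ↥R p)).toFinset with hP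
  have hPmem : ∀ {x}, x ∈ P ↔ x ∈ orbit ↥R p := fun {x} => Set.Finite.mem_toFinset _
  have hPc : P.card = 8 := by rw [← h8, Set.ncard_eq_toFinset_card _ (Set.toFinite _)]
  have hset : ∀ a ∈ stabilizer ↥R p, (a : Equiv.Perm GolayPt) ≠ 1 → fixSet a = P := by
    intro a ha ha1
    have ho := fixSet_octad (hR a.2) (h2 _ a.2) ha1 (show (a : Equiv.Perm GolayPt) p = p from ha)
    exact (Finset.eq_of_subset_of_card_le (fun x hx => mem_fixSet.2 (hfixorb a ha x (hPmem.1 hx)))
      (by rw [ho.2, hPc])).symm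
  obtain ⟨a, ha, ha1⟩ : ∃ a ∈ stabilizer ↥R p, (a : Equiv.Perm GolayPt) ≠ 1 := by
    by_contra h
    push Not at h
    have : stabilizer ↥R p = ⊥ := (Subgroup.eq_bot_iff_forall _).2 fun a ha => Subtype.ext (h a ha)
    rw [this, Subgroup.card_bot] at h16
    omega
  have hPo : P ∈ octads := hset a ha ha1 ▸
    fixSet_octad (hR a.2) (h2 _ a.2) ha1 (show (a : Equiv.Perm GolayPt) p = p from ha)
  obtain ⟨g, hg⟩ := exists_to_oct hPo
  -- every element of the fixer occurs
  have hall : ∀ s : Fin 16, g.1⁻¹ * fixP s * g.1 ∈ R := by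
    have hsub : ∀ a : ↥(stabilizer ↥R p), ∃ s : Fin 16, g.1 * (a.1 : Equiv.Perm GolayPt) * g.1⁻¹ = fixP s :=
      fun a => fixer_eq (mul_mem (mul_mem g.2 (hR a.1.2)) (inv_mem g.2)) fun x hx => by
        rw [← hg] at hx
        obtain ⟨y, hy, rfl⟩ := Finset.mem_smul_finset.1 hx
        show g.1 ((a.1 : Equiv.Perm GolayPt) (g.1⁻¹ (g.1 y))) = g.1 y
        rw [show g.1⁻¹ (g.1 y) = y by simp, hfixorb a.1 a.2 y (hPmem.1 hy)]
    choose f hf using hsub
    have hbij : Function.Bijective f := by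
      haveI : Finite ↥(stabilizer ↥R p) := Subtype.finite
      refine (Nat.bijective_iff_injective_and_card f).2 ⟨fun a b e => ?_, by rw [h16, Nat.card_fin]⟩
      have h := (hf a).trans ((congrArg fixP e).trans (hf b).symm)
      exact Subtype.ext (Subtype.ext (mul_left_cancel (mul_right_cancel h)))
    intro s
    obtain ⟨a, rfl⟩ := hbij.2 s
    rw [← hf a, show g.1⁻¹ * (g.1 * (a.1 : Equiv.Perm GolayPt) * g.1⁻¹) * g.1 = (a.1 : Equiv.Perm GolayPt) by group]
    exact a.1.2
  -- hence nothing else does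
  have hle : ∀ y ∈ R, ∃ s : Fin 16, g.1 * y * g.1⁻¹ = fixP s := by
    intro y hy
    set y' := g.1 * y * g.1⁻¹ with hy'
    have hcomm : ∀ s, y' * fixP s = fixP s * y' := fun s => by
      have h := hc y hy _ (hall s)
      calc y' * fixP s = g.1 * (y * (g.1⁻¹ * fixP s * g.1)) * g.1⁻¹ := by rw [hy']; group
        _ = _ := by rw [h, hy']; group
    have hy'M : y' ∈ M24 := mul_mem (mul_mem g.2 (hR hy)) (inv_mem g.2)
    have hy'2 : y' * y' = 1 := by
      rw [hy', show g.1 * y * g.1⁻¹ * (g.1 * y * g.1⁻¹) = g.1 * (y * y) * g.1⁻¹ by group, h2 y hy]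
      group
    have hout : y' outP ∉ oct := fun hm => outP_not_mem <| by
      have hs : (1 : Fin 16) ≠ 0 := by decide
      rw [← fixSet_fixP hs, mem_fixSet] at hm ⊢
      have h := congrArg (fun f : Equiv.Perm GolayPt => f outP) (hcomm 1)
      simp only [Equiv.Perm.mul_apply] at h
      rw [hm] at h
      exact y'.injective h
    obtain ⟨s, hs⟩ := exists_fix_out hout
    refine ⟨s, ?_⟩
    set τ := fixP s * y' with hτ
    have hτc : ∀ t, τ * fixP t = fixP t * τ := fun t => by
      rw [hτ, mul_assoc, hcomm t, ← mul_assoc (fixP s), fixP_mul, ← mul_assoc (fixP t), fixP_mul,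
        show xfin s t = xfin t s from Fin.ext (Nat.xor_comm _ _)]
    have hτp : τ outP = outP := by
      rw [hτ, Equiv.Perm.mul_apply, ← hs, ← Equiv.Perm.mul_apply, fixP_sq, Equiv.Perm.one_apply]
    have hτ1 : τ = 1 := by
      by_contra h1
      have hτ2 : τ * τ = 1 := by
        rw [hτ, show fixP s * y' * (fixP s * y') = fixP s * (y' * fixP s) * y' by group, hcomm s,
          ← mul_assoc (fixP s) (fixP s), fixP_sq, one_mul, hy'2]
      have ho := fixSet_octad (mul_mem (fixP_mem s) hy'M) hτ2 h1 hτp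
      have hsub : (Finset.univ : Finset (Fin 16)).image (fun t => fixP t outP) ⊆ fixSet τ := by
        intro x hx
        obtain ⟨t, -, rfl⟩ := Finset.mem_image.1 hx
        rw [mem_fixSet, ← Equiv.Perm.mul_apply, hτc t, Equiv.Perm.mul_apply, hτp]
      have := Finset.card_le_card hsub
      rw [Finset.card_image_of_injective _ (fun a b e => fixP_out_inj e), Finset.card_univ, Fintype.card_fin,
        ho.2] at this
      omega
    calc y' = fixP s * τ := by rw [hτ, ← mul_assoc, fixP_sq, one_mul]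
      _ = fixP s := by rw [hτ1, mul_one]
  choose f hf using hle
  have h17 : Nat.card R ≤ Nat.card (Fin 16) :=
    Nat.card_le_card_of_injective (fun y : ↥R => f y.1 y.2) fun a b e => Subtype.ext (by
      have h := (hf a.1 a.2).trans ((congrArg fixP e).trans (hf b.1 b.2).symm)
      exact mul_left_cancel (mul_right_cancel h))
  rw [Nat.card_fin] at h17
  omega

end CfsgLib.JankoFour.Ten
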