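import Cfsg.Agent.Lib.JankoFourTen.Classify
import Cfsg.Agent.Lib.JankoFour.DuadClass

/-!
# The standard self-centralizing subgroup of order 2^10 and its uniqueness (owner: helper14)
-/

set_option autoImplicit false
set_option linter.unusedSectionVars false
set_option maxRecDepth 100000

namespace CfsgLib.JankoFour

open Cfsg CfsgLib.Sporadic CfsgLib.JankoFourHexad CfsgLib.JankoFour.Ten MulAction
open scoped Pointwise

namespace Ten

theorem wVal_facts {i : ℕ} (hi : i < 64) : wMask.testBit (wVal i) = true ∧ wVal i < 2048 := by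
  have h := forallLt_elim w_vals hi
  simp only [Bool.and_eq_true, Nat.blt_eq] at h
  exact ⟨h.1.1, h.1.2⟩

theorem wVal_xor (i j : ℕ) : wVal (i ^^^ j) = Nat.xor (wVal i) (wVal j) := xorComb_xor _ i j 6

theorem wVal_inj {i j : ℕ} (hi : i < 64) (hj : j < 64) (h : wVal i = wVal j) : i = j := by
  have hx := forallLt_elim w_vals (Nat.xor_lt_two_pow (n := 6) hi hj)
  simp only [Bool.and_eq_true, Bool.or_eq_true, Bool.not_eq_true'] at hx
  rcases hx.2 with e | e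
  · exact Nat.xor_eq_zero_iff.1 (Nat.eq_of_beq_eq_true e)
  · rw [show wVal (i ^^^ j) = 0 from (wVal_xor i j).trans (by rw [h]; exact Nat.xor_self _)] at e
    simp at e

theorem exists_wVal {n : ℕ} (hn : n < 2048) (hb : wMask.testBit n = true) : ∃ i < 64, wVal i = n := by
  have h := forallLt_elim w_cover hn
  rw [hb, Bool.not_true, Bool.false_or, Bool.not_eq_true'] at h
  by_contra hne
  push Not at hne
  rw [countLt_eq, Finset.card_eq_zero.2 (Finset.filter_eq_empty_iff.2 fun i hi he =>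
    hne i (Finset.mem_range.1 hi) (Nat.eq_of_beq_eq_true he))] at h
  simp at h

/-- A generator of the fixer. -/
noncomputable def gi (i : Fin 4) : Fin 16 :=
  ⟨genIdx i.1, Nat.pow_lt_pow_right (by norm_num) i.2⟩

theorem gen_split : ∀ s : Fin 16, s = xfin (xfin (if s.1.testBit 0 then 1 else 0) (if s.1.testBit 1 then 2 else 0))
    (xfin (if s.1.testBit 2 then 4 else 0) (if s.1.testBit 3 then 8 else 0)) := by decide +kernel

theorem exists_bits : ∀ β : Fin 4 → Bool, ∃ b : Fin 16, ∀ i : Fin 4, bitAt b.1 i.1 = if β i then 1 else 0 := by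
  decide +kernel

theorem fin16_induction {P : Fin 16 → Prop} (h0 : P 0) (hg : ∀ i, P (gi i))
    (hx : ∀ a b, P a → P b → P (xfin a b)) (s : Fin 16) : P s := by
  rw [gen_split s]
  refine hx _ _ (hx _ _ ?_ ?_) (hx _ _ ?_ ?_) <;> split_ifs
  exacts [hg 0, h0, hg 1, h0, hg 2, h0, hg 3, h0]

end Ten

variable {G : Type*} [Group G] [Finite G]

namespace HexBase

variable {S : Setting G} (B : HexBase S)

theorem duad_not_conj [IsSimpleGroup G] (hG : ¬ IsMulCommutative G) (hJ : IsOfJankoFourType G) {a b : GolayPt}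
    (hab : a ≠ b) : B.vel (pairCode a b) ≠ 1 ∧ ¬ IsConj S.z (B.vel (pairCode a b)) := by
  obtain ⟨-, hD, -⟩ := B.duads_spec hG hJ
  obtain ⟨h0, h⟩ := (hD _ (pairCode_lt a b)).1 (pairCode_duad hab)
  exact ⟨fun e => h0 (B.vel_inj (pairCode_lt a b) (by norm_num) (e.trans B.vel_zero.symm)), h⟩

theorem octW_inj {o : Finset GolayPt} (ho : o ∈ octads) (h : B.octW o ≤ B.octW oct) : o = oct := by
  refine Finset.eq_of_subset_of_card_le (fun a ha => ?_) (by rw [ho.2, oct_mem.2])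
  obtain ⟨b, hb, hba⟩ := Finset.exists_mem_ne (show 1 < o.card by rw [ho.2]; norm_num) a
  have hw := (B.mem_octW_oct (pairCode_lt a b)).1 (h (B.pair_mem_octW ha hb))
  have hc := forallLt_elim (forallLt_elim w_pairs (ix_lt a)) (ix_lt b)
  rw [show Nat.beq (ix a) (ix b) = false from Bool.eq_false_iff.2 fun e =>
    hba (ix_injective (Nat.eq_of_beq_eq_true e)).symm, Bool.false_or, beq_iff_eq, pcI_eq, hw] at hc
  exact mem_oct.2 (Bool.and_eq_true_iff.1 hc.symm).1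

theorem map_conj_self {V : Subgroup G} {m : G} (hm : m ∈ Subgroup.normalizer (V : Set G)) :
    V.map (MulAut.conj m).toMonoidHom = V := by
  ext x
  rw [mem_map_conj, Subgroup.mem_normalizer_iff.1 hm]
  simp [mul_assoc]

theorem self_map {A : Subgroup G} (hA : Self A) (g : G) : Self (A.map (MulAut.conj g).toMonoidHom) := by
  obtain ⟨h1, h2, h3⟩ := hA
  refine ⟨elementary_map h1 g, by rw [Subgroup.card_map_of_injective (MulAut.conj g).injective, h2], ?_⟩
  ext x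
  rw [mem_map_conj, Subgroup.mem_centralizer_iff]
  constructor
  · intro h
    rw [← h3, Subgroup.mem_centralizer_iff]
    intro a ha
    have := h (g * a * g⁻¹) ⟨a, ha, rfl⟩
    calc a * (g⁻¹ * x * g) = g⁻¹ * (g * a * g⁻¹ * x) * g := by group
      _ = g⁻¹ * (x * (g * a * g⁻¹)) * g := by rw [this]
      _ = g⁻¹ * x * g * a := by group
  · rintro h _ ⟨a, ha, rfl⟩
    rw [← h3, Subgroup.mem_centralizer_iff] at h
    show g * a * g⁻¹ * x = x * (g * a * g⁻¹)
    calc g * a * g⁻¹ * x = g * (a * (g⁻¹ * x * g)) * g⁻¹ := by group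
      _ = g * (g⁻¹ * x * g * a) * g⁻¹ := by rw [h a ha]
      _ = x * (g * a * g⁻¹) := by group

namespace TenBase

variable {B} (T : B.TenBase)

theorem eq_of_phi {k k' : ↥B.NV} (hk : (k : G) ∈ T.K) (hk' : (k' : G) ∈ T.K) (h : T.Φ k = T.Φ k') : k = k' := by
  have hv : ((k⁻¹ * k' : ↥B.NV) : G) ∈ T.K ⊓ B.V :=
    ⟨T.K.mul_mem (T.K.inv_mem hk) hk', (T.hker _).1 (by rw [map_mul, map_inv, h, inv_mul_cancel])⟩
  rw [T.hKV, Subgroup.mem_bot] at hv
  exact inv_mul_eq_one.1 (Subtype.ext hv)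

theorem exists_split {g : G} (hg : g ∈ B.NV) : ∃ v ∈ B.V, ∃ k ∈ T.K, v * k = g := by
  have h : g ∈ ((B.V ⊔ T.K : Subgroup G) : Set G) := by rw [sup_comm, T.hKV']; exact hg
  rw [Subgroup.coe_mul_of_right_le_normalizer_left _ _ T.hK] at h
  exact h

theorem exists_lift (σ : ↥M24) : ∃ k : ↥B.NV, (k : G) ∈ T.K ∧ T.Φ k = σ := by
  obtain ⟨m, rfl⟩ := T.hsurj σ
  obtain ⟨v, hv, k, hk, e⟩ := T.exists_split m.2
  refine ⟨⟨k, T.hK hk⟩, hk, ?_⟩
  rw [show m = ⟨v, Subgroup.le_normalizer hv⟩ * ⟨k, T.hK hk⟩ from Subtype.ext e.symm, map_mul,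
    (T.hker ⟨v, Subgroup.le_normalizer hv⟩).2 hv, one_mul]

/-- The inverse of the action on the complement. -/
noncomputable def lift : ↥M24 →* G :=
  B.NV.subtype.comp <| MonoidHom.mk' (fun σ => (T.exists_lift σ).choose) fun σ τ => by
    refine T.eq_of_phi (T.exists_lift _).choose_spec.1
      (mul_mem (T.exists_lift σ).choose_spec.1 (T.exists_lift τ).choose_spec.1) ?_
    rw [map_mul, (T.exists_lift _).choose_spec.2, (T.exists_lift σ).choose_spec.2,
      (T.exists_lift τ).choose_spec.2]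

theorem lift_mem_K (σ : ↥M24) : T.lift σ ∈ T.K := (T.exists_lift σ).choose_spec.1

theorem lift_mem (σ : ↥M24) : T.lift σ ∈ B.NV := T.hK (T.lift_mem_K σ)

theorem phi_lift (σ : ↥M24) : T.Φ ⟨T.lift σ, T.lift_mem σ⟩ = σ := (T.exists_lift σ).choose_spec.2

theorem moves_lift (σ : ↥M24) : B.Moves24 (T.lift σ) σ.1 := by
  have := T.hmov ⟨T.lift σ, T.lift_mem σ⟩
  rwa [T.phi_lift] at this

theorem exists_split_lift {g : G} (hg : g ∈ B.NV) : ∃ v ∈ B.V, g = v * T.lift (T.Φ ⟨g, hg⟩) := by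
  obtain ⟨v, hv, k, hk, rfl⟩ := T.exists_split hg
  refine ⟨v, hv, ?_⟩
  have e : T.Φ ⟨v * k, hg⟩ = T.Φ ⟨k, T.hK hk⟩ := by
    rw [show (⟨v * k, hg⟩ : ↥B.NV) = ⟨v, Subgroup.le_normalizer hv⟩ * ⟨k, T.hK hk⟩ from rfl, map_mul,
      (T.hker ⟨v, Subgroup.le_normalizer hv⟩).2 hv, one_mul]
  have := congrArg Subtype.val (T.eq_of_phi (k := ⟨k, T.hK hk⟩) (k' := ⟨_, T.lift_mem (T.Φ ⟨k, T.hK hk⟩)⟩) hk
    (T.lift_mem_K _) (by rw [T.phi_lift]))
  rw [e]
  exact congrArg (v * ·) this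

/-- The complement part over the fixer of the standard octad. -/
noncomputable def kk (s : Fin 16) : G := T.lift ⟨fixP s, fixP_mem s⟩

theorem kk_mem (s : Fin 16) : T.kk s ∈ B.NV := T.lift_mem _

theorem kk_mul (a b : Fin 16) : T.kk a * T.kk b = T.kk (xfin a b) := by
  rw [kk, kk, kk, ← map_mul]
  exact congrArg _ (Subtype.ext (fixP_mul a b))

theorem kk_zero : T.kk 0 = 1 := by
  rw [kk, show (⟨fixP 0, fixP_mem 0⟩ : ↥M24) = 1 from Subtype.ext fixP_zero, map_one]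

theorem kk_moves (s : Fin 16) : B.Moves24 (T.kk s) (fixP s) := T.moves_lift _

theorem kk_act (s : Fin 16) {n : ℕ} (hn : n < 2048) : B.act (T.kk s) n = fImg s.1 n :=
  B.act_fImg (T.kk_mem s) (T.kk_moves s) hn

theorem kk_conj (s : Fin 16) {n : ℕ} (hn : n < 2048) :
    T.kk s * B.vel n = B.vel (fImg s.1 n) * T.kk s := by
  rw [← T.kk_act s hn, B.vel_act (T.kk_mem s) hn]
  group

theorem kk_commute (s : Fin 16) {x : G} (hx : x ∈ B.octW oct) : Commute (T.kk s) x :=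
  B.octW_fixed (T.kk_mem s) (T.kk_moves s) (fun _ h => fixP_fix s h) hx

theorem wel_mem {i : ℕ} (hi : i < 64) : B.vel (wVal i) ∈ B.octW oct :=
  (B.mem_octW_oct (wVal_facts hi).2).2 (wVal_facts hi).1

/-- The elements of the standard subgroup. -/
noncomputable def el (c : ℕ) : G :=
  B.vel (wVal (c % 64)) * T.kk ⟨c / 64 % 16, Nat.mod_lt _ (by norm_num)⟩

theorem el_eq {i : ℕ} (hi : i < 64) (s : Fin 16) : T.el (i + 64 * s.1) = B.vel (wVal i) * T.kk s := by
  rw [el, show (i + 64 * s.1) % 64 = i by omega,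
    show (⟨(i + 64 * s.1) / 64 % 16, Nat.mod_lt _ (by norm_num)⟩ : Fin 16) = s from Fin.ext (by
      show (i + 64 * s.1) / 64 % 16 = s.1
      omega)]

theorem el_exists (c : ℕ) (hc : c < 1024) : ∃ i < 64, ∃ s : Fin 16, c = i + 64 * s.1 :=
  ⟨c % 64, Nat.mod_lt _ (by norm_num), ⟨c / 64, by omega⟩, (Nat.mod_add_div c 64).symm⟩

theorem el_xor (a b : ℕ) : T.el a * T.el b = T.el (a ^^^ b) := by
  have h1 : (a ^^^ b) % 64 = a % 64 ^^^ b % 64 := Nat.xor_mod_two_pow (n := 6)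
  have h2 : (a ^^^ b) / 64 % 16 = a / 64 % 16 ^^^ b / 64 % 16 := by
    rw [show (a ^^^ b) / 64 = a / 64 ^^^ b / 64 by
      have := Nat.shiftRight_xor_distrib (i := 6) (a := a) (b := b)
      simpa [Nat.shiftRight_eq_div_pow] using this]
    exact Nat.xor_mod_two_pow (n := 4)
  rw [el, el, el, h1, wVal_xor, ← B.vel_xor]
  have hc := (T.kk_commute ⟨a / 64 % 16, Nat.mod_lt _ (by norm_num)⟩
    (wel_mem (B := B) (Nat.mod_lt b (by norm_num : 64 > 0)))).eq
  rw [mul_assoc, ← mul_assoc (T.kk _), hc, mul_assoc (B.vel (wVal (b % 64))), T.kk_mul, ← mul_assoc]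
  congr 2
  exact Fin.ext h2.symm

theorem el_zero : T.el 0 = 1 := by
  rw [show (0 : ℕ) = 0 + 64 * (0 : Fin 16).1 from rfl, T.el_eq (by norm_num) 0, T.kk_zero,
    show wVal 0 = 0 by decide +kernel, B.vel_zero, one_mul]

/-- The standard subgroup. -/
noncomputable def A0 : Subgroup G where
  carrier := {x | ∃ c < 1024, T.el c = x}
  one_mem' := ⟨0, by norm_num, T.el_zero⟩
  mul_mem' := by
    rintro _ _ ⟨a, ha, rfl⟩ ⟨b, hb, rfl⟩
    exact ⟨a ^^^ b, Nat.xor_lt_two_pow (n := 10) ha hb, (T.el_xor a b).symm⟩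
  inv_mem' := by
    rintro _ ⟨a, ha, rfl⟩
    refine ⟨a, ha, (inv_eq_of_mul_eq_one_right ?_).symm⟩
    rw [T.el_xor, Nat.xor_self, T.el_zero]

theorem el_mem {c : ℕ} (hc : c < 1024) : T.el c ∈ T.A0 := ⟨c, hc, rfl⟩

theorem octW_le_A0 : B.octW oct ≤ T.A0 := by
  intro x hx
  obtain ⟨n, hn, rfl⟩ := B.octW_le_V oct hx
  obtain ⟨i, hi, rfl⟩ := exists_wVal hn ((B.mem_octW_oct hn).1 hx)
  exact ⟨i + 64 * (0 : Fin 16).1, by simp; omega, by rw [T.el_eq hi, T.kk_zero, mul_one]⟩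

theorem kk_mem_A0 (s : Fin 16) : T.kk s ∈ T.A0 :=
  ⟨0 + 64 * s.1, by omega, by
    rw [T.el_eq (by norm_num) s, show wVal 0 = 0 by decide +kernel, B.vel_zero, one_mul]⟩

theorem A0_le : T.A0 ≤ B.NV := by
  rintro _ ⟨c, hc, rfl⟩
  exact mul_mem (Subgroup.le_normalizer (B.vel_mem (wVal_facts (Nat.mod_lt _ (by norm_num))).2)) (T.kk_mem _)

theorem phi_el {c : ℕ} (hc : c < 1024) :
    (T.Φ ⟨T.el c, T.A0_le (T.el_mem hc)⟩).1 = fixP ⟨c / 64 % 16, Nat.mod_lt _ (by norm_num)⟩ := by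
  have hv := B.vel_mem (wVal_facts (Nat.mod_lt c (by norm_num : 64 > 0))).2
  rw [show (⟨T.el c, T.A0_le (T.el_mem hc)⟩ : ↥B.NV) = ⟨_, Subgroup.le_normalizer hv⟩ * ⟨_, T.lift_mem _⟩ from rfl,
    map_mul, (T.hker ⟨_, Subgroup.le_normalizer hv⟩).2 hv, one_mul, T.phi_lift]

theorem el_inj {a b : ℕ} (ha : a < 1024) (hb : b < 1024) (h : T.el a = T.el b) : a = b := by
  have e : T.el (a ^^^ b) = 1 := by rw [← T.el_xor, h, T.el_xor, Nat.xor_self, T.el_zero]
  have hlt := Nat.xor_lt_two_pow (n := 10) ha hb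
  refine Nat.xor_eq_zero_iff.1 ?_
  obtain ⟨i, hi, s, hc⟩ := el_exists _ hlt
  have hs : fixP s = fixP 0 := by
    have h1 := T.phi_el hlt
    rw [show (⟨T.el (a ^^^ b), T.A0_le (T.el_mem hlt)⟩ : ↥B.NV) = 1 from Subtype.ext e, map_one] at h1
    rw [fixP_zero]
    refine (congrArg fixP ?_).trans h1.symm
    exact Fin.ext (by show s.1 = (a ^^^ b) / 64 % 16; omega)
  obtain rfl := fixP_inj hs
  rw [hc, T.el_eq hi, T.kk_zero, mul_one] at e
  have : i = 0 := wVal_inj hi (by norm_num) (B.vel_inj (wVal_facts hi).2 (by decide +kernel)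
    (e.trans (by rw [show wVal 0 = 0 by decide +kernel, B.vel_zero])))
  rw [hc, this]
  rfl

theorem card_A0 : Nat.card T.A0 = 2 ^ 10 := by
  rw [← Nat.card_congr (Equiv.ofBijective (fun c : Fin 1024 => (⟨T.el c.1, T.el_mem c.2⟩ : ↥T.A0))
    ⟨fun a b e => Fin.ext (T.el_inj a.2 b.2 (congrArg Subtype.val e)),
      fun ⟨x, c, hc, e⟩ => ⟨⟨c, hc⟩, Subtype.ext e⟩⟩), Nat.card_fin]
  norm_num

theorem A0_elementary : IsElementaryAbelian 2 T.A0 := by
  refine ⟨⟨⟨?_⟩⟩, ?_⟩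
  · rintro ⟨_, a, -, rfl⟩ ⟨_, b, -, rfl⟩
    exact Subtype.ext (show T.el a * T.el b = T.el b * T.el a by rw [T.el_xor, T.el_xor, Nat.xor_comm])
  · rintro _ ⟨a, -, rfl⟩
    rw [pow_two, T.el_xor, Nat.xor_self, T.el_zero]

theorem A0_self [IsSimpleGroup G] (hG : ¬ IsMulCommutative G) (hJ : IsOfJankoFourType G) : Self T.A0 := by
  have hc : ∀ {x y}, x ∈ T.A0 → y ∈ T.A0 → Commute x y := fun {x y} hx hy =>
    congrArg Subtype.val (T.A0_elementary.1.1.1 ⟨x, hx⟩ ⟨y, hy⟩)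
  refine ⟨T.A0_elementary, T.card_A0, le_antisymm (fun g hg => ?_) fun x hx =>
    Subgroup.mem_centralizer_iff.2 fun y hy => (hc hy hx).eq⟩
  have hgc : ∀ {x}, x ∈ T.A0 → Commute g x := fun {x} hx => (Subgroup.mem_centralizer_iff.1 hg x hx).symm
  have hpr : ∀ {a b}, a ∈ oct → b ∈ oct → Commute g (B.vel (pairCode a b)) := fun {a b} ha hb =>
    hgc (T.octW_le_A0 (B.pair_mem_octW ha hb))
  obtain ⟨a, ha, b, hb, hab⟩ := Finset.one_lt_card.1 (show 1 < oct.card by rw [oct_mem.2]; norm_num)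
  obtain ⟨h1, h2⟩ := B.duad_not_conj hG hJ hab
  have hgN : g ∈ B.NV := B.centralizer_duad_le hG hJ (B.vel_mem (pairCode_lt a b)) h1 h2
    (Subgroup.mem_centralizer_singleton_iff.2 (hpr ha hb).eq)
  obtain ⟨v, hv, e⟩ := T.exists_split_lift hgN
  set σ := T.Φ ⟨g, hgN⟩ with hσ
  have hfix : ∀ x ∈ oct, σ.1 x = x := by
    intro x hx
    obtain ⟨y, hy, z, hz, hyz⟩ := Finset.one_lt_card.1 (show 1 < (oct.erase x).card by
      rw [Finset.card_erase_of_mem hx, oct_mem.2]; norm_num)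
    have hxy := (Finset.ne_of_mem_erase hy).symm
    have hxz := (Finset.ne_of_mem_erase hz).symm
    rcases B.pair_fixed (m := ⟨g, hgN⟩) (T.hmov _) hxy (hpr hx (Finset.mem_of_mem_erase hy)) with ⟨u, -⟩ | ⟨u, -⟩
    · exact u
    · rcases B.pair_fixed (m := ⟨g, hgN⟩) (T.hmov _) hxz (hpr hx (Finset.mem_of_mem_erase hz)) with ⟨w, -⟩ | ⟨w, -⟩
      · exact w
      · exact absurd (u.symm.trans w) hyz
  obtain ⟨s, hs⟩ := fixer_eq σ.2 hfix
  have hσs : T.lift σ = T.kk s := congrArg T.lift (Subtype.ext hs)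
  rw [e, hσs]
  refine mul_mem (T.octW_le_A0 ?_) (T.kk_mem_A0 s)
  obtain ⟨n, hn, rfl⟩ := hv
  have hvc : ∀ x ∈ T.A0, Commute (B.vel n) x := fun x hx => by
    have h := (hgc hx).mul_left (hc (inv_mem (T.kk_mem_A0 s)) hx)
    rwa [e, hσs, mul_inv_cancel_right] at h
  refine (B.mem_octW_oct hn).2 ?_
  have hw := forallLt_elim w_fixed hn
  rw [beq_iff_eq] at hw
  rw [hw]
  refine (forallLt_iff _ _).2 fun k hk => ?_
  have h := (B.commute_iff_act (T.kk_mem (gi ⟨k, hk⟩)) hn).1 (hvc _ (T.kk_mem_A0 _)).symm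
  rw [T.kk_act _ hn] at h
  exact (congrArg (Nat.beq · n) h).trans (Nat.beq_refl n)

/-- A self-centralizing subgroup in the normalizer of `V` is conjugate to the standard one. -/
theorem conj_A0_of_le [IsSimpleGroup G] (hG : ¬ IsMulCommutative G) (hJ : IsOfJankoFourType G) {A : Subgroup G}
    (hA : Self A) (hN : A ≤ B.NV) : ∃ n ∈ B.NV, T.A0.map (MulAut.conj n).toMonoidHom = A := by
  classical
  obtain ⟨o, ho, hAV, -, -⟩ := B.classify hG hJ T hA hN
  obtain ⟨g, hg⟩ := exists_to_oct ho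
  set m := T.lift g
  have hm : m ∈ B.NV := T.lift_mem g
  set A1 := A.map (MulAut.conj m).toMonoidHom with hA1def
  have hA1 : Self A1 := self_map hA m
  have hN1 : A1 ≤ B.NV := by
    rintro _ ⟨a, ha, rfl⟩
    exact mul_mem (mul_mem hm (hN ha)) (inv_mem hm)
  obtain ⟨o1, ho1, hAV1, -, hex⟩ := B.classify hG hJ T hA1 hN1
  have hV1 : A1 ⊓ B.V = B.octW oct := by
    rw [← hg, ← B.octW_map hm (T.moves_lift g), ← hAV, Subgroup.map_inf _ _ _ (MulAut.conj m).injective, ← hA1def,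
      map_conj_self hm]
  obtain rfl : o1 = oct := B.octW_inj ho1 (by rw [← hAV1, hV1])
  have hW1 : B.octW oct ≤ A1 := hV1 ▸ inf_le_left
  have hc1 : ∀ {x y}, x ∈ A1 → y ∈ A1 → Commute x y := fun {x y} hx hy =>
    congrArg Subtype.val (hA1.1.1.1.1 ⟨x, hx⟩ ⟨y, hy⟩)
  have hu : ∀ i : Fin 4, ∃ u < 2048, B.vel u * T.kk (gi i) ∈ A1 := fun i => by
    obtain ⟨a, ha, e⟩ := hex (fixP (gi i)) (fixP_mem _) fun x hx => fixP_fix _ hx
    obtain ⟨v, hv, e'⟩ := T.exists_split_lift (hN1 ha)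
    obtain ⟨n, hn, rfl⟩ := hv
    refine ⟨n, hn, ?_⟩
    rw [show T.kk (gi i) = T.lift (T.Φ ⟨a, hN1 ha⟩) from congrArg T.lift (Subtype.ext e.symm), ← e']
    exact ha
  choose u hu2 huA using hu
  have hflt : ∀ (s : Fin 16) {n}, n < 2048 → fImg s.1 n < 2048 := fun s {n} hn => by
    rw [← T.kk_act s hn]; exact B.act_lt _ _
  have hfx : ∀ (s : Fin 16) {n}, n < 2048 → wMask.testBit n = true → fImg s.1 n = n := fun s {n} hn h => by
    rw [← T.kk_act s hn]
    exact (B.commute_iff_act (T.kk_mem s) hn).1 (T.kk_commute s ((B.mem_octW_oct hn).2 h))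
  have hprod : ∀ i j, B.vel (u i) * T.kk (gi i) * (B.vel (u j) * T.kk (gi j)) =
      B.vel (Nat.xor (u i) (fImg (gi i).1 (u j))) * T.kk (xfin (gi i) (gi j)) := fun i j => by
    rw [← B.vel_xor, ← T.kk_mul, ← mul_assoc, mul_assoc (B.vel (u i)), T.kk_conj _ (hu2 j)]
    group
  have hsym : ∀ i j, Nat.xor (u i) (fImg (gi i).1 (u j)) = Nat.xor (u j) (fImg (gi j).1 (u i)) := fun i j => by
    refine B.vel_inj (Nat.xor_lt_two_pow (n := 11) (hu2 i) (hflt _ (hu2 j)))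
      (Nat.xor_lt_two_pow (n := 11) (hu2 j) (hflt _ (hu2 i))) (mul_right_cancel (b := T.kk (xfin (gi i) (gi j))) ?_)
    rw [← hprod, (hc1 (huA i) (huA j)).eq, hprod]
    congr 2
    exact Fin.ext (Nat.xor_comm _ _)
  have hfix : ∀ i, fImg (gi i).1 (u i) = u i := fun i => by
    have h : Nat.xor (u i) (fImg (gi i).1 (u i)) = 0 := by
      refine B.vel_inj (Nat.xor_lt_two_pow (n := 11) (hu2 i) (hflt _ (hu2 i))) (by norm_num)
        (mul_right_cancel (b := T.kk (xfin (gi i) (gi i))) ?_)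
      rw [← hprod, ← pow_two, hA1.1.2 _ (huA i), B.vel_zero, xfin_self, T.kk_zero, one_mul]
    exact (Nat.xor_eq_zero_iff.1 h).symm
  let β : Fin 4 → Bool := fun i => !wMask.testBit (u i)
  obtain ⟨b, hb⟩ := exists_bits β
  set ee : Fin 4 → ℕ := fun i => Nat.mul (bitAt b.1 i.1) (eReps.getD i.1 0) with hee
  have he : ∀ i, ee i < 2048 ∧ wMask.testBit (Nat.xor (u i) (ee i)) = true := fun i => by
    have h := forallLt_elim e_reps i.2
    simp only [Bool.and_eq_true, Nat.blt_eq] at h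
    have h3 := forallLt_elim h.2 (hu2 i)
    rw [show Nat.beq (fImg (genIdx i.1) (u i)) (u i) = true from
      (congrArg (Nat.beq · (u i)) (hfix i)).trans (Nat.beq_refl _)] at h3
    simp only [Bool.not_true, Bool.false_or, Bool.or_eq_true] at h3
    rcases Bool.eq_false_or_eq_true (wMask.testBit (u i)) with hw | hw
    swap
    · simp only [hee, hb i, β, hw, Bool.not_false, if_true]
      refine ⟨?_, ?_⟩
      · show Nat.mul 1 _ < 2048
        rw [show Nat.mul 1 (eReps.getD i.1 0) = eReps.getD i.1 0 from Nat.one_mul _]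
        exact h.1.1
      · rw [hw] at h3
        show wMask.testBit (Nat.xor (u i) (Nat.mul 1 _)) = true
        rw [show Nat.mul 1 (eReps.getD i.1 0) = eReps.getD i.1 0 from Nat.one_mul _]
        exact h3.resolve_left (by simp)
    · simp only [hee, hb i, β, hw, Bool.not_true, Bool.false_eq_true, if_false]
      rw [show Nat.mul 0 (eReps.getD i.1 0) = 0 from Nat.zero_mul _]
      exact ⟨by norm_num, by rw [show Nat.xor (u i) 0 = u i from Nat.xor_zero _]; exact hw⟩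
  have hw' : ∀ i, ∃ w < 2048, wMask.testBit w = true ∧ u i = w ^^^ ee i := fun i =>
    ⟨u i ^^^ ee i, Nat.xor_lt_two_pow (n := 11) (hu2 i) (he i).1, (he i).2, by rw [Nat.xor_assoc, Nat.xor_self, Nat.xor_zero]⟩
  have hxor : ∀ (s : Fin 16) a c, fImg s.1 (a ^^^ c) = fImg s.1 a ^^^ fImg s.1 c := fun s a c => limg_xor _ a c
  have hck := forallLt_elim cocycle_masks b.2
  have hprem : forallLt 4 (fun i => forallLt 4 fun j => Nat.beq
      (Nat.xor (Nat.mul (bitAt b.1 i) (eReps.getD i 0)) (fImg (genIdx i) (Nat.mul (bitAt b.1 j) (eReps.getD j 0))))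
      (Nat.xor (Nat.mul (bitAt b.1 j) (eReps.getD j 0)) (fImg (genIdx j) (Nat.mul (bitAt b.1 i) (eReps.getD i 0))))) = true := by
    refine (forallLt_iff _ _).2 fun i hi => (forallLt_iff _ _).2 fun j hj => ?_
    have h := hsym ⟨i, hi⟩ ⟨j, hj⟩
    obtain ⟨w, hwlt, hwm, hwe⟩ := hw' ⟨i, hi⟩
    obtain ⟨w', hwlt', hwm', hwe'⟩ := hw' ⟨j, hj⟩
    rw [hwe, hwe', hxor, hxor, hfx _ hwlt hwm, hfx _ hwlt' hwm'] at h
    refine Nat.beq_eq.symm ▸ ?_
    change (w ^^^ ee ⟨i, hi⟩) ^^^ (w' ^^^ fImg (genIdx i) (ee ⟨j, hj⟩)) =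
      (w' ^^^ ee ⟨j, hj⟩) ^^^ (w ^^^ fImg (genIdx j) (ee ⟨i, hi⟩)) at h
    show ee ⟨i, hi⟩ ^^^ fImg (genIdx i) (ee ⟨j, hj⟩) = ee ⟨j, hj⟩ ^^^ fImg (genIdx j) (ee ⟨i, hi⟩)
    refine Nat.xor_right_injective (x := w ^^^ w') ?_
    simp only
    calc (w ^^^ w') ^^^ (ee ⟨i, hi⟩ ^^^ fImg (genIdx i) (ee ⟨j, hj⟩))
        = (w ^^^ ee ⟨i, hi⟩) ^^^ (w' ^^^ fImg (genIdx i) (ee ⟨j, hj⟩)) := by ac_rfl
      _ = _ := h
      _ = (w ^^^ w') ^^^ (ee ⟨j, hj⟩ ^^^ fImg (genIdx j) (ee ⟨i, hi⟩)) := by ac_rfl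
  rw [hprem, Bool.not_true, Bool.false_or] at hck
  obtain ⟨x, hx, hxW⟩ := exists_of_forallLt_not hck
  have hnV : B.vel x ∈ B.V := B.vel_mem hx
  refine ⟨m⁻¹ * B.vel x, mul_mem (inv_mem hm) (Subgroup.le_normalizer hnV), ?_⟩
  have hinv : (B.vel x)⁻¹ = B.vel x := inv_eq_of_mul_eq_one_right (by
    rw [B.vel_xor, show Nat.xor x x = 0 from Nat.xor_self x, B.vel_zero])
  have hle : T.A0.map (MulAut.conj (B.vel x)).toMonoidHom ≤ A1 := by
    rw [Subgroup.map_le_iff_le_comap]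
    have hWc : B.octW oct ≤ A1.comap (MulAut.conj (B.vel x)).toMonoidHom := fun y hy => by
      show B.vel x * y * (B.vel x)⁻¹ ∈ A1
      rw [(B.commute_V hnV (B.octW_le_V oct hy)).eq, mul_inv_cancel_right]
      exact hW1 hy
    have hk : ∀ s, T.kk s ∈ A1.comap (MulAut.conj (B.vel x)).toMonoidHom := by
      refine fin16_induction (by rw [T.kk_zero]; exact one_mem _) (fun i => ?_) fun a c h1 h2 => by
        rw [← T.kk_mul]; exact mul_mem h1 h2
      show B.vel x * T.kk (gi i) * (B.vel x)⁻¹ ∈ A1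
      rw [hinv, mul_assoc, T.kk_conj _ hx, ← mul_assoc, B.vel_xor]
      have hb' := forallLt_elim hxW i.2
      obtain ⟨w, hwlt, hwm, hwe⟩ := hw' i
      have e : Nat.xor x (fImg (gi i).1 x) = (fComm (genIdx i.1) x ^^^ ee i ^^^ w) ^^^ u i := by
        rw [hwe]
        show x ^^^ fImg (genIdx i.1) x = (x ^^^ fImg (genIdx i.1) x ^^^ ee i ^^^ w) ^^^ (w ^^^ ee i)
        calc x ^^^ fImg (genIdx i.1) x = (x ^^^ fImg (genIdx i.1) x) ^^^ ((ee i ^^^ w) ^^^ (ee i ^^^ w)) := by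
              rw [Nat.xor_self, Nat.xor_zero]
          _ = _ := by ac_rfl
      rw [e, ← show B.vel (fComm (genIdx i.1) x ^^^ ee i ^^^ w) * B.vel (u i) =
        B.vel ((fComm (genIdx i.1) x ^^^ ee i ^^^ w) ^^^ u i) from B.vel_xor _ _, mul_assoc]
      refine mul_mem (hW1 ?_) (huA i)
      have hlt : fComm (genIdx i.1) x ^^^ ee i < 2048 :=
        Nat.xor_lt_two_pow (n := 11) (Nat.xor_lt_two_pow (n := 11) hx (hflt (gi i) hx)) (he i).1
      rw [← show B.vel (fComm (genIdx i.1) x ^^^ ee i) * B.vel w =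
        B.vel (fComm (genIdx i.1) x ^^^ ee i ^^^ w) from B.vel_xor _ _]
      exact mul_mem ((B.mem_octW_oct hlt).2 hb') ((B.mem_octW_oct hwlt).2 hwm)
    rintro _ ⟨c, hc, rfl⟩
    exact mul_mem (hWc (wel_mem (Nat.mod_lt _ (by norm_num)))) (hk _)
  have heq : T.A0.map (MulAut.conj (B.vel x)).toMonoidHom = A1 := Subgroup.eq_of_le_of_card_ge hle (by
    rw [← Nat.card_congr (T.A0.equivMapOfInjective (MulAut.conj (B.vel x)).toMonoidHom
      (MulAut.conj (B.vel x)).injective).toEquiv, T.card_A0, hA1.2.1])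
  ext y
  have := congrArg (fun H : Subgroup G => m * y * m⁻¹ ∈ H) heq
  simp only [hA1def, mem_map_conj] at this
  rw [mem_map_conj]
  simpa [mul_assoc] using this

/-- Every self-centralizing subgroup of this order is conjugate to the standard one. -/
theorem conj_A0 [IsSimpleGroup G] (hG : ¬ IsMulCommutative G) (hJ : IsOfJankoFourType G) {A : Subgroup G}
    (hA : Self A) : ∃ g : G, T.A0.map (MulAut.conj g).toMonoidHom = A := by
  haveI : Fact (Nat.Prime 2) := ⟨Nat.prime_two⟩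
  obtain ⟨P, hP⟩ := (IsPGroup.of_card (n := 10) hA.2.1).exists_le_sylow
  obtain ⟨W, ⟨hWP, hW, cW⟩, huniq⟩ := CfsgLib.JankoFourTwo.janko_four_two_eleven hJ P
  obtain ⟨k, -, hk⟩ := conj_in hJ hW cW B.V_elementary B.card_V (K := ⊤) le_top le_top
  have hAN : A.map (MulAut.conj k).toMonoidHom ≤ B.NV := by
    rintro _ ⟨a, ha, rfl⟩
    refine norm_of_map ?_
    have ha' : W.map (MulAut.conj a).toMonoidHom = W := huniq _ ⟨by
      rintro _ ⟨w, hw, rfl⟩
      exact mul_mem (mul_mem (hP ha) (hWP hw)) (inv_mem (hP ha)), elementary_map hW a,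
      by rw [Subgroup.card_map_of_injective (MulAut.conj a).injective, cW]⟩
    conv_lhs => rw [← hk]
    conv_rhs => rw [← hk, ← ha']
    ext y
    simp only [mem_map_conj]
    show _ ↔ _
    simp [mul_assoc]
  obtain ⟨n, -, hn⟩ := T.conj_A0_of_le hG hJ (self_map hA k) hAN
  refine ⟨k⁻¹ * n, ?_⟩
  ext y
  have h := congrArg (fun H : Subgroup G => k * y * k⁻¹ ∈ H) hn
  simp only [mem_map_conj] at h
  rw [mem_map_conj]
  simpa [mul_assoc] using h

end TenBase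

end HexBase

end CfsgLib.JankoFour
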